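import Cfsg.Agent.H341.ThreeElts2
import Cfsg.Agent.S0252
import Cfsg.Agent.S0253
import Cfsg.Agent.S0254
import Cfsg.Agent.S0255
import Cfsg.Agent.S0256
import Mathlib
import Cfsg.Agent.ClassicalGeometry.PSLTorus
import Cfsg.Agent.Lib.Cores
import Cfsg.Agent.PLocal.CoprimeLift
import Cfsg.Agent.S0033
import Cfsg.Agent.FastGrp
import Cfsg.Agent.Prune
set_option linter.all false

section
prune_inst 0x7ffefefbaffa2ddeffff7e7fffdddffdbbfdffffffdff9cbffe8ebffafdf6b16ebe5fbaf8fe8f8fe4ef6e29c10f87b53fdffceffeb6bdc7ffffd5ff45ffbff9fffffbfad71f7bc3e1ffe6ffffbf07fce7f3fffffffffffffffffffffffffffbeffffffffffff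

-- part: H341/ThreeFin
section
prune_inst 0x1010450015221000000000020200240020000000002300016100010209008101000007003030120001c622a05048c02003000049420000002a000200400400000001208000100c00110000009801000000000000000000000000000000000000000000000
set_option linter.all false
open scoped Cfsg.Agent.FastGrp

/-!
# Known simple groups with small centralizers of elements of order 3 (helper341)

* `three` : a known simple group with a self-centralizing Sylow 3-subgroup of order 3 is `A₅` or `PSL₂(7)`;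
* `nine` : a known simple group with 3-part 9, no elements of order 9, and `Hyp`.
-/

set_option autoImplicit false

namespace Cfsg.Agent.H341.ThreeFin

open Matrix Subgroup Cfsg OrdDiv Cfsg.Agent.H341.ThreeList Cfsg.Agent.H341.ThreeElts

universe u

/-- cancel a factor prime to 3 -/
theorem of_mul9 {d c n : ℕ} (hd : ¬ 3 ∣ d) (h : d * c = n) (hn : 9 ∣ n) : 9 ∣ c := by
  rw [← h] at hn
  have h1 : Nat.Coprime 9 d := by
    have h2 : Nat.Coprime 3 d := (Nat.Prime.coprime_iff_not_dvd Nat.prime_three).2 hd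
    have := Nat.Coprime.pow_left 2 h2
    simpa using this
  exact h1.dvd_of_dvd_mul_left hn

theorem sq_sub {q : ℕ} : q ^ 2 - 1 = (q - 1) * (q + 1) := by
  have := Nat.sq_sub_sq q 1
  rw [one_pow] at this
  rw [this, mul_comm]

section

variable {F : Type} [Field F] [Fintype F]

/-- the order of `PSL₃(q)` -/
theorem card_psl3 : Nat.gcd 3 (Fintype.card F - 1) * Nat.card (ProjectiveSpecialLinearGroup (Fin 3) F) =
    Fintype.card F ^ 3 * ((Fintype.card F ^ 2 - 1) * (Fintype.card F ^ 3 - 1)) := by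
  have h := card_psl (F := F) (n := 3) (by norm_num)
  rw [show 3 - 1 = 2 by rfl, Finset.prod_range_succ, Finset.prod_range_succ, Finset.prod_range_zero, one_mul] at h
  norm_num at h
  exact h

theorem card_psu3 {q : ℕ} (hF : Fintype.card F = q ^ 2) : Nat.gcd 3 (q + 1) * Nat.card (PSU 3 F q) =
    q ^ 3 * ((q ^ 2 - 1) * (q ^ 3 + 1)) := by
  have h := card_psu (F := F) (n := 3) hF (by norm_num)
  rw [show 3 - 1 = 2 by rfl, Finset.prod_range_succ, Finset.prod_range_succ, Finset.prod_range_zero, one_mul,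
    if_pos (by decide), if_neg (by decide)] at h
  norm_num at h
  exact h

theorem nine_psl3 (h : Fintype.card F % 3 = 1) : 9 ∣ Nat.card (ProjectiveSpecialLinearGroup (Fin 3) F) := by
  have hq1 : 1 < Fintype.card F := Fintype.one_lt_card
  have hc := card_psl3 (F := F)
  have hg : Nat.gcd 3 (Fintype.card F - 1) = 3 := Nat.gcd_eq_left (by omega)
  rw [hg] at hc
  have h1 : 3 * 9 ∣ 3 * Nat.card (ProjectiveSpecialLinearGroup (Fin 3) F) := by
    rw [hc]
    exact Dvd.dvd.mul_left (mul_dvd_mul (three_sq (by omega)) (nine_cube h)) _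
  exact Nat.dvd_of_mul_dvd_mul_left (by norm_num) h1

theorem nine_psu3 {q : ℕ} (hF : Fintype.card F = q ^ 2) (h : q % 3 = 2) : 9 ∣ Nat.card (PSU 3 F q) := by
  have hc := card_psu3 hF
  have hg : Nat.gcd 3 (q + 1) = 3 := Nat.gcd_eq_left (by omega)
  rw [hg] at hc
  have h1 : 3 * 9 ∣ 3 * Nat.card (PSU 3 F q) := by
    rw [hc]
    exact Dvd.dvd.mul_left (mul_dvd_mul (three_sq (by omega)) (nine_cube' h)) _
  exact Nat.dvd_of_mul_dvd_mul_left (by norm_num) h1

theorem nine_psp4 (h : ¬ 3 ∣ Fintype.card F) : 9 ∣ Nat.card (PSp 2 F) := by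
  have hc := card_psp (F := F) (m := 2) (by norm_num)
  rw [Finset.prod_range_succ, Finset.prod_range_succ, Finset.prod_range_zero, one_mul] at hc
  norm_num at hc
  refine of_mul9 not_dvd_gcd_two hc (Dvd.dvd.mul_left ?_ _)
  exact (by norm_num : 9 ∣ 3 * 3).trans (mul_dvd_mul (three_sq h) (three_four h))

theorem nine_psl {n : ℕ} (hn : n = 4 ∨ n = 5) (h : Fintype.card F % 3 = 2) :
    9 ∣ Nat.card (ProjectiveSpecialLinearGroup (Fin n) F) := by
  have hc := card_psl (F := F) (n := n) (by omega)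
  refine of_mul9 (fun h' => ?_) hc (Dvd.dvd.mul_left (dvd_trans ?_
    (Finset.prod_dvd_prod_of_subset _ _ _ (Finset.range_subset_range.2 (show 3 ≤ n - 1 by omega)))) _)
  · have := h'.trans (Nat.gcd_dvd_right _ _)
    omega
  · rw [Finset.prod_range_succ, Finset.prod_range_succ, Finset.prod_range_succ, Finset.prod_range_zero, one_mul]
    norm_num
    exact (by norm_num : 9 ∣ 3 * 1 * 3).trans (mul_dvd_mul (mul_dvd_mul (three_sq (by omega)) (one_dvd _))
      (three_four (by omega)))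

theorem nine_psu {n q : ℕ} (hF : Fintype.card F = q ^ 2) (hn : n = 4 ∨ n = 5) (h : q % 3 = 1) :
    9 ∣ Nat.card (PSU n F q) := by
  have hc := card_psu (F := F) (n := n) hF (by omega)
  refine of_mul9 (fun h' => ?_) hc (Dvd.dvd.mul_left (dvd_trans ?_
    (Finset.prod_dvd_prod_of_subset _ _ _ (Finset.range_subset_range.2 (show 3 ≤ n - 1 by omega)))) _)
  · have := h'.trans (Nat.gcd_dvd_right _ _)
    omega
  · rw [Finset.prod_range_succ, Finset.prod_range_succ, Finset.prod_range_succ, Finset.prod_range_zero, one_mul,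
      if_pos (by decide), if_neg (by decide), if_pos (by decide)]
    norm_num
    exact (by norm_num : 9 ∣ 3 * 1 * 3).trans (mul_dvd_mul (mul_dvd_mul (three_sq (by omega)) (one_dvd _))
      (three_four (by omega)))

end

/-- **A known simple group with a self-centralizing Sylow 3-subgroup of order 3.** -/
theorem three (T : OrderTable.{u})
    (hJ : ∀ (S : Type u) [Group S], Spor.IsoJ1 S → ∃ g k : S, orderOf g = 3 ∧ g * k = k * g ∧ k ^ 3 ≠ 1)
    {K : Type u} [Group K] [Finite K] (h : IsKnownSimple' K)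
    (hna : ¬ ∀ a b : K, a * b = b * a) (h3 : 3 ∣ Nat.card K) (h9 : ¬ 9 ∣ Nat.card K)
    (hc : ∀ g k : K, orderOf g = 3 → g * k = k * g → k ^ 3 = 1) :
    Nonempty (K ≃* ↥(alternatingGroup (Fin 5))) ∨
      Nonempty (K ≃* Matrix.ProjectiveSpecialLinearGroup (Fin 2) (ZMod 7)) := by
  have h27 : ¬ 27 ∣ Nat.card K := fun h' => h9 ((by norm_num : 9 ∣ 27).trans h')
  have htr : ∀ {L : Type} [Group L], (K ≃* L) → ∀ g k : L, orderOf g = 3 → g * k = k * g → k ^ 3 = 1 := by
    intro L _ e g k hg hk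
    apply e.symm.injective
    rw [map_pow, map_one]
    exact hc (e.symm g) (e.symm k) (by rw [MulEquiv.orderOf_eq, hg]) (by rw [← map_mul, hk, map_mul])
  have hnn : ∀ {L : Type} [Group L], (K ≃* L) → ¬ 9 ∣ Nat.card L := by
    intro L _ e
    rw [← Nat.card_congr e.toEquiv]
    exact h9
  have key : ∀ (x : Grp × ℕ), x ∈ spor → x.2 % 9 = 0 → Real x.1 K → False := fun x hx h0 hr => by
    apply h9
    rw [T.spor K x hx hr]
    exact Nat.dvd_of_mod_eq_zero h0
  rcases kind_of_known T h hna h3 h27 with ⟨n, h5, h8, ⟨e⟩⟩ | ⟨F, _, _, hq, ⟨e⟩⟩ | ⟨F, _, _, hq, hq9, ⟨e⟩⟩ |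
    ⟨F, _, _, hq, ⟨e⟩⟩ | ⟨F, _, _, hq, ⟨e⟩⟩ | ⟨F, _, _, q, hF, hq, hq2, hq9, ⟨e⟩⟩ | ⟨F, _, _, q, hF, hq, ⟨e⟩⟩ |
    ⟨F, _, _, q, hF, hq, ⟨e⟩⟩ | ⟨F, _, _, hq, hq4, hq9, ⟨e⟩⟩ | hs | hs | hs | hs | hs
  · rcases Nat.lt_or_ge n 6 with h6 | h6
    · obtain rfl : n = 5 := by omega
      exact Or.inl ⟨e⟩
    · exfalso
      apply h9
      refine of_mul9 (by norm_num) (alt_card (by omega) e).symm ?_
      exact dvd_trans (by decide) (Nat.factorial_dvd_factorial h6)
  · have hq3 : ¬ 3 ∣ Fintype.card F := by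
      intro h'
      apply hnn e
      have hc' := card_psl (F := F) (n := 2) le_rfl
      rw [show 2 - 1 = 1 by rfl, Finset.prod_range_one] at hc'
      norm_num at hc'
      refine of_mul9 not_dvd_gcd_two hc' (Dvd.dvd.mul_right ?_ _)
      obtain ⟨p, hp⟩ := CharP.exists F
      obtain ⟨n, hpp, hn⟩ := FiniteField.card F p
      have hp3 : p = 3 := by
        rw [hn] at h'
        exact ((Nat.prime_dvd_prime_iff_eq Nat.prime_three hpp).1 (Nat.prime_three.dvd_of_dvd_pow h')).symm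
      subst hp3
      have hn2 : 2 ≤ (n : ℕ) := by
        by_contra h6
        have hn0 : 1 ≤ (n : ℕ) := n.2
        have hn1 : (n : ℕ) = 1 := by omega
        rw [hn1, pow_one] at hn
        omega
      rw [hn]
      exact (by norm_num : 9 ∣ 3 ^ 2).trans (pow_dvd_pow 3 hn2)
    rcases psl2_three hq3 hq (htr e) with h4 | h5 | h7
    · obtain ⟨f⟩ := S0252.result h4
      exact Or.inl ⟨e.trans f⟩
    · obtain ⟨f⟩ := S0253.result h5
      exact Or.inl ⟨e.trans f⟩
    · right
      have h2 : Fintype.card (ZMod 2) = 2 := ZMod.card 2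
      have h77 : Fintype.card (ZMod 7) = 7 := ZMod.card 7
      have : Fact (Nat.Prime 7) := ⟨by norm_num⟩
      obtain ⟨f⟩ := S0255.result (F := F) (K := ZMod 2) h7 h2
      obtain ⟨g⟩ := S0255.result (F := ZMod 7) (K := ZMod 2) h77 h2
      exact ⟨(e.trans f).trans g.symm⟩
  · have hq1 : 1 < Fintype.card F := Fintype.one_lt_card
    have hq3 : Fintype.card F % 3 = 1 ∨ Fintype.card F % 3 = 2 := by omega
    rcases hq3 with hq3 | hq3
    · exact absurd (nine_psl3 hq3) (hnn e)
    · right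
      obtain ⟨g, k, hg, hgk, hk⟩ := psl3_elt hq3
      have h1 := Nat.le_of_dvd (by norm_num) (hk 3 (htr e g k hg hgk))
      have h4 : Fintype.card F = 2 ∨ Fintype.card F = 3 ∨ Fintype.card F = 4 := by omega
      have h5 : Fintype.card F = 2 := by omega
      have h77 : Fintype.card (ZMod 7) = 7 := ZMod.card 7
      have : Fact (Nat.Prime 7) := ⟨by norm_num⟩
      obtain ⟨f⟩ := S0255.result (F := ZMod 7) (K := F) h77 h5
      exact ⟨e.trans f.symm⟩
  · exact absurd (nine_psl (Or.inl rfl) (by omega)) (hnn e)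
  · exact absurd (nine_psl (Or.inr rfl) (by omega)) (hnn e)
  · have hq3 : q % 3 = 1 ∨ q % 3 = 2 := by omega
    rcases hq3 with hq3 | hq3
    · exfalso
      obtain ⟨g, k, hg, hgk, hk⟩ := psu3_elt hF hq3
      have h1 := Nat.le_of_dvd (by norm_num) (hk 3 (htr e g k hg hgk))
      have h2 := one_lt_q hF
      omega
    · exact absurd (nine_psu3 hF hq3) (hnn e)
  · exact absurd (nine_psu hF (Or.inl rfl) (by omega)) (hnn e)
  · exact absurd (nine_psu hF (Or.inr rfl) (by omega)) (hnn e)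
  · exact absurd (nine_psp4 hq) (hnn e)
  · exact (key (.m11, 7920) (by decide) (by norm_num) hs).elim
  · exact (key (.m22, 443520) (by decide) (by norm_num) hs).elim
  · exact (key (.m23, 10200960) (by decide) (by norm_num) hs).elim
  · exact (key (.hs, 44352000) (by decide) (by norm_num) hs).elim
  · obtain ⟨g, k, hg, hgk, hk⟩ := hJ K hs
    exact absurd (hc g k hg hgk) hk

/-- The outcome of `nine`. -/
inductive Kind9 (K : Type u) [Group K] : Prop
  | alt6 (e : Nonempty (K ≃* ↥(alternatingGroup (Fin 6)))) : Kind9 K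
  | alt7 (e : Nonempty (K ≃* ↥(alternatingGroup (Fin 7)))) : Kind9 K
  | alt8 (e : Nonempty (K ≃* ↥(alternatingGroup (Fin 8)))) : Kind9 K
  | tri (h : Tri K) : Kind9 K
  | psp4 (F : Type) (_ : Field F) (_ : Fintype F) (hq : Fintype.card F = 4) (e : Nonempty (K ≃* PSp 2 F)) : Kind9 K
  | m11 (h : Spor.IsoM11 K) : Kind9 K
  | m22 (h : Spor.IsoM22 K) : Kind9 K
  | m23 (h : Spor.IsoM23 K) : Kind9 K
  | hs (h : Spor.IsoHS K) : Kind9 K

/-- **A known simple group of 3-part 9, no elements of order 9 and small centralizers of elements of order 3.** -/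
theorem nine (T : OrderTable.{u}) {K : Type u} [Group K] [Finite K] (h : IsKnownSimple' K)
    (hna : ¬ ∀ a b : K, a * b = b * a) (h9 : 9 ∣ Nat.card K) (h27 : ¬ 27 ∣ Nat.card K)
    (hel : ∀ g : K, orderOf g ≠ 9) (hH : Hyp K) : Kind9 K := by
  have h3 : 3 ∣ Nat.card K := (by norm_num : 3 ∣ 9).trans h9
  have hnn : ∀ {L : Type} [Group L], (K ≃* L) → 9 ∣ Nat.card L := by
    intro L _ e
    rw [← Nat.card_congr e.toEquiv]
    exact h9
  have hnn' : ∀ {L : Type} [Group L], (K ≃* L) → ¬ 27 ∣ Nat.card L := by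
    intro L _ e
    rw [← Nat.card_congr e.toEquiv]
    exact h27
  rcases kind_of_known T h hna h3 h27 with ⟨n, h5, h8, ⟨e⟩⟩ | ⟨F, _, _, hq, ⟨e⟩⟩ | ⟨F, _, _, hq, hq9, ⟨e⟩⟩ |
    ⟨F, _, _, hq, ⟨e⟩⟩ | ⟨F, _, _, hq, ⟨e⟩⟩ | ⟨F, _, _, q, hF, hq, hq2, hq9, ⟨e⟩⟩ | ⟨F, _, _, q, hF, hq, ⟨e⟩⟩ |
    ⟨F, _, _, q, hF, hq, ⟨e⟩⟩ | ⟨F, _, _, hq, hq4, hq9, ⟨e⟩⟩ | hs | hs | hs | hs | hs
  · have hn : n = 5 ∨ n = 6 ∨ n = 7 ∨ n = 8 := by omega
    rcases hn with rfl | rfl | rfl | rfl
    · exfalso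
      have h1 := alt_card (by omega) e
      rw [show Nat.factorial 5 = 2 * 60 by rfl] at h1
      have h2 := Nat.eq_of_mul_eq_mul_left (by norm_num) h1
      rw [← h2] at h9
      norm_num at h9
    · exact .alt6 ⟨e⟩
    · exact .alt7 ⟨e⟩
    · exact .alt8 ⟨e⟩
  · have h1 := psl2_nine hq (hnn e) (hnn' e) (fun g hg => hel (e.symm g) (by rw [MulEquiv.orderOf_eq, hg]))
    obtain ⟨f⟩ := S0254.result h1
    exact .alt6 ⟨e.trans f⟩
  · have hq1 : 1 < Fintype.card F := Fintype.one_lt_card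
    have hq3 : Fintype.card F % 3 = 1 ∨ Fintype.card F % 3 = 2 := by omega
    rcases hq3 with hq3 | hq3
    · exact .tri ((psl3_tri (by omega)).congr e.symm)
    · exfalso
      have h1 := hnn e
      have h2 := card_psl3 (F := F)
      have hg : Nat.gcd 3 (Fintype.card F - 1) = 1 :=
        (Nat.Prime.coprime_iff_not_dvd Nat.prime_three).2 (by omega)
      rw [hg, one_mul] at h2
      rw [h2] at h1
      have hc3 : Nat.Coprime 9 (Fintype.card F ^ 3) := by
        have h4 : Nat.Coprime 3 (Fintype.card F) := (Nat.Prime.coprime_iff_not_dvd Nat.prime_three).2 hq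
        have := Nat.Coprime.pow 2 3 h4
        simpa using this
      have h4 := hc3.dvd_of_dvd_mul_left h1
      have hc4 : Nat.Coprime 9 (Fintype.card F ^ 3 - 1) := by
        have h5 : ¬ 3 ∣ Fintype.card F ^ 3 - 1 := by
          have h6 : Fintype.card F ^ 3 % 3 = 2 := by rw [Nat.pow_mod, hq3]
          omega
        have h4 : Nat.Coprime 3 (Fintype.card F ^ 3 - 1) := (Nat.Prime.coprime_iff_not_dvd Nat.prime_three).2 h5
        have := Nat.Coprime.pow_left 2 h4
        simpa using this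
      have h5 := hc4.dvd_of_dvd_mul_right h4
      rw [sq_sub] at h5
      have hc5 : Nat.Coprime 9 (Fintype.card F - 1) := by
        have h4 : Nat.Coprime 3 (Fintype.card F - 1) :=
          (Nat.Prime.coprime_iff_not_dvd Nat.prime_three).2 (by omega)
        have := Nat.Coprime.pow_left 2 h4
        simpa using this
      have h6 := hc5.dvd_of_dvd_mul_left h5
      obtain ⟨g, k, hg, hgk, hk⟩ := psl3_elt hq3
      rcases (hH.congr e).exp g k hg hgk with h7 | h7
      · have h8 := hk 12 h7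
        have h10 := Nat.le_of_dvd (by norm_num) h8
        have h11 : Fintype.card F = 8 := by omega
        rw [h11] at h8
        norm_num at h8
      · have h8 := hk 15 h7
        have h10 := Nat.le_of_dvd (by norm_num) h8
        have h11 : Fintype.card F = 8 := by omega
        rw [h11] at h8
        norm_num at h8
  · have h2 := psl4 hq (hH.congr e)
    obtain ⟨f⟩ := S0256.result h2
    exact .alt8 ⟨e.trans f⟩
  · exact (psl5 hq (hH.congr e)).elim
  · have hq3 : q % 3 = 1 ∨ q % 3 = 2 := by omega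
    rcases hq3 with hq3 | hq3
    · exfalso
      have h1 := hnn e
      have h2 := card_psu3 hF
      have hg : Nat.gcd 3 (q + 1) = 1 :=
        (Nat.Prime.coprime_iff_not_dvd Nat.prime_three).2 (by omega)
      rw [hg, one_mul] at h2
      rw [h2] at h1
      have hc3 : Nat.Coprime 9 (q ^ 3) := by
        have h4 : Nat.Coprime 3 q := (Nat.Prime.coprime_iff_not_dvd Nat.prime_three).2 hq
        have := Nat.Coprime.pow 2 3 h4
        simpa using this
      have h4 := hc3.dvd_of_dvd_mul_left h1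
      have hc4 : Nat.Coprime 9 (q ^ 3 + 1) := by
        have h5 : ¬ 3 ∣ q ^ 3 + 1 := by
          have h6 : q ^ 3 % 3 = 1 := by rw [Nat.pow_mod, hq3]
          omega
        have h4 : Nat.Coprime 3 (q ^ 3 + 1) := (Nat.Prime.coprime_iff_not_dvd Nat.prime_three).2 h5
        have := Nat.Coprime.pow_left 2 h4
        simpa using this
      have h5 := hc4.dvd_of_dvd_mul_right h4
      rw [sq_sub] at h5
      have hc5 : Nat.Coprime 9 (q + 1) := by
        have h4 : Nat.Coprime 3 (q + 1) :=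
          (Nat.Prime.coprime_iff_not_dvd Nat.prime_three).2 (by omega)
        have := Nat.Coprime.pow_left 2 h4
        simpa using this
      have h6 := hc5.dvd_of_dvd_mul_right h5
      have hq1 := one_lt_q hF
      obtain ⟨g, k, hg, hgk, hk⟩ := psu3_elt hF hq3
      rcases (hH.congr e).exp g k hg hgk with h7 | h7
      · have h8 := hk 12 h7
        have h10 := Nat.le_of_dvd (by norm_num) h8
        have h11 : q = 10 := by omega
        rw [h11] at h8
        norm_num at h8
      · have h8 := hk 15 h7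
        have h10 := Nat.le_of_dvd (by norm_num) h8
        have h11 : q = 10 := by omega
        rw [h11] at h8
        norm_num at h8
    · exact .tri ((psu3_tri hF hq3).congr e.symm)
  · exact (psu4 hF hq (hH.congr e)).elim
  · exact (psu5 hF hq (hH.congr e)).elim
  · exact .psp4 F _ _ (ThreeElts.psp4 hq hq4 (hH.congr e)) ⟨e⟩
  · exact .m11 hs
  · exact .m22 hs
  · exact .m23 hs
  · exact .hs hs
  · exfalso
    rw [T.spor K (.j1, 175560) (by decide) hs] at h9
    norm_num at h9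

end Cfsg.Agent.H341.ThreeFin
end

-- part: H341/SelfThree
section
prune_inst 0x800000000000000000000400000000000000000100004000006104000000000400009000000080000000000000000000000000000000000000000000000000000000000000000000000000000000000000000000000000000041000000000000
set_option linter.all false
open scoped Cfsg.Agent.FastGrp

-- part: H341/FpfThree
section
/-!
# Groups acting with fixed-point-free elements of order 3 (helper341)

`N` normal in the finite group `G`, of order prime to 3, each element of order 3 of `G` without fixed points on `N`.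

* `rel_of_fpf` : `n * (g n g⁻¹) * (g² n g⁻²) = 1` for `g` of order 3;
* `abelian_of_rel` : `N` nilpotent, `G/N` simple with two elements as in a Frobenius group: `N` is abelian;
* `sum_eq` : in the abelian case, the sum over a Frobenius kernel is its order;
* `six_eq` : `A₅` on an abelian group: `6 v = 0`;
* `psl_seven` : `PSL₂(7)`: trivial.
-/

set_option autoImplicit false

namespace Cfsg.Agent.H341.FpfThree

open Subgroup

universe u v

section Rel

variable {G : Type u} [Group G]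

/-- the relation of a fixed-point-free element of order 3 -/
theorem rel_of_fpf [Finite G] {N : Subgroup G} (hN : N.Normal) {g : G} (hg : g ^ 3 = 1)
    (hf : ∀ n ∈ N, g * n = n * g → n = 1) {n : G} (hn : n ∈ N) :
    n * (g * n * g⁻¹) * (g * g * n * (g * g)⁻¹) = 1 := by
  let φ : N → N := fun m => ⟨(m : G)⁻¹ * (g * m * g⁻¹), N.mul_mem (N.inv_mem m.2) (hN.conj_mem _ m.2 _)⟩
  have hinj : Function.Injective φ := by
    intro a b hab
    have h1 : (a : G)⁻¹ * (g * a * g⁻¹) = (b : G)⁻¹ * (g * b * g⁻¹) := congrArg Subtype.val hab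
    have h2 : g * ((a : G) * (b : G)⁻¹) = (a : G) * (b : G)⁻¹ * g := by
      have h3 : g * a * g⁻¹ = a * (b : G)⁻¹ * (g * b * g⁻¹) := by
        calc g * (a : G) * g⁻¹ = a * ((a : G)⁻¹ * (g * a * g⁻¹)) := by group
          _ = a * ((b : G)⁻¹ * (g * b * g⁻¹)) := by rw [h1]
          _ = _ := by group
      calc g * ((a : G) * (b : G)⁻¹) = g * a * g⁻¹ * (g * (b : G)⁻¹) := by group
        _ = a * (b : G)⁻¹ * (g * b * g⁻¹) * (g * (b : G)⁻¹) := by rw [h3]
        _ = _ := by group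
    have h3 := hf _ (N.mul_mem a.2 (N.inv_mem b.2)) h2
    exact Subtype.ext (mul_inv_eq_one.1 h3)
  obtain ⟨m, hm⟩ := (Finite.injective_iff_surjective.1 hinj) ⟨n, hn⟩
  have hm' : (m : G)⁻¹ * (g * m * g⁻¹) = n := congrArg Subtype.val hm
  rw [← hm']
  have h3 : g * g * g = 1 := by rw [← hg, pow_succ, pow_two]
  calc (m : G)⁻¹ * (g * m * g⁻¹) * (g * ((m : G)⁻¹ * (g * m * g⁻¹)) * g⁻¹) *
        (g * g * ((m : G)⁻¹ * (g * m * g⁻¹)) * (g * g)⁻¹)
      = (m : G)⁻¹ * (g * g * g) * m * (g * g * g)⁻¹ := by group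
    _ = 1 := by rw [h3]; group

/-- The relation, for all elements of order 3. -/
def RelN (N : Subgroup G) : Prop :=
  ∀ g : G, g ^ 3 = 1 → g ≠ 1 → ∀ n ∈ N, n * (g * n * g⁻¹) * (g * g * n * (g * g)⁻¹) = 1

/-- `n` commutes with its image -/
theorem RelN.comm {N : Subgroup G} (hN : N.Normal) (h : RelN N) {g : G} (hg : g ^ 3 = 1) (hg1 : g ≠ 1) {n : G}
    (hn : n ∈ N) : n * (g * n * g⁻¹) = g * n * g⁻¹ * n := by
  have h3 : g * g * g = 1 := by rw [← hg, pow_succ, pow_two]
  have hi : g⁻¹ = g * g := inv_eq_of_mul_eq_one_left h3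
  have h1 := h g hg hg1 n hn
  have h2 := h g⁻¹ (by rw [inv_pow, hg, inv_one]) (inv_ne_one.2 hg1) n hn
  have hii : g⁻¹ * g⁻¹ = g := by
    rw [hi]
    calc g * g * (g * g) = g * g * g * g := by group
      _ = g := by rw [h3, one_mul]
  rw [hii, inv_inv, hi, ← hi] at h2
  have hc : g * g * n * (g * g)⁻¹ = g⁻¹ * n * g := by rw [← hi, inv_inv]
  rw [hc] at h1
  have h5 : g * n * g⁻¹ * (g⁻¹ * n * g) = g⁻¹ * n * g * (g * n * g⁻¹) := by
    apply mul_left_cancel (a := n)
    rw [← mul_assoc, h1, ← mul_assoc, h2]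
  have h6 : g⁻¹ * n * g = g * (g * n * g⁻¹) * g⁻¹ := by rw [← hc]; group
  rw [h6] at h5
  calc n * (g * n * g⁻¹) = g⁻¹ * (g * n * g⁻¹ * (g * (g * n * g⁻¹) * g⁻¹)) * g := by group
    _ = g⁻¹ * (g * (g * n * g⁻¹) * g⁻¹ * (g * n * g⁻¹)) * g := by rw [h5]
    _ = _ := by group

end Rel

/-! ### the nilpotent group is abelian -/

section Abelian

variable {G : Type u} [Group G] {N : Subgroup G}

/-- the centre of `N` -/
def A1 (N : Subgroup G) : Set G := {z | z ∈ N ∧ ∀ n ∈ N, n * z = z * n}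

/-- the second centre of `N` -/
def A2 (N : Subgroup G) : Set G := {z | z ∈ N ∧ ∀ n ∈ N, n * z * n⁻¹ * z⁻¹ ∈ A1 N}

theorem A1.mul {a b : G} (ha : a ∈ A1 N) (hb : b ∈ A1 N) : a * b ∈ A1 N := by
  refine ⟨N.mul_mem ha.1 hb.1, fun n hn => ?_⟩
  rw [← mul_assoc, ha.2 n hn, mul_assoc, hb.2 n hn, mul_assoc]

theorem A1.inv {a : G} (ha : a ∈ A1 N) : a⁻¹ ∈ A1 N := by
  refine ⟨N.inv_mem ha.1, fun n hn => ?_⟩
  have h1 : Commute n a := ha.2 n hn
  exact h1.inv_right

theorem A1.conj (hN : N.Normal) {a : G} (ha : a ∈ A1 N) (g : G) : g * a * g⁻¹ ∈ A1 N := by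
  refine ⟨hN.conj_mem _ ha.1 _, fun n hn => ?_⟩
  have h1 := ha.2 (g⁻¹ * n * g) (by have := hN.conj_mem n hn g⁻¹; rwa [inv_inv] at this)
  calc n * (g * a * g⁻¹) = g * ((g⁻¹ * n * g) * a) * g⁻¹ := by group
    _ = g * (a * (g⁻¹ * n * g)) * g⁻¹ := by rw [h1]
    _ = _ := by group

theorem A2.conj (hN : N.Normal) {z : G} (hz : z ∈ A2 N) (g : G) : g * z * g⁻¹ ∈ A2 N := by
  refine ⟨hN.conj_mem _ hz.1 _, fun n hn => ?_⟩
  have h1 := A1.conj hN (hz.2 (g⁻¹ * n * g) (by have := hN.conj_mem n hn g⁻¹; rwa [inv_inv] at this)) g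
  have h2 : g * (g⁻¹ * n * g * z * (g⁻¹ * n * g)⁻¹ * z⁻¹) * g⁻¹ = n * (g * z * g⁻¹) * n⁻¹ * (g * z * g⁻¹)⁻¹ := by
    group
  rwa [h2] at h1

/-- the commutator -/
def cm (n z : G) : G := n * z * n⁻¹ * z⁻¹

theorem cm_mul_left {n m z : G} (hn : n ∈ N) (hm : m ∈ N) (hz : z ∈ A2 N) :
    cm (n * m) z = cm n z * cm m z := by
  have h1 := (hz.2 m hm).2 n hn
  have h2 := (hz.2 m hm).2 (n * z * n⁻¹ * z⁻¹) (hz.2 n hn).1
  unfold cm
  calc n * m * z * (n * m)⁻¹ * z⁻¹ = n * (m * z * m⁻¹ * z⁻¹) * z * n⁻¹ * z⁻¹ := by group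
    _ = (m * z * m⁻¹ * z⁻¹) * n * z * n⁻¹ * z⁻¹ := by rw [h1]
    _ = (m * z * m⁻¹ * z⁻¹) * (n * z * n⁻¹ * z⁻¹) := by group
    _ = _ := h2.symm

theorem cm_one_left {z : G} : cm 1 z = 1 := by unfold cm; group

theorem cm_inv_left {n z : G} (hn : n ∈ N) (hz : z ∈ A2 N) : cm n⁻¹ z = (cm n z)⁻¹ := by
  rw [eq_inv_iff_mul_eq_one, ← cm_mul_left (N.inv_mem hn) hn hz, inv_mul_cancel, cm_one_left]

theorem cm_mem {n z : G} (hn : n ∈ N) (hz : z ∈ A2 N) : cm n z ∈ A1 N := hz.2 n hn

/-- the adjoint relation -/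
def Adj (N : Subgroup G) (g h : G) : Prop :=
  ∀ n ∈ N, ∀ z ∈ A2 N, cm (g * n * g⁻¹) z = cm n (h * z * h⁻¹)

theorem Adj.mul (hN : N.Normal) {g h g' h' : G} (h1 : Adj N g h) (h2 : Adj N g' h') : Adj N (g * g') (h' * h) := by
  intro n hn z hz
  have h3 := h1 (g' * n * g'⁻¹) (hN.conj_mem _ hn _) z hz
  have h4 := h2 n hn (h * z * h⁻¹) (A2.conj hN hz h)
  have h5 : g * g' * n * (g * g')⁻¹ = g * (g' * n * g'⁻¹) * g⁻¹ := by group
  have h6 : h' * h * z * (h' * h)⁻¹ = h' * (h * z * h⁻¹) * h'⁻¹ := by group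
  rw [h5, h6, h3, h4]

theorem adj_N (hN : N.Normal) {m : G} (hm : m ∈ N) : Adj N m 1 := by
  intro n hn z hz
  rw [cm_mul_left (N.mul_mem hm hn) (N.inv_mem hm) hz, cm_mul_left hm hn hz, cm_inv_left hm hz, one_mul, inv_one,
    mul_one]
  have h1 := (cm_mem hn hz).2 (cm m z) (cm_mem hm hz).1
  rw [h1]
  group

/-- elements of order 3 are self-adjoint -/
theorem adj_self (hN : N.Normal) (h : RelN N) {g : G} (hg : g ^ 3 = 1) (hg1 : g ≠ 1) : Adj N g g := by
  intro n hn z hz
  have hng : g * n * g⁻¹ ∈ N := hN.conj_mem _ hn _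
  have hzg := A2.conj hN hz g
  have e1 := h.comm hN hg hg1 hn
  have e2 := h.comm hN hg hg1 hz.1
  have e3 := h.comm hN hg hg1 (N.mul_mem hn hz.1)
  set n' := g * n * g⁻¹ with hn'
  set z' := g * z * g⁻¹ with hz'
  have e4 : g * (n * z) * g⁻¹ = n' * z' := by rw [hn', hz']; group
  rw [e4] at e3
  -- `n z n' z' = n' z' n z`
  have h1 : z * n' = (cm n' z)⁻¹ * (n' * z) := by unfold cm; group
  have h2 : z' * n = (cm n z')⁻¹ * (n * z') := by unfold cm; group
  have c1 : n * (cm n' z)⁻¹ = (cm n' z)⁻¹ * n := (A1.inv (cm_mem hng hz)).2 n hn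
  have c2 : n' * (cm n z')⁻¹ = (cm n z')⁻¹ * n' := (A1.inv (cm_mem hn hzg)).2 n' hng
  have h3 : n * z * (n' * z') = (cm n' z)⁻¹ * (n * n' * (z * z')) := by
    calc n * z * (n' * z') = n * (z * n') * z' := by group
      _ = n * ((cm n' z)⁻¹ * (n' * z)) * z' := by rw [h1]
      _ = (n * (cm n' z)⁻¹) * (n' * z) * z' := by group
      _ = ((cm n' z)⁻¹ * n) * (n' * z) * z' := by rw [c1]
      _ = _ := by group
  have h4 : n' * z' * (n * z) = (cm n z')⁻¹ * (n' * n * (z' * z)) := by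
    calc n' * z' * (n * z) = n' * (z' * n) * z := by group
      _ = n' * ((cm n z')⁻¹ * (n * z')) * z := by rw [h2]
      _ = (n' * (cm n z')⁻¹) * (n * z') * z := by group
      _ = ((cm n z')⁻¹ * n') * (n * z') * z := by rw [c2]
      _ = _ := by group
  rw [h3, h4, e1, e2] at e3
  exact inv_injective (mul_right_cancel e3)

/-- `C_G(Z₂/Z₁)` -/
def K0 (hN : N.Normal) : Subgroup G where
  carrier := {h | ∀ z ∈ A2 N, h * z * h⁻¹ * z⁻¹ ∈ A1 N}
  one_mem' := by
    intro z hz
    have : 1 * z * 1⁻¹ * z⁻¹ = (1 : G) := by group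
    rw [this]
    exact ⟨N.one_mem, fun n _ => by rw [mul_one, one_mul]⟩
  mul_mem' := by
    intro a b ha hb z hz
    have h1 := ha _ (A2.conj hN hz b)
    have h2 := hb z hz
    have h3 : a * b * z * (a * b)⁻¹ * z⁻¹ = a * (b * z * b⁻¹) * a⁻¹ * (b * z * b⁻¹)⁻¹ * (b * z * b⁻¹ * z⁻¹) := by
      group
    rw [h3]
    exact A1.mul h1 h2
  inv_mem' := by
    intro a ha z hz
    have h1 := A1.inv (A1.conj hN (ha z hz) a⁻¹)
    have h3 : (a⁻¹ * (a * z * a⁻¹ * z⁻¹) * a⁻¹⁻¹)⁻¹ = a⁻¹ * z * a⁻¹⁻¹ * z⁻¹ := by group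
    rwa [h3] at h1

theorem K0_normal (hN : N.Normal) : (K0 hN).Normal := by
  constructor
  intro h hh g z hz
  have h1 := A1.conj hN (hh _ (A2.conj hN hz g⁻¹)) g
  have h2 : g * (h * (g⁻¹ * z * g⁻¹⁻¹) * h⁻¹ * (g⁻¹ * z * g⁻¹⁻¹)⁻¹) * g⁻¹ = g * h * g⁻¹ * z * (g * h * g⁻¹)⁻¹ * z⁻¹ := by
    group
  rwa [h2] at h1

theorem N_le_K0 (hN : N.Normal) : N ≤ K0 hN := fun n hn _ hz => hz.2 n hn

/-- two adjoints of the same element agree modulo `K0` -/
theorem mem_K0_of_adj (hN : N.Normal) {g h h' : G} (h1 : Adj N g h) (h2 : Adj N g h') : h'⁻¹ * h ∈ K0 hN := by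
  intro z hz
  have hw : h * z * h⁻¹ * (h' * z * h'⁻¹)⁻¹ ∈ A1 N := by
    have hz1 := A2.conj hN hz h
    have hz2 := A2.conj hN hz h'
    refine ⟨N.mul_mem hz1.1 (N.inv_mem hz2.1), fun n hn => ?_⟩
    have h3 := h1 n hn z hz
    have h4 := h2 n hn z hz
    have h5 : cm n (h * z * h⁻¹) = cm n (h' * z * h'⁻¹) := by rw [← h3, ← h4]
    unfold cm at h5
    have h6 : n * (h * z * h⁻¹) * n⁻¹ * (h * z * h⁻¹)⁻¹ * (h' * z * h'⁻¹) * (n * (h' * z * h'⁻¹)⁻¹ * n⁻¹) = 1 := by
      rw [h5]; group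
    have hcen : ∀ y ∈ N, y * (n * (h * z * h⁻¹) * n⁻¹ * (h * z * h⁻¹)⁻¹) =
        (n * (h * z * h⁻¹) * n⁻¹ * (h * z * h⁻¹)⁻¹) * y := (hz1.2 n hn).2
    -- `n w n⁻¹ = w`
    have h7 : n * (h * z * h⁻¹ * (h' * z * h'⁻¹)⁻¹) * n⁻¹ = h * z * h⁻¹ * (h' * z * h'⁻¹)⁻¹ := by
      have h8 := hcen (h' * z * h'⁻¹)⁻¹ (N.inv_mem hz2.1)
      set c := n * (h * z * h⁻¹) * n⁻¹ * (h * z * h⁻¹)⁻¹ with hc
      have h9 : n * (h * z * h⁻¹) * n⁻¹ = c * (h * z * h⁻¹) := by rw [hc]; group
      have h10 : n * (h' * z * h'⁻¹) * n⁻¹ = c * (h' * z * h'⁻¹) := by rw [h5]; group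
      have h11 : n * (h' * z * h'⁻¹)⁻¹ * n⁻¹ = (h' * z * h'⁻¹)⁻¹ * c⁻¹ := by
        calc n * (h' * z * h'⁻¹)⁻¹ * n⁻¹ = (n * (h' * z * h'⁻¹) * n⁻¹)⁻¹ := by group
          _ = (c * (h' * z * h'⁻¹))⁻¹ := by rw [h10]
          _ = _ := by group
      have h12 := hcen (h * z * h⁻¹ * (h' * z * h'⁻¹)⁻¹) (N.mul_mem hz1.1 (N.inv_mem hz2.1))
      calc n * (h * z * h⁻¹ * (h' * z * h'⁻¹)⁻¹) * n⁻¹
          = (n * (h * z * h⁻¹) * n⁻¹) * (n * (h' * z * h'⁻¹)⁻¹ * n⁻¹) := by group
        _ = c * (h * z * h⁻¹) * ((h' * z * h'⁻¹)⁻¹ * c⁻¹) := by rw [h9, h11]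
        _ = c * (h * z * h⁻¹ * (h' * z * h'⁻¹)⁻¹) * c⁻¹ := by group
        _ = (h * z * h⁻¹ * (h' * z * h'⁻¹)⁻¹) * c * c⁻¹ := by rw [h12]
        _ = _ := by group
    calc n * (h * z * h⁻¹ * (h' * z * h'⁻¹)⁻¹) = n * (h * z * h⁻¹ * (h' * z * h'⁻¹)⁻¹) * n⁻¹ * n := by group
      _ = _ := by rw [h7]
  have h3 := A1.conj hN hw h'⁻¹
  have h4 : h'⁻¹ * (h * z * h⁻¹ * (h' * z * h'⁻¹)⁻¹) * h'⁻¹⁻¹ = h'⁻¹ * h * z * (h'⁻¹ * h)⁻¹ * z⁻¹ := by group
  rwa [h4] at h3

/-- lifting elements of order 3 -/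
theorem lift_three [Finite G] [N.Normal] (hcop : (Nat.card N).Coprime 3) {y : G ⧸ N} (hy : y ^ 3 = 1) (hy1 : y ≠ 1) :
    ∃ g : G, g ^ 3 = 1 ∧ g ≠ 1 ∧ (g : G ⧸ N) = y := by
  obtain ⟨g₀, rfl⟩ := QuotientGroup.mk_surjective y
  obtain ⟨k, hk1, hk2⟩ := Nat.chineseRemainder (Nat.Coprime.symm hcop) 1 0
  have h1 : g₀ ^ 3 ∈ N := by
    rw [← QuotientGroup.eq_one_iff, QuotientGroup.mk_pow, hy]
  have h2 : (g₀ ^ 3) ^ Nat.card N = 1 := by
    have := pow_card_eq_one' (x := (⟨g₀ ^ 3, h1⟩ : N))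
    exact congrArg Subtype.val this
  have h3 : ((g₀ ^ k : G) : G ⧸ N) = (g₀ : G ⧸ N) := by
    rw [QuotientGroup.mk_pow]
    have h4 : ((g₀ : G ⧸ N)) ^ k = (g₀ : G ⧸ N) ^ 1 := by
      rw [pow_eq_pow_iff_modEq]
      exact hk1.of_dvd (orderOf_dvd_of_pow_eq_one hy)
    rw [h4, pow_one]
  refine ⟨g₀ ^ k, ?_, ?_, h3⟩
  · obtain ⟨j, hj⟩ := (Nat.modEq_zero_iff_dvd).1 hk2
    rw [← pow_mul, hj, mul_comm, mul_comm (Nat.card N), ← mul_assoc, mul_comm _ j, mul_assoc, mul_comm j, pow_mul,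
      pow_mul, h2, one_pow]
  · intro h4
    rw [h4, QuotientGroup.mk_one] at h3
    exact hy1 h3.symm

theorem quot_simple_top [N.Normal] [IsSimpleGroup (G ⧸ N)] {K : Subgroup G} (hK : K.Normal) (hNK : N ≤ K) {k : G}
    (hk : k ∈ K) (hkN : k ∉ N) : K = ⊤ := by
  have h1 : (K.map (QuotientGroup.mk' N)).Normal := hK.map _ (QuotientGroup.mk'_surjective N)
  rcases h1.eq_bot_or_eq_top with h2 | h2
  · exfalso
    apply hkN
    have h3 : (QuotientGroup.mk' N k) ∈ K.map (QuotientGroup.mk' N) := mem_map_of_mem _ hk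
    rw [h2, mem_bot] at h3
    exact (QuotientGroup.eq_one_iff k).1 h3
  · have h3 := congrArg (comap (QuotientGroup.mk' N)) h2
    rw [comap_map_eq, comap_top, QuotientGroup.ker_mk', sup_eq_left.2 hNK] at h3
    exact h3

/-- an element of order prime to 3 is a power of its cube -/
theorem exists_cube_pow [Finite G] (hcop : (Nat.card N).Coprime 3) {z : G} (hz : z ∈ N) : ∃ m : ℕ, (z ^ 3) ^ m = z := by
  apply exists_pow_eq_self_of_coprime
  have h1 : orderOf z ∣ Nat.card N := by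
    have := _root_.orderOf_dvd_natCard (⟨z, hz⟩ : N)
    rwa [Subgroup.orderOf_mk] at this
  exact Nat.Coprime.symm (Nat.Coprime.coprime_dvd_left h1 hcop)

/-- **The nilpotent group is abelian.** -/
theorem abelian_of_rel [Finite G] [hN : N.Normal] (hcop : (Nat.card N).Coprime 3) (hnil : Group.IsNilpotent N)
    (hrel : RelN N) [IsSimpleGroup (G ⧸ N)] (x t : G ⧸ N) (hx : x ^ 3 = 1) (hx1 : x ≠ 1) (h1 : (x * t) ^ 3 = 1)
    (h1' : x * t ≠ 1) (h2 : (x⁻¹ * t) ^ 3 = 1) (h2' : x⁻¹ * t ≠ 1) (hne : x * t * x⁻¹ ≠ x⁻¹ * t * x) :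
    ∀ a ∈ N, ∀ b ∈ N, a * b = b * a := by
  obtain ⟨x₀, hx₀, hx₀1, hxx⟩ := lift_three hcop hx hx1
  obtain ⟨b, hb, hb1, hbb⟩ := lift_three hcop h1 h1'
  obtain ⟨b', hb', hb'1, hbb'⟩ := lift_three hcop h2 h2'
  have ax := adj_self hN hrel hx₀ hx₀1
  have axi := adj_self hN hrel (g := x₀⁻¹) (by rw [inv_pow, hx₀, inv_one]) (inv_ne_one.2 hx₀1)
  have ab := adj_self hN hrel hb hb1
  have ab' := adj_self hN hrel hb' hb'1
  have e1 : Adj N (x₀⁻¹ * b) (b * x₀⁻¹) := axi.mul hN ab
  have e2 : Adj N (x₀ * b') (b' * x₀) := ax.mul hN ab'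
  -- both lift `t`
  have hm : (x₀⁻¹ * b)⁻¹ * (x₀ * b') ∈ N := by
    rw [← QuotientGroup.eq_one_iff, QuotientGroup.mk_mul, QuotientGroup.mk_inv, QuotientGroup.mk_mul,
      QuotientGroup.mk_mul, QuotientGroup.mk_inv, hxx, hbb, hbb']
    group
  have e3 : Adj N (x₀ * b') (b * x₀⁻¹) := by
    have := e1.mul hN (adj_N hN hm)
    rwa [mul_inv_cancel_left, one_mul] at this
  have h3 := mem_K0_of_adj hN e3 e2
  have h4 : (b' * x₀)⁻¹ * (b * x₀⁻¹) ∉ N := by
    intro h5
    rw [← QuotientGroup.eq_one_iff, QuotientGroup.mk_mul, QuotientGroup.mk_inv, QuotientGroup.mk_mul,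
      QuotientGroup.mk_mul, QuotientGroup.mk_inv, hxx, hbb, hbb', inv_mul_eq_one] at h5
    exact hne h5.symm
  have h5 := quot_simple_top (K0_normal hN) (N_le_K0 hN) h3 h4
  have hx0 : x₀ ∈ K0 hN := by rw [h5]; exact mem_top _
  -- the second centre is the centre
  have h6 : ∀ z ∈ A2 N, z ∈ A1 N := by
    intro z hz
    have h7 := hx0 z hz
    set a := x₀ * z * x₀⁻¹ * z⁻¹ with ha
    have h8 := A1.conj hN h7 x₀
    have h9 := hrel x₀ hx₀ hx₀1 z hz.1
    have e4 : x₀ * z * x₀⁻¹ = a * z := by rw [ha]; group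
    have e5 : x₀ * x₀ * z * (x₀ * x₀)⁻¹ = x₀ * a * x₀⁻¹ * (a * z) := by
      calc x₀ * x₀ * z * (x₀ * x₀)⁻¹ = x₀ * (x₀ * z * x₀⁻¹) * x₀⁻¹ := by group
        _ = x₀ * (a * z) * x₀⁻¹ := by rw [e4]
        _ = x₀ * a * x₀⁻¹ * (x₀ * z * x₀⁻¹) := by group
        _ = _ := by rw [e4]
    rw [e4, e5] at h9
    have e6 : z * a = a * z := h7.2 z hz.1
    have e7 : z * (x₀ * a * x₀⁻¹) = x₀ * a * x₀⁻¹ * z := h8.2 z hz.1
    have e8 : z * (a * z) * (x₀ * a * x₀⁻¹ * (a * z)) = a * (x₀ * a * x₀⁻¹) * a * z ^ 3 := by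
      calc z * (a * z) * (x₀ * a * x₀⁻¹ * (a * z)) = (z * a) * (z * (x₀ * a * x₀⁻¹)) * (a * z) := by group
        _ = (a * z) * (x₀ * a * x₀⁻¹ * z) * (a * z) := by rw [e6, e7]
        _ = a * (z * (x₀ * a * x₀⁻¹)) * (z * a) * z := by group
        _ = a * (x₀ * a * x₀⁻¹ * z) * (a * z) * z := by rw [e6, e7]
        _ = a * (x₀ * a * x₀⁻¹) * (z * a) * z * z := by group
        _ = a * (x₀ * a * x₀⁻¹) * (a * z) * z * z := by rw [e6]
        _ = _ := by rw [pow_succ z 2, pow_two]; group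
    rw [e8] at h9
    have h10 : z ^ 3 ∈ A1 N := by
      have h11 : z ^ 3 = (a * (x₀ * a * x₀⁻¹) * a)⁻¹ := by
        rw [eq_inv_iff_mul_eq_one]
        have := mul_eq_one_iff_eq_inv.1 h9
        rw [this]; group
      rw [h11]
      exact A1.inv (A1.mul (A1.mul h7 h8) h7)
    obtain ⟨m, hm⟩ := exists_cube_pow hcop hz.1
    refine ⟨hz.1, fun n hn => ?_⟩
    have h12 : Commute n (z ^ 3) := h10.2 n hn
    have h13 := h12.pow_right m
    rw [hm] at h13
    exact h13
  -- nilpotent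
  by_contra hab
  have hc : center N ≠ ⊤ := by
    intro h
    apply hab
    intro a ha b hb
    have : (⟨a, ha⟩ : N) ∈ center N := by rw [h]; exact mem_top _
    exact (congrArg Subtype.val (mem_center_iff.1 this ⟨b, hb⟩)).symm
  have : Nontrivial (N ⧸ center N) := QuotientGroup.nontrivial_iff.2 hc
  have hcc := Group.IsNilpotent.center_ne_bot (G := N ⧸ center N)
  obtain ⟨⟨w, hw⟩, hw1⟩ := (Subgroup.ne_bot_iff_exists_ne_one).1 hcc
  have hw1' : w ≠ 1 := fun h => hw1 (Subtype.ext h)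
  obtain ⟨z, rfl⟩ := QuotientGroup.mk_surjective w
  have hzc : z ∉ center N := fun h => hw1' ((QuotientGroup.eq_one_iff z).2 h)
  apply hzc
  have h7 : (z : G) ∈ A2 N := by
    refine ⟨z.2, fun n hn => ?_⟩
    have h8 := mem_center_iff.1 hw (QuotientGroup.mk ⟨n, hn⟩)
    have h9 : (⟨n, hn⟩ : N) * z * (⟨n, hn⟩ : N)⁻¹ * z⁻¹ ∈ center N := by
      rw [← QuotientGroup.eq_one_iff, QuotientGroup.mk_mul, QuotientGroup.mk_mul, QuotientGroup.mk_mul,
        QuotientGroup.mk_inv, QuotientGroup.mk_inv, h8]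
      group
    refine ⟨N.mul_mem (N.mul_mem (N.mul_mem hn z.2) (N.inv_mem hn)) (N.inv_mem z.2), fun m hm => ?_⟩
    exact congrArg Subtype.val (mem_center_iff.1 h9 ⟨m, hm⟩)
  have h8 := h6 z h7
  rw [mem_center_iff]
  intro g
  exact Subtype.ext (h8.2 g g.2)

end Abelian

/-! ### the abelian case -/

section Module

variable {L : Type u} [Group L] {V : Type v} [AddCommGroup V] (ρ : L →* AddMonoid.End V)

/-- all elements of order 3 satisfy `1 + y + y² = 0` -/
def RelV : Prop := ∀ y : L, y ^ 3 = 1 → y ≠ 1 → ∀ v : V, v + ρ y v + ρ (y * y) v = 0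

variable {ρ}

theorem rho_mul (a b : L) (v : V) : ρ (a * b) v = ρ a (ρ b v) := by rw [map_mul]; rfl

theorem rho_one (v : V) : ρ 1 v = v := by rw [map_one]; rfl

/-- the sum over a Frobenius kernel -/
theorem sum_eq (h : RelV ρ) {ι : Type} [Fintype ι] (f : ι → L) (σ : Equiv.Perm ι) (x : L) (hx : x ^ 3 = 1)
    (hx1 : x ≠ 1) (h1 : ∀ i, (x * f i) ^ 3 = 1) (h1' : ∀ i, x * f i ≠ 1)
    (h2 : ∀ i, x * f i * (x * f i) = x * x * f (σ i)) (v : V) : ∑ i, ρ (f i) v = Fintype.card ι • v := by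
  have e1 : ∑ i, (v + ρ (x * f i) v + ρ (x * x * f (σ i)) v) = 0 := by
    apply Finset.sum_eq_zero
    intro i _
    rw [← h2]
    exact h _ (h1 i) (h1' i) v
  have e2 : ∑ i, (ρ (f i) v + ρ (x * f i) v + ρ (x * x * f i) v) = 0 := by
    apply Finset.sum_eq_zero
    intro i _
    rw [rho_mul x (f i), rho_mul (x * x) (f i)]
    exact h x hx hx1 _
  rw [Finset.sum_add_distrib, Finset.sum_add_distrib] at e1 e2
  have e3 : ∑ i, ρ (x * x * f (σ i)) v = ∑ i, ρ (x * x * f i) v := Equiv.sum_comp σ fun i => ρ (x * x * f i) v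
  rw [e3, Finset.sum_const, Finset.card_univ] at e1
  have e4 := e2.trans e1.symm
  exact add_right_cancel (add_right_cancel e4)

theorem s3_rel (h : RelV ρ) {t₁ t₂ t₃ : L} (h1 : t₁ * t₁ = 1) (h2 : (t₁ * t₂) ^ 3 = 1) (h3 : t₁ * t₂ ≠ 1)
    (h4 : t₂ * t₁ * t₂ = t₃) (v : V) : ρ t₁ v + ρ t₂ v + ρ t₃ v = 0 := by
  have e1 := congrArg (ρ t₁) (h _ h2 h3 v)
  rw [map_add, map_add, map_zero, ← rho_mul, ← rho_mul] at e1
  have e2 : t₁ * (t₁ * t₂) = t₂ := by rw [← mul_assoc, h1, one_mul]
  have e3 : t₁ * (t₁ * t₂ * (t₁ * t₂)) = t₃ := by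
    rw [← h4, ← mul_assoc, e2, mul_assoc]
  rwa [e2, e3] at e1

end Module

section A5

open Equiv

/-- a double transposition -/
def iv (a b c d : Fin 5) (h : Perm.sign (swap a b * swap c d) = 1 := by decide) : alternatingGroup (Fin 5) :=
  ⟨swap a b * swap c d, h⟩

variable {V : Type v} [AddCommGroup V] {ρ : alternatingGroup (Fin 5) →* AddMonoid.End V}

/-- **`A₅`: `6 v = 0`.** -/
theorem six_eq (h : RelV ρ) (v : V) : (6 : ℤ) • v = 0 := by
  have r1 := s3_rel h (t₁ := iv 0 4 1 2) (t₂ := iv 0 4 1 3) (t₃ := iv 0 4 2 3) (by decide) (by decide) (by decide)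
    (by decide) v
  have r2 := s3_rel h (t₁ := iv 1 4 0 2) (t₂ := iv 1 4 0 3) (t₃ := iv 1 4 2 3) (by decide) (by decide) (by decide)
    (by decide) v
  have r3 := s3_rel h (t₁ := iv 2 4 0 1) (t₂ := iv 2 4 0 3) (t₃ := iv 2 4 1 3) (by decide) (by decide) (by decide)
    (by decide) v
  have r4 := s3_rel h (t₁ := iv 3 4 0 1) (t₂ := iv 3 4 0 2) (t₃ := iv 3 4 1 2) (by decide) (by decide) (by decide)
    (by decide) v
  have s1 := s3_rel h (t₁ := iv 0 1 2 3) (t₂ := iv 2 4 0 1) (t₃ := iv 3 4 0 1) (by decide) (by decide) (by decide)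
    (by decide) v
  have s2 := s3_rel h (t₁ := iv 0 2 1 3) (t₂ := iv 1 4 0 2) (t₃ := iv 3 4 0 2) (by decide) (by decide) (by decide)
    (by decide) v
  have s3 := s3_rel h (t₁ := iv 0 3 1 2) (t₂ := iv 1 4 0 3) (t₃ := iv 2 4 0 3) (by decide) (by decide) (by decide)
    (by decide) v
  have s4 := s3_rel h (t₁ := iv 0 3 1 2) (t₂ := iv 0 4 1 2) (t₃ := iv 3 4 1 2) (by decide) (by decide) (by decide)
    (by decide) v
  have s5 := s3_rel h (t₁ := iv 0 2 1 3) (t₂ := iv 0 4 1 3) (t₃ := iv 2 4 1 3) (by decide) (by decide) (by decide)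
    (by decide) v
  have s6 := s3_rel h (t₁ := iv 0 1 2 3) (t₂ := iv 0 4 2 3) (t₃ := iv 1 4 2 3) (by decide) (by decide) (by decide)
    (by decide) v
  have q := sum_eq h (ι := Fin 4) ![1, iv 0 1 2 3, iv 0 2 1 3, iv 0 3 1 2]
    ⟨![0, 3, 1, 2], ![0, 2, 3, 1], by decide, by decide⟩ (iv 0 1 1 2) (by decide) (by decide) (by decide +kernel) (by decide)
    (by decide +kernel) v
  rw [Fin.sum_univ_four, Fintype.card_fin] at q
  simp only [Matrix.cons_val_zero, Matrix.cons_val_one, Matrix.cons_val, rho_one] at q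
  have q' : v + ρ (iv 0 1 2 3) v + ρ (iv 0 2 1 3) v + ρ (iv 0 3 1 2) v = (4 : ℤ) • v := by
    rw [q]
    exact (natCast_zsmul v 4).symm
  linear_combination (norm := module) (-2 : ℤ) • q' + s1 + s2 + s3 + s4 + s5 + s6 - r1 - r2 - r3 - r4

end A5

section PSL

open Cfsg.Agent.ClassicalGeometry.PSLTorus Matrix

/-- elements of `SL₂(7)` -/
def mk7 (a b c d : ZMod 7) (h : a * d - b * c = 1 := by decide) : _root_.Matrix.SpecialLinearGroup (Fin 2) (ZMod 7) :=
  ⟨!![a, b; c, d], by rw [det_fin_two_of, h]⟩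

local instance : Fact (Nat.Prime 7) := ⟨by norm_num⟩

/-- the quaternion group -/
def q8 : Fin 4 → _root_.Matrix.SpecialLinearGroup (Fin 2) (ZMod 7) := ![1, mk7 0 1 6 0, mk7 2 3 3 5, mk7 3 5 5 4]

/-- the unipotent group -/
def u7 (i : Fin 7) : _root_.Matrix.SpecialLinearGroup (Fin 2) (ZMod 7) := mk7 1 (i : ℕ) 0 1 (by ring)

theorem q8_1 : ∀ i : Fin 4, (mk7 2 1 0 4 * q8 i) ^ 3 = 1 := by decide +kernel
theorem q8_2 : ∀ i : Fin 4, mk7 2 1 0 4 * q8 i ≠ 1 ∧ mk7 2 1 0 4 * q8 i ≠ -1 := by decide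
theorem q8_3 : ∀ i : Fin 4, mk7 2 1 0 4 * q8 i * (mk7 2 1 0 4 * q8 i) =
    mk7 2 1 0 4 * mk7 2 1 0 4 * q8 (![0, 3, 1, 2] i) ∨ mk7 2 1 0 4 * q8 i * (mk7 2 1 0 4 * q8 i) =
    -(mk7 2 1 0 4 * mk7 2 1 0 4 * q8 (![0, 3, 1, 2] i)) := by decide +kernel
theorem u7_1 : ∀ i : Fin 7, (mk7 2 0 0 4 * u7 i) ^ 3 = 1 := by decide +kernel
theorem u7_2 : ∀ i : Fin 7, mk7 2 0 0 4 * u7 i ≠ 1 ∧ mk7 2 0 0 4 * u7 i ≠ -1 := by decide
theorem u7_3 : ∀ i : Fin 7, mk7 2 0 0 4 * u7 i * (mk7 2 0 0 4 * u7 i) =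
    mk7 2 0 0 4 * mk7 2 0 0 4 * u7 (![0, 3, 6, 2, 5, 1, 4] i) := by decide +kernel

variable {V : Type v} [AddCommGroup V] {ρ : ProjectiveSpecialLinearGroup (Fin 2) (ZMod 7) →* AddMonoid.End V}

theorem pr_ne {g : _root_.Matrix.SpecialLinearGroup (Fin 2) (ZMod 7)} (h : g ≠ 1 ∧ g ≠ -1) : pr (ZMod 7) g ≠ 1 := by
  intro h'
  rcases (pr_eq_one_iff g).1 h' with h1 | h1
  · exact h.1 h1
  · exact h.2 h1

/-- a pair of elements as in `abelian_of_rel` -/
theorem psl_pair : ∃ a b : ProjectiveSpecialLinearGroup (Fin 2) (ZMod 7), a ^ 3 = 1 ∧ a ≠ 1 ∧ (a * b) ^ 3 = 1 ∧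
    a * b ≠ 1 ∧ (a⁻¹ * b) ^ 3 = 1 ∧ a⁻¹ * b ≠ 1 ∧ a * b * a⁻¹ ≠ a⁻¹ * b * a := by
  let x : _root_.Matrix.SpecialLinearGroup (Fin 2) (ZMod 7) := mk7 2 0 0 4
  let x' : _root_.Matrix.SpecialLinearGroup (Fin 2) (ZMod 7) := mk7 4 0 0 2
  let t : _root_.Matrix.SpecialLinearGroup (Fin 2) (ZMod 7) := u7 1
  have hx' : x⁻¹ = x' := by
    rw [inv_eq_iff_mul_eq_one]
    decide
  refine ⟨pr (ZMod 7) x, pr (ZMod 7) t, ?_, pr_ne (by decide), ?_, ?_, ?_, ?_, ?_⟩
  · rw [← map_pow, show x ^ 3 = 1 by decide, map_one]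
  · rw [← map_mul, ← map_pow, show (x * t) ^ 3 = 1 by decide, map_one]
  · rw [← map_mul]
    exact pr_ne (by decide)
  · rw [← map_inv, hx', ← map_mul, ← map_pow, show (x' * t) ^ 3 = 1 by decide, map_one]
  · rw [← map_inv, hx', ← map_mul]
    exact pr_ne (by decide)
  · intro h
    rw [← map_inv, hx', ← map_mul, ← map_mul, ← map_mul, ← map_mul] at h
    have h1 : pr (ZMod 7) (x * t * x' * (x' * t * x)⁻¹) = 1 := by
      rw [map_mul, map_inv, h, mul_inv_cancel]
    have h2 : (x' * t * x)⁻¹ = mk7 1 5 0 1 := by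
      rw [inv_eq_iff_mul_eq_one]
      decide
    rw [h2] at h1
    exact pr_ne (g := x * t * x' * mk7 1 5 0 1) (by decide) h1

/-- **`PSL₂(7)`: trivial.** -/
theorem psl_seven [IsSimpleGroup (ProjectiveSpecialLinearGroup (Fin 2) (ZMod 7))] (h : RelV ρ)
    (h3 : ∀ v : V, (3 : ℤ) • v = 0 → v = 0) (v : V) : v = 0 := by
  let X : _root_.Matrix.SpecialLinearGroup (Fin 2) (ZMod 7) := mk7 2 1 0 4
  let Y : _root_.Matrix.SpecialLinearGroup (Fin 2) (ZMod 7) := mk7 2 0 0 4
  let π := pr (ZMod 7)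
  -- the two sums
  have hq : ∀ v : V, ∑ i, ρ (π (q8 i)) v = Fintype.card (Fin 4) • v := by
    intro v
    refine sum_eq h (fun i => π (q8 i)) ⟨![0, 3, 1, 2], ![0, 2, 3, 1], by decide, by decide⟩ (π X) ?_ ?_ ?_ ?_ ?_ v
    · rw [← map_pow, show X ^ 3 = 1 by decide, map_one]
    · exact pr_ne (by decide)
    · intro i
      rw [← map_mul, ← map_pow, q8_1, map_one]
    · intro i
      rw [← map_mul]
      exact pr_ne (q8_2 i)
    · intro i
      rw [← map_mul, ← map_mul, ← map_mul, ← map_mul]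
      exact (pr_eq_iff _ _).2 (q8_3 i)
  have hu : ∀ v : V, ∑ i, ρ (π (u7 i)) v = Fintype.card (Fin 7) • v := by
    intro v
    refine sum_eq h (fun i => π (u7 i)) ⟨![0, 3, 6, 2, 5, 1, 4], ![0, 5, 3, 1, 6, 4, 2], by decide, by decide⟩ (π Y)
      ?_ ?_ ?_ ?_ ?_ v
    · rw [← map_pow, show Y ^ 3 = 1 by decide, map_one]
    · exact pr_ne (by decide)
    · intro i
      rw [← map_mul, ← map_pow, u7_1, map_one]
    · intro i
      rw [← map_mul]
      exact pr_ne (u7_2 i)
    · intro i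
      rw [← map_mul, ← map_mul, ← map_mul, ← map_mul]
      exact congrArg π (u7_3 i)
  -- invariance
  have hq' : ∀ v : V, ρ (π (q8 1)) ((4 : ℤ) • v) = (4 : ℤ) • v := by
    intro v
    have h1 := hq v
    rw [Fin.sum_univ_four, Fintype.card_fin, ← natCast_zsmul] at h1
    have h2 : ρ (π (q8 1)) (ρ (π (q8 0)) v + ρ (π (q8 1)) v + ρ (π (q8 2)) v + ρ (π (q8 3)) v) =
        ρ (π (q8 0)) v + ρ (π (q8 1)) v + ρ (π (q8 2)) v + ρ (π (q8 3)) v := by
      rw [map_add, map_add, map_add, ← rho_mul, ← rho_mul, ← rho_mul, ← rho_mul, ← map_mul, ← map_mul, ← map_mul,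
        ← map_mul]
      have e0 : π (q8 1 * q8 0) = π (q8 1) := congrArg π (by decide)
      have e1 : π (q8 1 * q8 1) = π (q8 0) := (pr_eq_iff _ _).2 (by decide)
      have e2 : π (q8 1 * q8 2) = π (q8 3) := (pr_eq_iff _ _).2 (by decide)
      have e3 : π (q8 1 * q8 3) = π (q8 2) := (pr_eq_iff _ _).2 (by decide)
      rw [e0, e1, e2, e3]
      abel
    rw [h1] at h2
    exact h2
  have hu' : ∀ v : V, ρ (π (u7 1)) ((7 : ℤ) • v) = (7 : ℤ) • v := by
    intro v
    have h1 := hu v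
    rw [Fintype.card_fin, ← natCast_zsmul] at h1
    have h2 : ρ (π (u7 1)) (∑ i, ρ (π (u7 i)) v) = ∑ i, ρ (π (u7 i)) v := by
      rw [map_sum, ← Equiv.sum_comp (Equiv.addRight (1 : Fin 7)) fun i => ρ (π (u7 i)) v]
      apply Finset.sum_congr rfl
      intro i _
      rw [← rho_mul, ← map_mul]
      have e : ∀ i : Fin 7, u7 1 * u7 i = u7 (Equiv.addRight 1 i) := by decide +kernel
      rw [e]
    rw [h1] at h2
    exact h2
  -- the subgroups fixing `n v`
  have key : ∀ (n : ℤ) (g : ProjectiveSpecialLinearGroup (Fin 2) (ZMod 7)), g ≠ 1 →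
      (∀ v : V, ρ g (n • v) = n • v) → ∀ v : V, n • v = 0 := by
    intro n g hg hgv v
    let K : Subgroup (ProjectiveSpecialLinearGroup (Fin 2) (ZMod 7)) :=
      { carrier := {g | ∀ v : V, ρ g (n • v) = n • v}
        one_mem' := fun v => rho_one _
        mul_mem' := fun {a b} ha hb v => by rw [rho_mul, hb, ha]
        inv_mem' := fun {a} ha v => by
          have h1 := congrArg (ρ a⁻¹) (ha v)
          rw [← rho_mul, inv_mul_cancel, rho_one] at h1
          exact h1.symm }
    have hK : K.Normal := by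
      constructor
      intro a ha b v
      rw [rho_mul, rho_mul, map_zsmul, ha, ← map_zsmul, ← rho_mul, mul_inv_cancel, rho_one]
    rcases hK.eq_bot_or_eq_top with h1 | h1
    · exfalso
      have : g ∈ K := hgv
      rw [h1, mem_bot] at this
      exact hg this
    · have hX : π X ∈ K := by rw [h1]; exact mem_top _
      have h2 := h (π X) (by rw [← map_pow, show X ^ 3 = 1 by decide, map_one]) (pr_ne (by decide)) (n • v)
      rw [rho_mul, hX v, hX v] at h2
      apply h3
      rw [← h2]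
      module
  have h7 := key 7 (π (u7 1)) (pr_ne (by decide)) hu'
  have h1 := key 1 (π (q8 1)) (pr_ne (by decide)) (by
    intro v
    have e1 := hq' ((2 : ℤ) • v)
    have e2 : (4 : ℤ) • (2 : ℤ) • v = v + (7 : ℤ) • v := by module
    rw [e2, h7, add_zero] at e1
    rw [one_smul]
    exact e1)
  rw [← one_smul ℤ v]
  exact h1 v

end PSL

/-! ### the action on an abelian normal subgroup -/

section Action

variable {G : Type u} [Group G]

theorem exists_rho [Finite G] {N : Subgroup G} [hN : N.Normal] (hab : ∀ a ∈ N, ∀ b ∈ N, a * b = b * a)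
    (hcop : (Nat.card N).Coprime 3) (hrel : RelN N) :
    ∃ (V : Type u) (_ : AddCommGroup V) (f : V ≃ N) (ρ : G ⧸ N →* AddMonoid.End V),
      (∀ a b, (f (a + b) : G) = f a * f b) ∧ (f 0 : G) = 1 ∧ RelV ρ := by
  letI : CommGroup N :=
    { (inferInstance : Group N) with mul_comm := fun a b => Subtype.ext (hab a a.2 b b.2) }
  let c : G →* AddMonoid.End (Additive N) :=
    { toFun := fun g => MonoidHom.toAdditive (MulAut.conjNormal g : MulAut N).toMonoidHom
      map_one' := by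
        ext v
        change (1 : G) * (v.toMul : G) * (1 : G)⁻¹ = (v.toMul : G)
        group
      map_mul' := by
        intro a b
        ext v
        change a * b * (v.toMul : G) * (a * b)⁻¹ = a * (b * (v.toMul : G) * b⁻¹) * a⁻¹
        group }
  have hc : ∀ g v, ((c g v : Additive N).toMul : G) = g * (v.toMul : G) * g⁻¹ := fun g v => rfl
  have hker : N ≤ c.ker := by
    intro g hg
    rw [MonoidHom.mem_ker]
    ext v
    change g * (v.toMul : G) * g⁻¹ = (v.toMul : G)
    rw [hab g hg _ v.toMul.2]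
    group
  refine ⟨Additive N, inferInstance, Additive.toMul, QuotientGroup.lift N c hker, fun a b => rfl, rfl, ?_⟩
  intro y hy hy1 v
  obtain ⟨g, hg, hg1, rfl⟩ := lift_three hcop hy hy1
  have h1 := hrel g hg hg1 (v.toMul : G) v.toMul.2
  change v + c g v + c (g * g) v = 0
  apply congrArg Additive.ofMul (a₂ := (1 : N))
  apply Subtype.ext
  exact h1

end Action

end Cfsg.Agent.H341.FpfThree
end

-- part: H341/SelfThree
section
/-!
# Groups with a self-centralizing subgroup of order 3 (helper341)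

The reduction of S3331: `main`.
-/

set_option autoImplicit false

namespace Cfsg.Agent.H341.SelfThree

open Subgroup Cfsg Cfsg.Agent.H341.FpfThree

universe u

/-- a non-commutative group of order 6 -/
theorem s3_of_six {Q : Type u} [Group Q] [Finite Q] (h6 : Nat.card Q = 6) (hne : ¬ ∀ a b : Q, a * b = b * a) :
    Nonempty (Q ≃* Equiv.Perm (Fin 3)) := by
  classical
  have : Fact (Nat.Prime 2) := ⟨Nat.prime_two⟩
  have : Fact (Nat.Prime 3) := ⟨Nat.prime_three⟩
  obtain ⟨s, hs⟩ := exists_prime_orderOf_dvd_card' (G := Q) 2 (by rw [h6]; norm_num)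
  obtain ⟨x, hx⟩ := exists_prime_orderOf_dvd_card' (G := Q) 3 (by rw [h6]; norm_num)
  have hH : Nat.card (zpowers s) = 2 := by rw [Nat.card_zpowers, hs]
  have hind : (zpowers s).index = 3 := by
    have := (zpowers s).card_mul_index
    rw [hH, h6] at this
    omega
  let φ : Q →* Equiv.Perm (Q ⧸ zpowers s) := MulAction.toPermHom Q (Q ⧸ zpowers s)
  have hinj : Function.Injective φ := by
    rw [← MonoidHom.ker_eq_bot_iff, ← normalCore_eq_ker]
    have hle := normalCore_le (zpowers s)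
    have hdvd : Nat.card (zpowers s).normalCore ∣ 2 := by
      rw [← hH]
      exact card_dvd_of_le hle
    rcases (Nat.dvd_prime Nat.prime_two).1 hdvd with h1 | h1
    · exact card_eq_one.1 h1
    · exfalso
      have h2 : (zpowers s).normalCore = zpowers s := eq_of_le_of_card_ge hle (by rw [h1, hH])
      have hn : (zpowers s).Normal := by rw [← h2]; exact normalCore_normal _
      -- `s` is central
      have hsc : ∀ g : Q, g * s = s * g := by
        intro g
        have h3 := hn.conj_mem s (mem_zpowers s) g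
        obtain ⟨k, hk⟩ := h3
        have hk' : s ^ k = g * s * g⁻¹ := hk
        have hs2 : s ^ (2 : ℤ) = 1 := by
          have := pow_orderOf_eq_one s
          rw [hs] at this
          exact_mod_cast this
        rcases Int.even_or_odd' k with ⟨m, rfl | rfl⟩
        · exfalso
          rw [zpow_mul, hs2, one_zpow] at hk'
          have : s = 1 := by
            have := congrArg (fun y => g⁻¹ * y * g) hk'.symm
            simpa [mul_assoc] using this
          rw [this, orderOf_one] at hs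
          omega
        · rw [zpow_add, zpow_mul, hs2, one_zpow, one_mul, zpow_one] at hk'
          calc g * s = g * s * g⁻¹ * g := by group
            _ = s * g := by rw [← hk']
      apply hne
      -- `s x` has order 6
      have ho : orderOf (s * x) = 6 := by
        have hc : Commute s x := (hsc x).symm
        rw [hc.orderOf_mul_eq_mul_orderOf_of_coprime (by rw [hs, hx]; norm_num), hs, hx]
      have hcyc : ∀ y : Q, y ∈ zpowers (s * x) := by
        intro y
        have h3 : zpowers (s * x) = ⊤ := by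
          apply eq_top_of_card_eq
          rw [Nat.card_zpowers, ho, h6]
        rw [h3]; exact mem_top y
      intro a b
      obtain ⟨i, hi⟩ := hcyc a
      obtain ⟨j, hj⟩ := hcyc b
      have hi' : (s * x) ^ i = a := hi
      have hj' : (s * x) ^ j = b := hj
      rw [← hi', ← hj', ← zpow_add, ← zpow_add, add_comm]
  have hcard : Nat.card (Q ⧸ zpowers s) = 3 := hind
  let e : (Q ⧸ zpowers s) ≃ Fin 3 := Finite.equivFinOfCardEq hcard
  let ψ : Q →* Equiv.Perm (Fin 3) := (e.permCongrHom : Equiv.Perm (Q ⧸ zpowers s) →* Equiv.Perm (Fin 3)).comp φ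
  have hψ : Function.Injective ψ := e.permCongrHom.injective.comp hinj
  have hb : Function.Bijective ψ := by
    rw [Nat.bijective_iff_injective_and_card]
    refine ⟨hψ, ?_⟩
    rw [h6, Nat.card_eq_fintype_card, Fintype.card_perm, Fintype.card_fin]
    rfl
  exact ⟨MulEquiv.ofBijective ψ hb⟩

/-- Elements of order 3 in a group of 3-part 3, and normal subgroups. -/
theorem mem_of_normal {K : Type u} [Group K] [Finite K] (h9 : ¬ 9 ∣ Nat.card K) {H : Subgroup K} (hH : H.Normal)
    (h3 : 3 ∣ Nat.card H) {y : K} (hy : orderOf y = 3) : y ∈ H := by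
  have : Fact (Nat.Prime 3) := ⟨Nat.prime_three⟩
  obtain ⟨⟨h, hhH⟩, hh⟩ := exists_prime_orderOf_dvd_card' (G := H) 3 h3
  rw [Subgroup.orderOf_mk] at hh
  have hsyl : ∀ z : K, orderOf z = 3 → ∃ P : Sylow 3 K, (P : Subgroup K) = zpowers z := by
    intro z hz
    have hp : IsPGroup 3 (zpowers z) := IsPGroup.of_card (n := 1) (by rw [Nat.card_zpowers, hz, pow_one])
    obtain ⟨P, hP⟩ := hp.exists_le_sylow
    refine ⟨P, (eq_of_le_of_card_ge hP ?_).symm⟩
    obtain ⟨k, hk⟩ := IsPGroup.iff_card.1 P.2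
    have h1 : k < 2 := by
      by_contra h2
      apply h9
      have h4 : 3 ^ 2 ∣ Nat.card (P : Subgroup K) := by rw [hk]; exact pow_dvd_pow 3 (by omega)
      exact (by norm_num : 9 ∣ 3 ^ 2).trans (h4.trans (card_subgroup_dvd_card _))
    rw [hk, Nat.card_zpowers, hz]
    calc 3 ^ k ≤ 3 ^ 1 := Nat.pow_le_pow_right (by norm_num) (by omega)
      _ = 3 := pow_one 3
  obtain ⟨P, hP⟩ := hsyl h hh
  obtain ⟨Q, hQ⟩ := hsyl y hy
  obtain ⟨g, hg⟩ := MulAction.exists_smul_eq K Q P
  have h1 : g * y * g⁻¹ ∈ (P : Subgroup K) := by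
    rw [← hg]
    refine Subgroup.smul_mem_pointwise_smul y (MulAut.conj g) _ ?_
    rw [hQ]
    exact mem_zpowers y
  rw [hP] at h1
  have h2 : g * y * g⁻¹ ∈ H := (zpowers_le.2 hhH) h1
  have h4 := hH.conj_mem _ h2 g⁻¹
  have h5 : g⁻¹ * (g * y * g⁻¹) * g⁻¹⁻¹ = y := by group
  rwa [h5] at h4

/-- conjugating a generator of order 3 -/
theorem conj_zpowers {K : Type u} [Group K] {x g : K} (hx : orderOf x = 3) (h : g * x * g⁻¹ ∈ zpowers x) :
    g * x * g⁻¹ = x ∨ g * x * g⁻¹ = x⁻¹ := by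
  have hfin : IsOfFinOrder x := by
    rw [← orderOf_pos_iff, hx]; norm_num
  obtain ⟨k, hk⟩ := (hfin.mem_powers_iff_mem_zpowers).2 h
  have hk' : x ^ k = g * x * g⁻¹ := hk
  rw [← pow_mod_orderOf, hx] at hk'
  have h3 : k % 3 < 3 := Nat.mod_lt _ (by norm_num)
  have hx3 : x ^ 3 = 1 := by rw [← hx, pow_orderOf_eq_one]
  interval_cases hk3 : k % 3
  · exfalso
    rw [pow_zero] at hk'
    have h4 : x = 1 := by
      calc x = g⁻¹ * (g * x * g⁻¹) * g := by group
        _ = 1 := by rw [← hk']; group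
    rw [h4, orderOf_one] at hx
    omega
  · left
    rw [← hk', pow_one]
  · right
    rw [← hk']
    apply eq_inv_of_mul_eq_one_left
    rw [← pow_succ, hx3]

/-- the self-centralizing property -/
def Self (K : Type u) [Group K] : Prop := ∀ g k : K, orderOf g = 3 → g * k = k * g → k ∈ zpowers g

/-- **The structure of `G/O_{3'}(G)`.** -/
theorem structure_Q {Q : Type u} [Group Q] [Finite Q] (h3 : 3 ∣ Nat.card Q) (h9 : ¬ 9 ∣ Nat.card Q)
    (hcore : pPrimeCore 3 Q = ⊥) (hself : Self Q) :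
    Nat.card Q = 3 ∨ Nonempty (Q ≃* Equiv.Perm (Fin 3)) ∨ (IsSimpleGroup Q ∧ ¬ ∀ a b : Q, a * b = b * a) := by
  classical
  have : Fact (Nat.Prime 3) := ⟨Nat.prime_three⟩
  obtain ⟨x, hx⟩ := exists_prime_orderOf_dvd_card' (G := Q) 3 h3
  have hx1 : x ≠ 1 := by
    rintro rfl
    rw [orderOf_one] at hx
    omega
  set M : Subgroup Q := normalClosure {x} with hM
  have hMn : M.Normal := normalClosure_normal
  have hxM : x ∈ M := subset_normalClosure rfl
  -- a nontrivial normal subgroup of a normal subgroup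
  have hM9 : ¬ 9 ∣ Nat.card M := fun h => h9 (h.trans (card_subgroup_dvd_card M))
  have hsub : ∀ H : Subgroup M, H.Normal → H ≠ ⊥ → H = ⊤ := by
    intro H hH hH1
    have h1 : pPrimeCore 3 M = ⊥ := by
      have h2 := Lib.Cores.map_subtype_pPrimeCore 3 hMn
      rw [hcore, inf_bot_eq, map_eq_bot_iff_of_injective _ M.subtype_injective] at h2
      exact h2
    have h2 : 3 ∣ Nat.card H := by
      by_contra h4
      apply hH1
      rw [eq_bot_iff, ← h1]
      apply Lib.Cores.le_pPrimeCore hH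
      exact Nat.Coprime.symm ((Nat.Prime.coprime_iff_not_dvd Nat.prime_three).2 h4)
    have h5 : ∀ y : M, orderOf y = 3 → y ∈ H := fun y hy => mem_of_normal hM9 hH h2 hy
    rw [eq_top_iff]
    have h6 : M ≤ H.map M.subtype := by
      change _root_.Subgroup.closure (Group.conjugatesOfSet {x}) ≤ _
      rw [closure_le]
      intro y hy
      have hyM : y ∈ M := conjugatesOfSet_subset_normalClosure hy
      obtain ⟨z, hz, hzy⟩ := Group.mem_conjugatesOfSet_iff.1 hy
      rw [Set.mem_singleton_iff.1 hz] at hzy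
      obtain ⟨g, hg⟩ := isConj_iff.1 hzy
      refine ⟨⟨y, hyM⟩, h5 _ ?_, rfl⟩
      rw [Subgroup.orderOf_mk, ← hg, ← hx]
      have := (MulAut.conj g).orderOf_eq x
      rwa [MulAut.conj_apply] at this
    intro y _
    obtain ⟨z, hz, hzy⟩ := h6 y.2
    have : z = y := Subtype.ext hzy
    rwa [this] at hz
  have hMnt : Nontrivial M := ⟨⟨⟨x, hxM⟩, 1, fun h => hx1 (congrArg Subtype.val h)⟩⟩
  have hMs : IsSimpleGroup M :=
    { eq_bot_or_eq_top_of_normal := fun H hH => by
        by_cases h : H = ⊥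
        · exact Or.inl h
        · exact Or.inr (hsub H hH h) }
  by_cases hcomm : ∀ a b : M, a * b = b * a
  · -- `M = ⟨x⟩`
    have hMz : M = zpowers x := by
      apply le_antisymm
      · intro y hy
        exact hself x y hx (congrArg Subtype.val (hcomm ⟨x, hxM⟩ ⟨y, hy⟩))
      · rw [zpowers_le]
        exact hxM
    have hdich : ∀ g : Q, g * x * g⁻¹ = x ∨ g * x * g⁻¹ = x⁻¹ := by
      intro g
      apply conj_zpowers hx
      rw [← hMz]
      exact hMn.conj_mem x hxM g
    by_cases hs : ∃ s : Q, s * x * s⁻¹ = x⁻¹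
    · right; left
      obtain ⟨s, hs⟩ := hs
      apply s3_of_six
      · -- order six: index two
        have h2 : (zpowers x).index = 2 := by
          rw [index_eq_two_iff_exists_notMem_and]
          refine ⟨s, ?_, ?_⟩
          · intro hsx
            obtain ⟨k, hk⟩ := hsx
            have hk' : x ^ k = s := hk
            rw [← hk'] at hs
            have h4 : x ^ k * x * (x ^ k)⁻¹ = x := by group
            rw [h4] at hs
            have h5 : x ^ 2 = 1 := by rw [pow_two]; nth_rewrite 1 [hs]; rw [inv_mul_cancel]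
            have := orderOf_dvd_of_pow_eq_one h5
            rw [hx] at this
            omega
          · intro b
            rcases hdich b with hb | hb
            · right
              apply hself x b hx
              calc x * b = b * x * b⁻¹ * b := by rw [hb]
                _ = b * x := by group
            · left
              apply hself x (b * s) hx
              have h4 : b * s * x * (b * s)⁻¹ = x := by
                calc b * s * x * (b * s)⁻¹ = b * (s * x * s⁻¹) * b⁻¹ := by group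
                  _ = (b * x * b⁻¹)⁻¹ := by rw [hs]; group
                  _ = x := by rw [hb, inv_inv]
              calc x * (b * s) = b * s * x * (b * s)⁻¹ * (b * s) := by rw [h4]
                _ = b * s * x := by group
        have h4 := (zpowers x).card_mul_index
        rw [h2, Nat.card_zpowers, hx] at h4
        omega
      · intro hab
        have h4 : s * x * s⁻¹ = x := by rw [hab s x]; group
        rw [h4] at hs
        have h5 : x ^ 2 = 1 := by rw [pow_two]; nth_rewrite 1 [hs]; rw [inv_mul_cancel]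
        have := orderOf_dvd_of_pow_eq_one h5
        rw [hx] at this
        omega
    · left
      push Not at hs
      have hall : ∀ g : Q, g ∈ zpowers x := by
        intro g
        have hg := (hdich g).resolve_right (hs g)
        apply hself x g hx
        calc x * g = g * x * g⁻¹ * g := by rw [hg]
          _ = g * x := by group
      have h4 : zpowers x = ⊤ := eq_top_iff.2 fun g _ => hall g
      rw [← card_top (G := Q), ← h4, Nat.card_zpowers, hx]
  · right; right
    -- an element of `M` inverting `x`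
    have hinv : ∃ m ∈ M, m * x * m⁻¹ = x⁻¹ := by
      set xM : M := ⟨x, hxM⟩ with hxMd
      have hxo : orderOf xM = 3 := by rw [Subgroup.orderOf_mk, hx]
      have hp : IsPGroup 3 (zpowers xM) := IsPGroup.of_card (n := 1) (by rw [Nat.card_zpowers, hxo, pow_one])
      obtain ⟨P, hP⟩ := hp.exists_le_sylow
      have hPx : (P : Subgroup M) = zpowers xM := by
        refine (eq_of_le_of_card_ge hP ?_).symm
        obtain ⟨k, hk⟩ := IsPGroup.iff_card.1 P.2
        have h1 : k < 2 := by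
          by_contra h2
          apply hM9
          have h4 : 3 ^ 2 ∣ Nat.card (P : Subgroup M) := by rw [hk]; exact pow_dvd_pow 3 (by omega)
          exact (by norm_num : 9 ∣ 3 ^ 2).trans (h4.trans (card_subgroup_dvd_card _))
        rw [hk, Nat.card_zpowers, hxo]
        calc 3 ^ k ≤ 3 ^ 1 := Nat.pow_le_pow_right (by norm_num) (by omega)
          _ = 3 := pow_one 3
      by_contra hno
      push Not at hno
      -- Burnside
      have hNC : normalizer ((P : Subgroup M) : Set M) ≤ centralizer ((P : Subgroup M) : Set M) := by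
        intro m hm
        have h1 : m * xM * m⁻¹ ∈ (P : Subgroup M) := by
          refine (mem_normalizer_iff.1 hm xM).1 ?_
          rw [hPx]; exact mem_zpowers xM
        rw [hPx] at h1
        have h2 : m * xM * m⁻¹ = xM := by
          rcases conj_zpowers hxo h1 with h2 | h2
          · exact h2
          · exact absurd (congrArg Subtype.val h2) (hno m m.2)
        rw [mem_centralizer_iff]
        intro y hy
        rw [hPx] at hy
        obtain ⟨k, hk⟩ := hy
        have hk' : xM ^ k = y := hk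
        have h4 : Commute m xM := by
          change m * xM = xM * m
          calc m * xM = m * xM * m⁻¹ * m := by group
            _ = xM * m := by rw [h2]
        rw [← hk']
        exact (h4.zpow_right k).eq.symm
      have hcompl := MonoidHom.ker_transferSylow_isComplement' P hNC
      have hkn : (MonoidHom.transferSylow P hNC).ker.Normal := inferInstance
      rcases hkn.eq_bot_or_eq_top with h1 | h1
      · rw [h1] at hcompl
        have h2 : (P : Subgroup M) = ⊤ := (isComplement'_bot_left.1 hcompl)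
        apply hcomm
        intro a b
        have ha : a ∈ (P : Subgroup M) := by rw [h2]; exact mem_top a
        have hb : b ∈ (P : Subgroup M) := by rw [h2]; exact mem_top b
        rw [hPx] at ha hb
        obtain ⟨i, hi⟩ := ha
        obtain ⟨j, hj⟩ := hb
        have hi' : xM ^ i = a := hi
        have hj' : xM ^ j = b := hj
        rw [← hi', ← hj', ← zpow_add, ← zpow_add, add_comm]
      · rw [h1] at hcompl
        have h2 : (P : Subgroup M) = ⊥ := (isComplement'_top_left.1 hcompl)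
        rw [hPx, zpowers_eq_bot] at h2
        rw [h2, orderOf_one] at hxo
        omega
    obtain ⟨m, hmM, hm⟩ := hinv
    have htop : M = ⊤ := by
      rw [eq_top_iff]
      intro g _
      -- Frattini
      have hy : orderOf (⟨g * x * g⁻¹, hMn.conj_mem x hxM g⟩ : M) = 3 := by
        rw [Subgroup.orderOf_mk, ← hx]
        have := (MulAut.conj g).orderOf_eq x
        rwa [MulAut.conj_apply] at this
      have hxo : orderOf (⟨x, hxM⟩ : M) = 3 := by rw [Subgroup.orderOf_mk, hx]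
      have hconj : ∃ c : M, c * (⟨g * x * g⁻¹, hMn.conj_mem x hxM g⟩ : M) * c⁻¹ ∈ zpowers (⟨x, hxM⟩ : M) := by
        have hsyl : ∀ z : M, orderOf z = 3 → ∃ P : Sylow 3 M, (P : Subgroup M) = zpowers z := by
          intro z hz
          have hp : IsPGroup 3 (zpowers z) := IsPGroup.of_card (n := 1) (by rw [Nat.card_zpowers, hz, pow_one])
          obtain ⟨P, hP⟩ := hp.exists_le_sylow
          refine ⟨P, (eq_of_le_of_card_ge hP ?_).symm⟩
          obtain ⟨k, hk⟩ := IsPGroup.iff_card.1 P.2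
          have h1 : k < 2 := by
            by_contra h2
            apply hM9
            have h4 : 3 ^ 2 ∣ Nat.card (P : Subgroup M) := by rw [hk]; exact pow_dvd_pow 3 (by omega)
            exact (by norm_num : 9 ∣ 3 ^ 2).trans (h4.trans (card_subgroup_dvd_card _))
          rw [hk, Nat.card_zpowers, hz]
          calc 3 ^ k ≤ 3 ^ 1 := Nat.pow_le_pow_right (by norm_num) (by omega)
            _ = 3 := pow_one 3
        obtain ⟨P, hP⟩ := hsyl _ hxo
        obtain ⟨R, hR⟩ := hsyl _ hy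
        obtain ⟨c, hc⟩ := MulAction.exists_smul_eq M R P
        refine ⟨c, ?_⟩
        rw [← hP, ← hc]
        refine Subgroup.smul_mem_pointwise_smul _ (MulAut.conj c) _ ?_
        rw [hR]
        exact mem_zpowers _
      obtain ⟨c, hc⟩ := hconj
      have hc' : (c : Q) * g * x * ((c : Q) * g)⁻¹ ∈ zpowers x := by
        obtain ⟨k, hk⟩ := hc
        refine ⟨k, ?_⟩
        have h1 : (x : Q) ^ k = (c : Q) * (g * x * g⁻¹) * (c : Q)⁻¹ := congrArg Subtype.val hk
        change x ^ k = _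
        rw [h1]; group
      have hcg : (c : Q) * g ∈ M := by
        rcases conj_zpowers hx hc' with h1 | h1
        · apply zpowers_le.2 hxM
          apply hself x _ hx
          calc x * ((c : Q) * g) = (c : Q) * g * x * ((c : Q) * g)⁻¹ * ((c : Q) * g) := by rw [h1]
            _ = _ := by group
        · have h2 : m * ((c : Q) * g) ∈ zpowers x := by
            apply hself x _ hx
            have h4 : m * ((c : Q) * g) * x * (m * ((c : Q) * g))⁻¹ = x := by
              calc m * ((c : Q) * g) * x * (m * ((c : Q) * g))⁻¹ = m * ((c : Q) * g * x * ((c : Q) * g)⁻¹) * m⁻¹ := by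
                    group
                _ = (m * x * m⁻¹)⁻¹ := by rw [h1]; group
                _ = x := by rw [hm, inv_inv]
            calc x * (m * ((c : Q) * g)) = m * ((c : Q) * g) * x * (m * ((c : Q) * g))⁻¹ * (m * ((c : Q) * g)) := by
                  rw [h4]
              _ = _ := by group
          have h3 := M.mul_mem (M.inv_mem hmM) (zpowers_le.2 hxM h2)
          rwa [inv_mul_cancel_left] at h3
      have h5 := M.mul_mem (M.inv_mem c.2) hcg
      rwa [inv_mul_cancel_left] at h5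
    have hQM : IsSimpleGroup Q := by
      have e : M ≃* Q := (MulEquiv.subgroupCongr htop).trans topEquiv
      have : Nontrivial Q := e.symm.toEquiv.nontrivial
      exact IsSimpleGroup.isSimpleGroup_of_surjective e.toMonoidHom e.surjective
    refine ⟨hQM, fun h => hcomm fun a b => Subtype.ext (h a b)⟩

/-- **S3331.** -/
theorem main (T : OrdDiv.OrderTable.{u})
    (hJ : ∀ (S : Type u) [Group S], Spor.IsoJ1 S → ∃ g k : S, orderOf g = 3 ∧ g * k = k * g ∧ k ^ 3 ≠ 1)
    (known : ∀ (S : Type u) [Group S] [Finite S], IsSimpleGroup S → IsKnownSimple' S)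
    {G : Type u} [Group G] [Finite G]
    (X : Subgroup G) (hX : Nat.card X = 3) (hC : Subgroup.centralizer (X : Set G) = X) :
    (∃ (N : Subgroup G) (_hN : N.Normal), Group.IsNilpotent N ∧ (Nat.card N).Coprime 3 ∧
        (Nat.card (G ⧸ N) = 3 ∨ Nonempty (G ⧸ N ≃* Equiv.Perm (Fin 3)))) ∨
    (∃ (N : Subgroup G) (_hN : N.Normal), IsMulCommutative N ∧ (∀ n ∈ N, n ^ 2 = 1) ∧
        Nonempty (G ⧸ N ≃* alternatingGroup (Fin 5))) ∨
    Nonempty (G ≃* Matrix.ProjectiveSpecialLinearGroup (Fin 2) (ZMod 7)) := by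
  classical
  have : Fact (Nat.Prime 3) := ⟨Nat.prime_three⟩
  obtain ⟨⟨x, hxX⟩, hx⟩ := exists_prime_orderOf_dvd_card' (G := X) 3 (by rw [hX])
  rw [Subgroup.orderOf_mk] at hx
  have hXz : X = zpowers x := (eq_of_le_of_card_ge (zpowers_le.2 hxX) (by rw [hX, Nat.card_zpowers, hx])).symm
  have hx3 : x ^ 3 = 1 := by rw [← hx, pow_orderOf_eq_one]
  have hx1 : x ≠ 1 := by
    rintro rfl
    rw [orderOf_one] at hx
    omega
  have hCx : ∀ k : G, x * k = k * x → k ∈ zpowers x := by
    intro k hk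
    rw [← hXz, ← hC, mem_centralizer_iff]
    intro y hy
    rw [hXz] at hy
    obtain ⟨i, hi⟩ := hy
    have hi' : x ^ i = y := hi
    rw [← hi']
    have h1 : Commute x k := hk
    exact (h1.zpow_left i).eq
  -- Sylow
  have hp : IsPGroup 3 (zpowers x) := IsPGroup.of_card (n := 1) (by rw [Nat.card_zpowers, hx, pow_one])
  obtain ⟨P, hP⟩ := hp.exists_le_sylow
  have hPx : (P : Subgroup G) = zpowers x := by
    refine le_antisymm ?_ hP
    have hPn : Nontrivial (P : Subgroup G) :=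
      ⟨⟨⟨x, hP (mem_zpowers x)⟩, 1, fun h => hx1 (congrArg Subtype.val h)⟩⟩
    have hcen := P.isPGroup'.center_nontrivial
    obtain ⟨⟨z, hz⟩, hz1⟩ := exists_ne (1 : center (P : Subgroup G))
    have hz1' : (z : G) ≠ 1 := fun h => hz1 (Subtype.ext (Subtype.ext h))
    have hzx : (z : G) ∈ zpowers x := by
      apply hCx
      exact (congrArg Subtype.val (mem_center_iff.1 hz ⟨x, hP (mem_zpowers x)⟩))
    -- `x` is a power of `z`
    have hxz : x ∈ zpowers (z : G) := by
      have h1 : zpowers (z : G) ≤ zpowers x := zpowers_le.2 hzx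
      have h2 : Nat.card (zpowers (z : G)) ∣ 3 := by
        have := card_dvd_of_le h1
        rwa [Nat.card_zpowers x, hx] at this
      rcases (Nat.dvd_prime Nat.prime_three).1 h2 with h3 | h3
      · exfalso
        apply hz1'
        rw [← zpowers_eq_bot]
        exact card_eq_one.1 h3
      · rw [eq_of_le_of_card_ge h1 (by rw [h3, Nat.card_zpowers, hx])]
        exact mem_zpowers x
    intro k hk
    apply hCx
    obtain ⟨i, hi⟩ := hxz
    have hi' : (z : G) ^ i = x := hi
    have h1 : Commute (z : G) k := (congrArg Subtype.val (mem_center_iff.1 hz ⟨k, hk⟩)).symm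
    rw [← hi']
    exact (h1.zpow_left i).eq
  have h9 : ¬ 9 ∣ Nat.card G := by
    intro h
    have h1 : 3 ^ 2 ∣ Nat.card (P : Subgroup G) := P.pow_dvd_card_of_pow_dvd_card (by norm_num; exact h)
    rw [hPx, Nat.card_zpowers, hx] at h1
    norm_num at h1
  have h3 : 3 ∣ Nat.card G := by
    rw [← hX]
    exact card_subgroup_dvd_card X
  -- all elements of order three
  have hself : Self G := by
    intro g k hg hk
    have hpg : IsPGroup 3 (zpowers g) := IsPGroup.of_card (n := 1) (by rw [Nat.card_zpowers, hg, pow_one])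
    obtain ⟨R, hR⟩ := hpg.exists_le_sylow
    obtain ⟨c, hc⟩ := MulAction.exists_smul_eq G R P
    have h1 : c * g * c⁻¹ ∈ zpowers x := by
      rw [← hPx, ← hc]
      exact Subgroup.smul_mem_pointwise_smul g (MulAut.conj c) _ (hR (mem_zpowers g))
    have ho : orderOf (c * g * c⁻¹) = 3 := by
      have := (MulAut.conj c).orderOf_eq g
      rw [MulAut.conj_apply] at this
      rw [this, hg]
    have h2 : zpowers (c * g * c⁻¹) = zpowers x :=
      eq_of_le_of_card_ge (zpowers_le.2 h1) (by rw [Nat.card_zpowers, Nat.card_zpowers, ho, hx])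
    have h4 : c * k * c⁻¹ ∈ zpowers x := by
      apply hCx
      have h5 : x ∈ zpowers (c * g * c⁻¹) := by rw [h2]; exact mem_zpowers x
      obtain ⟨i, hi⟩ := h5
      have hi' : (c * g * c⁻¹) ^ i = x := hi
      have h6 : Commute (c * g * c⁻¹) (c * k * c⁻¹) := by
        change c * g * c⁻¹ * (c * k * c⁻¹) = c * k * c⁻¹ * (c * g * c⁻¹)
        calc c * g * c⁻¹ * (c * k * c⁻¹) = c * (g * k) * c⁻¹ := by group
          _ = c * (k * g) * c⁻¹ := by rw [hk]
          _ = _ := by group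
      rw [← hi']
      exact (h6.zpow_left i).eq
    rw [← h2] at h4
    obtain ⟨i, hi⟩ := h4
    have hi' : (c * g * c⁻¹) ^ i = c * k * c⁻¹ := hi
    refine ⟨i, ?_⟩
    change g ^ i = k
    rw [conj_zpow] at hi'
    exact mul_left_cancel (mul_right_cancel hi')
  set N : Subgroup G := pPrimeCore 3 G with hNdef
  have hN : N.Normal := Lib.Cores.pPrimeCore_normal 3
  have hcop : (Nat.card N).Coprime 3 := Lib.Cores.pPrimeCore_coprime 3
  have hfpf : ∀ g : G, orderOf g = 3 → ∀ n ∈ N, g * n = n * g → n = 1 := by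
    intro g hg n hn hgn
    have h1 := hself g n hg hgn
    have h2 : orderOf n ∣ 3 := by
      rw [← hg]
      exact orderOf_dvd_of_mem_zpowers h1
    have h4 : orderOf n ∣ Nat.card N := by
      have := _root_.orderOf_dvd_natCard (⟨n, hn⟩ : N)
      rwa [Subgroup.orderOf_mk] at this
    have h5 := Nat.dvd_gcd h4 h2
    rw [hcop] at h5
    exact orderOf_eq_one_iff.1 (Nat.dvd_one.1 h5)
  have hord3 : ∀ g : G, g ^ 3 = 1 → g ≠ 1 → orderOf g = 3 := fun g h1 h2 => orderOf_eq_prime h1 h2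
  have hrel : RelN N := fun g hg hg1 n hn => rel_of_fpf hN hg (hfpf g (hord3 g hg hg1)) hn
  -- nilpotent
  have hnil : Group.IsNilpotent N := by
    by_cases hb : N = ⊥
    · rw [hb]
      infer_instance
    · obtain ⟨⟨n, hn⟩, hn1⟩ := (Subgroup.ne_bot_iff_exists_ne_one).1 hb
      have hn1' : n ≠ 1 := fun h => hn1 (Subtype.ext h)
      refine S0033.result (MulAut.conjNormal x : N ≃* N) ?_ 3 Nat.prime_three ?_
      · intro m hm
        have h1 : x * (m : G) * x⁻¹ = m := congrArg Subtype.val hm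
        apply Subtype.ext
        apply hfpf x hx m m.2
        calc x * (m : G) = x * m * x⁻¹ * x := by group
          _ = m * x := by rw [h1]
      · apply orderOf_eq_prime
        · have h1 : (MulAut.conjNormal x : MulAut N) ^ 3 = MulAut.conjNormal (x ^ 3) := (map_pow _ _ _).symm
          rw [h1, hx3, map_one]
        · intro h
          have h0 : (MulAut.conjNormal x : MulAut N) ⟨n, hn⟩ = (1 : MulAut N) ⟨n, hn⟩ := by
            have h00 : (MulAut.conjNormal x : MulAut N) = 1 := h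
            rw [h00]
          have h1 : x * n * x⁻¹ = n := congrArg Subtype.val h0
          apply hn1'
          apply hfpf x hx n hn
          calc x * n = x * n * x⁻¹ * x := by group
            _ = n * x := by rw [h1]
  -- the quotient
  have hc := card_eq_card_quotient_mul_card_subgroup N
  have hQ3 : 3 ∣ Nat.card (G ⧸ N) := by
    rw [hc] at h3
    exact (Nat.Coprime.symm hcop).dvd_of_dvd_mul_right h3
  have hQ9 : ¬ 9 ∣ Nat.card (G ⧸ N) := fun h => h9 (by rw [hc]; exact h.mul_right _)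
  have hQcore : pPrimeCore 3 (G ⧸ N) = ⊥ := Lib.Cores.pPrimeCore_quotient_pPrimeCore 3
  have hQself : Self (G ⧸ N) := by
    intro y k hy hk
    have hy3 : y ^ 3 = 1 := by rw [← hy, pow_orderOf_eq_one]
    have hy1 : y ≠ 1 := by
      rintro rfl
      rw [orderOf_one] at hy
      omega
    obtain ⟨g, hg3, hg1, rfl⟩ := lift_three hcop hy3 hy1
    have hg := hord3 g hg3 hg1
    have hpg : IsPGroup 3 (zpowers g) := IsPGroup.of_card (n := 1) (by rw [Nat.card_zpowers, hg, pow_one])
    have h1 := PLocal.CoprimeLift.map_centralizer_mk N (zpowers g) hcop hpg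
    have h2 : k ∈ centralizer (((zpowers g).map (QuotientGroup.mk' N) : Subgroup (G ⧸ N)) : Set (G ⧸ N)) := by
      rw [MonoidHom.map_zpowers, mem_centralizer_iff]
      intro z hz
      obtain ⟨i, hi⟩ := hz
      have hi' : (QuotientGroup.mk' N g) ^ i = z := hi
      rw [← hi']
      have h5 : Commute (QuotientGroup.mk' N g) k := hk
      exact (h5.zpow_left i).eq
    rw [← h1] at h2
    obtain ⟨c, hcc, hck⟩ := h2
    have h4 : c ∈ zpowers g := by
      apply hself g c hg
      exact mem_centralizer_iff.1 hcc g (mem_zpowers g)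
    obtain ⟨i, hi⟩ := h4
    refine ⟨i, ?_⟩
    have hi' : g ^ i = c := hi
    rw [← hck, ← hi']
    rfl
  rcases structure_Q hQ3 hQ9 hQcore hQself with h | h | ⟨hs, hne⟩
  · exact Or.inl ⟨N, hN, hnil, hcop, Or.inl h⟩
  · exact Or.inl ⟨N, hN, hnil, hcop, Or.inr h⟩
  right
  have hcube : ∀ g k : G ⧸ N, orderOf g = 3 → g * k = k * g → k ^ 3 = 1 := by
    intro g k hg hk
    have h1 := hQself g k hg hk
    have h2 := orderOf_dvd_of_mem_zpowers h1
    rw [hg] at h2
    exact orderOf_dvd_iff_pow_eq_one.1 h2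
  rcases ThreeFin.three T hJ (known (G ⧸ N) hs) hne hQ3 hQ9 hcube with ⟨⟨e⟩⟩ | ⟨⟨e⟩⟩
  · -- `A₅`
    left
    have hab : ∀ a ∈ N, ∀ b ∈ N, a * b = b * a := by
      have htr : ∀ a b : alternatingGroup (Fin 5), a = b → e.symm a = e.symm b := fun a b h => congrArg _ h
      refine abelian_of_rel hcop hnil hrel (e.symm (iv 0 1 1 2)) (e.symm (iv 0 1 2 3)) ?_ ?_ ?_ ?_ ?_ ?_ ?_
      · rw [← map_pow, show iv 0 1 1 2 ^ 3 = 1 by decide, map_one]
      · rw [ne_eq, EmbeddingLike.map_eq_one_iff]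
        decide
      · rw [← map_mul, ← map_pow, show (iv 0 1 1 2 * iv 0 1 2 3) ^ 3 = 1 by decide, map_one]
      · rw [← map_mul, ne_eq, EmbeddingLike.map_eq_one_iff]
        decide
      · rw [← map_inv, ← map_mul, ← map_pow, show ((iv 0 1 1 2)⁻¹ * iv 0 1 2 3) ^ 3 = 1 by decide, map_one]
      · rw [← map_inv, ← map_mul, ne_eq, EmbeddingLike.map_eq_one_iff]
        decide
      · rw [← map_inv, ← map_mul, ← map_mul, ← map_mul, ← map_mul, ne_eq, EmbeddingLike.apply_eq_iff_eq]
        decide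
    refine ⟨N, hN, ⟨⟨fun a b => Subtype.ext (hab a a.2 b b.2)⟩⟩, ?_, ⟨e⟩⟩
    obtain ⟨V, _, f, ρ, hf, hf0, hρ⟩ := exists_rho hab hcop hrel
    intro n hn
    have h6 : ((6 : ℤ) • f.symm ⟨n, hn⟩) = 0 := by
      refine six_eq (ρ := ρ.comp (e.symm : alternatingGroup (Fin 5) →* G ⧸ N)) ?_ _
      intro y hy hy1 v
      have h1 := hρ (e.symm y) (by rw [← map_pow, hy, map_one]) (by
        rw [ne_eq, EmbeddingLike.map_eq_one_iff]; exact hy1) v
      rw [← map_mul] at h1
      exact h1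
    have h7 : n ^ 6 = 1 := by
      have h8 : ∀ (k : ℕ) (v : V), (f ((k : ℤ) • v) : G) = (f v : G) ^ k := by
        intro k v
        induction k with
        | zero => rw [Nat.cast_zero, zero_smul, hf0, pow_zero]
        | succ k ih => rw [Nat.cast_succ, add_smul, one_smul, hf, ih, pow_succ]
      have h9 := h8 6 (f.symm ⟨n, hn⟩)
      have h10 : (((6 : ℕ) : ℤ)) • f.symm ⟨n, hn⟩ = 0 := h6
      rw [h10, hf0, Equiv.apply_symm_apply] at h9
      exact h9.symm
    -- the order divides 6 and is prime to 3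
    have h8 : orderOf n ∣ 6 := orderOf_dvd_of_pow_eq_one h7
    have h9 : orderOf n ∣ Nat.card N := by
      have := _root_.orderOf_dvd_natCard (⟨n, hn⟩ : N)
      rwa [Subgroup.orderOf_mk] at this
    have h10 : Nat.Coprime (orderOf n) 3 := Nat.Coprime.coprime_dvd_left h9 hcop
    apply orderOf_dvd_iff_pow_eq_one.1
    exact h10.dvd_of_dvd_mul_right (by exact h8)
  · -- `PSL₂(7)`
    right
    have hF7 : Fact (Nat.Prime 7) := ⟨by norm_num⟩
    obtain ⟨a7, b7, ha3, ha1, hab3, hab1, hab3', hab1', hne7⟩ := psl_pair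
    have hsimp : IsSimpleGroup (Matrix.ProjectiveSpecialLinearGroup (Fin 2) (ZMod 7)) := by
      have : Nontrivial (Matrix.ProjectiveSpecialLinearGroup (Fin 2) (ZMod 7)) := e.symm.toEquiv.nontrivial
      exact IsSimpleGroup.isSimpleGroup_of_surjective e.toMonoidHom e.surjective
    have hab : ∀ a ∈ N, ∀ b ∈ N, a * b = b * a := by
      refine abelian_of_rel hcop hnil hrel (e.symm a7) (e.symm b7) ?_ ?_ ?_ ?_ ?_ ?_ ?_
      · rw [← map_pow, ha3, map_one]
      · rw [ne_eq, EmbeddingLike.map_eq_one_iff]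
        exact ha1
      · rw [← map_mul, ← map_pow, hab3, map_one]
      · rw [← map_mul, ne_eq, EmbeddingLike.map_eq_one_iff]
        exact hab1
      · rw [← map_inv, ← map_mul, ← map_pow, hab3', map_one]
      · rw [← map_inv, ← map_mul, ne_eq, EmbeddingLike.map_eq_one_iff]
        exact hab1'
      · rw [← map_inv, ← map_mul, ← map_mul, ← map_mul, ← map_mul, ne_eq, EmbeddingLike.apply_eq_iff_eq]
        exact hne7
    obtain ⟨V, _, f, ρ, hf, hf0, hρ⟩ := exists_rho hab hcop hrel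
    have hN1 : N = ⊥ := by
      rw [eq_bot_iff]
      intro n hn
      have h8 : ∀ (k : ℕ) (v : V), (f ((k : ℤ) • v) : G) = (f v : G) ^ k := by
        intro k v
        induction k with
        | zero => rw [Nat.cast_zero, zero_smul, hf0, pow_zero]
        | succ k ih => rw [Nat.cast_succ, add_smul, one_smul, hf, ih, pow_succ]
      have h6 : f.symm ⟨n, hn⟩ = 0 := by
        refine psl_seven
          (ρ := ρ.comp (e.symm : Matrix.ProjectiveSpecialLinearGroup (Fin 2) (ZMod 7) →* G ⧸ N)) ?_ ?_ _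
        · intro y hy hy1 v
          have h1 := hρ (e.symm y) (by rw [← map_pow, hy, map_one]) (by
            rw [ne_eq, EmbeddingLike.map_eq_one_iff]; exact hy1) v
          rw [← map_mul] at h1
          exact h1
        · intro v hv
          have h1 := h8 3 v
          have h2 : (((3 : ℕ) : ℤ)) • v = 0 := hv
          rw [h2, hf0] at h1
          have h4 : (f v : G) = 1 := by
            have h5 : orderOf (f v : G) ∣ 3 := orderOf_dvd_of_pow_eq_one h1.symm
            have h6 : orderOf (f v : G) ∣ Nat.card N := by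
              have := _root_.orderOf_dvd_natCard (f v)
              rwa [← Subgroup.orderOf_coe] at this
            have h7 := Nat.dvd_gcd h6 h5
            rw [hcop] at h7
            exact orderOf_eq_one_iff.1 (Nat.dvd_one.1 h7)
          apply f.injective
          apply Subtype.ext
          rw [h4, hf0]
      have h7 := congrArg (fun v => (f v : G)) h6
      simp only [Equiv.apply_symm_apply] at h7
      rw [hf0] at h7
      rw [mem_bot]
      exact h7
    exact ⟨((QuotientGroup.quotientBot (G := G)).symm.trans (QuotientGroup.quotientMulEquivOfEq hN1.symm)).trans e⟩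

end Cfsg.Agent.H341.SelfThree
end

private theorem dce_3d8fefe65a55 : _root_.True := by
  try have : _root_.True := by simp only [_root_.Cfsg.Agent.H341.FpfThree.iv.congr_simp]
  exact _root_.True.intro
end
end
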