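import Mathlib
import Cfsg.Agent.H128.Val3
import Cfsg.Agent.H128.Char3
import Cfsg.Agent.H128.WeightsFix
import Cfsg.Agent.H175.OmegaAdjust
import Cfsg.Agent.ClassicalGeometry.SiegelGen
import Cfsg.Agent.ClassicalGeometry.PSL2Basic
import Cfsg.Agent.LieClassical.OrthTrans
import Cfsg.Agent.S2572
import Cfsg.Agent.LieClassical.SympPerfect
import Cfsg.Agent.S0775
import Cfsg.Agent.LieClassical.HermCount
import Cfsg.Agent.ClassicalGeometry.PSUAutBasic
import Cfsg.Agent.S0782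
import Cfsg.Agent.S2127
import Cfsg.Agent.S0291
import Cfsg.Agent.S2604
import Cfsg.Agent.LieClassical.OrthCenter
import Cfsg.Prelude.Def_Transfer
import Cfsg.Agent.Lib.GenFitting
import Cfsg.Agent.Lib.Cores
import Cfsg.Agent.H261.Reduction
import Cfsg.Agent.PLocal.OffenderBound
import Cfsg.Agent.FastGrp
import Cfsg.Agent.Prune
set_option linter.all false

section
prune_inst 0x7f00000000000000000000000000000000000000000000000000000000000000000000000000000000000000000000000000000000000000000000000000000000000000000000000000000000000000003fffffffffffffffffffffffffffbeffbdffffffff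

-- part: H349/T3/ElimDef
section
set_option linter.all false

/-!
# The simple groups of the 3-central rows S3337 and S3368: what is known (helper349)

`Cand z k d m` : the properties of the simple group `E = F*(G)` of the rows S3337 and S3368, which will be established
by the local analysis; `Z = ⟨z⟩`, `3 ^ k` is the 3-part of `|E|`, `d = |G : E|`, and `2 ^ m` divides `|C_G(Z)|`
(`m = 9` in S3337, `m = 7` in S3368).
-/

set_option autoImplicit false

namespace Cfsg.Agent.H349.T3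

/-- What is known about `E = F*(G)`. -/
structure Cand {E : Type*} [Group E] (z : E) (k d m : ℕ) : Prop where
  kl : 9 ≤ k
  ku : k ≤ 11
  dvd : 3 ^ k ∣ Nat.card E
  ndvd : ¬ 3 ^ (k + 1) ∣ Nat.card E
  oz : orderOf z = 3
  /-- `z` is 3-central -/
  cz : 3 ^ k ∣ Nat.card (Subgroup.centralizer ({z} : Set E))
  c23 : Nat.card (Subgroup.centralizer ({z} : Set E)) ∣ 2 ^ 10 * 3 ^ 11
  /-- abelian 3-subgroups have index at least 27 in a Sylow 3-subgroup -/
  ab : ∀ A : Subgroup E, IsPGroup 3 A → (∀ a ∈ A, ∀ b ∈ A, a * b = b * a) → 27 * Nat.card A ≤ 3 ^ k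
  /-- all 3-central elements of order 3 are conjugate to `z` or `z⁻¹` -/
  uniq : ∀ y : E, orderOf y = 3 → 3 ^ k ∣ Nat.card (Subgroup.centralizer ({y} : Set E)) → IsConj y z ∨ IsConj y z⁻¹
  /-- `d = |G : E|` where `E ≤ G ≤ Aut(E)` -/
  out : d * Nat.card E ∣ Nat.card (MulAut E)
  m7 : 7 ≤ m
  /-- `|C_G(z)|` divides `d * |C_E(z)|` -/
  two : 2 ^ m ∣ d * Nat.card (Subgroup.centralizer ({z} : Set E))
  /-- if `G = E`: an involution centralizing a subgroup `3^{1+4}` -/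
  inv : d = 1 → ∃ t : E, orderOf t = 2 ∧ ∃ W : Subgroup E, W ≤ Subgroup.centralizer ({t} : Set E) ∧
    Nat.card W = 3 ^ 5 ∧ (∀ x ∈ W, x ^ 3 = 1) ∧
    ∀ A : Subgroup E, A ≤ W → (∀ a ∈ A, ∀ b ∈ A, a * b = b * a) → Nat.card A ≤ 27

end Cfsg.Agent.H349.T3
end

-- part: H341/T3Base
section
set_option linter.all false
open scoped Cfsg.Agent.FastGrp

/-!
# The rows S3337 and S3368: elimination of the classical groups, generalities (helper341)
-/

set_option autoImplicit false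

namespace Cfsg.Agent.H341.T3

open Cfsg Subgroup H349.T3 H128.Cross3 H128.Val3 H128.AbelianClassical H128.ClassicalAb H341.ThreeList

/-! ### transport -/

theorem map_centralizer_singleton {E M : Type*} [Group E] [Group M] (e : E ≃* M) (x : E) :
    (centralizer ({x} : Set E)).map e.toMonoidHom = centralizer ({e x} : Set M) := by
  ext y
  rw [mem_map, mem_centralizer_singleton_iff]
  constructor
  · rintro ⟨a, ha, rfl⟩
    change e a * e x = e x * e a
    rw [← map_mul, ← map_mul, mem_centralizer_singleton_iff.1 ha]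
  · intro h
    refine ⟨e.symm y, ?_, e.apply_symm_apply y⟩
    rw [mem_centralizer_singleton_iff]
    apply e.injective
    rw [map_mul, map_mul, e.apply_symm_apply]
    exact h

theorem card_centralizer_congr {E M : Type*} [Group E] [Group M] (e : E ≃* M) (x : E) :
    Nat.card (centralizer ({e x} : Set M)) = Nat.card (centralizer ({x} : Set E)) := by
  rw [← map_centralizer_singleton, card_map_of_injective e.injective]

theorem card_mulAut_congr {E M : Type*} [Group E] [Group M] (e : E ≃* M) :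
    Nat.card (MulAut E) = Nat.card (MulAut M) := Nat.card_congr (MulAut.congr e).toEquiv

theorem congr {E M : Type*} [Group E] [Group M] {z : E} {k d m : ℕ} (h : Cand z k d m) (e : E ≃* M) :
    Cand (e z) k d m where
  kl := h.kl
  ku := h.ku
  dvd := by rw [← Nat.card_congr e.toEquiv]; exact h.dvd
  ndvd := by rw [← Nat.card_congr e.toEquiv]; exact h.ndvd
  oz := by rw [MulEquiv.orderOf_eq]; exact h.oz
  cz := by rw [card_centralizer_congr]; exact h.cz
  c23 := by rw [card_centralizer_congr]; exact h.c23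
  ab := by
    intro A hA hc
    have h1 := h.ab (A.map e.symm.toMonoidHom) (hA.map _) (by
      rintro _ ⟨a, ha, rfl⟩ _ ⟨b, hb, rfl⟩
      rw [← map_mul, ← map_mul, hc a ha b hb])
    rwa [card_map_of_injective e.symm.injective] at h1
  uniq := by
    intro y hy hc
    have h1 := h.uniq (e.symm y) (by rw [MulEquiv.orderOf_eq]; exact hy) (by
      rw [card_centralizer_congr]; exact hc)
    rcases h1 with h1 | h1
    · left
      have h2 := MonoidHom.map_isConj e.toMonoidHom h1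
      change IsConj (e (e.symm y)) (e z) at h2
      rwa [e.apply_symm_apply] at h2
    · right
      have h2 := MonoidHom.map_isConj e.toMonoidHom h1
      change IsConj (e (e.symm y)) (e z⁻¹) at h2
      rwa [e.apply_symm_apply, map_inv] at h2
  out := by rw [← Nat.card_congr e.toEquiv, ← card_mulAut_congr e]; exact h.out
  m7 := h.m7
  two := by rw [card_centralizer_congr]; exact h.two
  inv := by
    intro hd
    obtain ⟨t, ht, W, hW, hc, h3, hA⟩ := h.inv hd
    refine ⟨e t, by rw [MulEquiv.orderOf_eq]; exact ht, W.map e.toMonoidHom, ?_, ?_, ?_, ?_⟩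
    · rw [← map_centralizer_singleton]
      exact map_mono hW
    · rw [card_map_of_injective e.injective]
      exact hc
    · rintro _ ⟨x, hx, rfl⟩
      rw [← map_pow, h3 x hx, map_one]
    · intro A hAW hAc
      have h1 := hA (A.map e.symm.toMonoidHom) (by
        rintro _ ⟨a, ha, rfl⟩
        obtain ⟨w, hw, hwa⟩ := hAW ha
        have h2 : e w = a := hwa
        change e.symm a ∈ W
        rw [← h2, e.symm_apply_apply]
        exact hw) (by
        rintro _ ⟨a, ha, rfl⟩ _ ⟨b, hb, rfl⟩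
        rw [← map_mul, ← map_mul, hAc a ha b hb])
      rwa [card_map_of_injective e.symm.injective] at h1

/-! ### first consequences -/

section

variable {L : Type*} [Group L] {z : L} {k d m : ℕ}

theorem ab' (h : Cand z k d m) (A : Subgroup L) (hA : IsPGroup 3 A) (hc : ∀ a ∈ A, ∀ b ∈ A, a * b = b * a) :
    Nat.card A ≤ 3 ^ (k - 3) := by
  have h1 := h.ab A hA hc
  have h2 : 3 ^ k = 27 * 3 ^ (k - 3) := by
    rw [show (27 : ℕ) = 3 ^ 3 by norm_num, ← pow_add]
    congr 1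
    have := h.kl
    omega
  rw [h2] at h1
  exact Nat.le_of_mul_le_mul_left h1 (by norm_num)

theorem n12 (h : Cand z k d m) : ¬ 3 ^ 12 ∣ Nat.card L := fun h12 =>
  h.ndvd ((pow_dvd_pow 3 (by have := h.ku; omega)).trans h12)

theorem nine (h : Cand z k d m) {N : ℕ} [Finite L] (hN : HasAb 3 L N) : 9 ≤ N := by
  have h1 := dvd_factorial h.dvd (ab' h) hN
  rw [show k - (k - 3) = 3 by have := h.kl; omega] at h1
  by_contra hcon
  have h2 : 3 ^ 3 ∣ Nat.factorial 8 := h1.trans (Nat.factorial_dvd_factorial (by omega))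
  revert h2
  decide

/-- a 3-central element of order three commuting with an element of prime order `r > 3` -/
theorem false_of (h : Cand z k d m) {y : L} (hy : orderOf y = 3) {r : ℕ} (hr : r.Prime) (h2 : r ≠ 2) (h3 : r ≠ 3)
    (hc : 3 ^ k ∣ Nat.card (centralizer ({y} : Set L))) (hrc : r ∣ Nat.card (centralizer ({y} : Set L))) : False := by
  have key : ∀ x : L, IsConj y x → Nat.card (centralizer ({y} : Set L)) = Nat.card (centralizer ({x} : Set L)) := by
    intro x hx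
    obtain ⟨c, hc⟩ := isConj_iff.1 hx
    rw [← card_centralizer_congr (MulAut.conj c) y]
    change _ = Nat.card (centralizer ({x} : Set L))
    rw [MulAut.conj_apply, hc]
  have hinv : Nat.card (centralizer ({z⁻¹} : Set L)) = Nat.card (centralizer ({z} : Set L)) := by
    have : centralizer ({z⁻¹} : Set L) = centralizer ({z} : Set L) := by
      ext x
      rw [mem_centralizer_singleton_iff, mem_centralizer_singleton_iff]
      constructor
      · intro h1
        have h2 : Commute x z⁻¹ := h1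
        exact Commute.inv_right_iff.1 h2
      · intro h1
        have h2 : Commute x z := h1
        exact h2.inv_right
    rw [this]
  have h1 : Nat.card (centralizer ({y} : Set L)) = Nat.card (centralizer ({z} : Set L)) := by
    rcases h.uniq y hy hc with h' | h'
    · exact key _ h'
    · rw [key _ h', hinv]
  rw [h1] at hrc
  have h4 := hrc.trans h.c23
  rcases (Nat.Prime.dvd_mul hr).1 h4 with h5 | h5
  · exact h2 ((Nat.prime_dvd_prime_iff_eq hr Nat.prime_two).1 (hr.dvd_of_dvd_pow h5))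
  · exact h3 ((Nat.prime_dvd_prime_iff_eq hr Nat.prime_three).1 (hr.dvd_of_dvd_pow h5))

end

theorem vf_nine : vf 9 = 4 := by
  rw [vf]
  have h1 : Nat.factorial 9 = 3 ^ 4 * 4480 := by decide
  rw [h1]
  rw [Nat.factorization_mul (by norm_num) (by norm_num), Finsupp.add_apply, Nat.Prime.factorization_pow Nat.prime_three,
    Finsupp.single_eq_same, Nat.factorization_eq_zero_of_not_dvd (by norm_num)]

theorem vf_mono {a b : ℕ} (h : a ≤ b) : vf a ≤ vf b := by
  rw [vf, vf]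
  exact (Nat.factorization_le_iff_dvd (Nat.factorial_pos a).ne' (Nat.factorial_pos b).ne').2
    (Nat.factorial_dvd_factorial h) 3

theorem four_le_vf {n : ℕ} (h : 9 ≤ n) : 4 ≤ vf n := by
  rw [← vf_nine]
  exact vf_mono h

end Cfsg.Agent.H341.T3
end

-- part: H341/T3All
section
set_option linter.all false
open scoped Cfsg.Agent.FastGrp

-- part: H341/T3Pair
section
/-!
# Long root elements of orthogonal groups: pairs of orthogonal singular vectors (helper341)

`TS Q x`: `x = (u, w)` spans a totally singular line. The group `Ω(Q)` is transitive on these pairs (`exists_omega`), and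
the pairs with the same Siegel transformation are `SL₂(F)`-related (`card_fibre`).
`card_cent`: `|X| |C_Ω(y)| = |SL₂(F)| |Ω|` for a Siegel transformation `y`, `X` the set of the pairs.
-/

set_option autoImplicit false

namespace Cfsg.Agent.H341.T3.Pair

open QuadraticMap Matrix Module Cfsg.Agent.ClassicalGeometry.Reflection Cfsg.Agent.ClassicalGeometry.SiegelGen
  Cfsg.Agent.H175.OmegaAdjust

variable {F : Type} [Field F] {ι : Type} [Fintype ι] [DecidableEq ι]

/-- the pair `x` spans a totally singular line -/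
structure TS (Q : QuadraticForm F (ι → F)) (x : (ι → F) × (ι → F)) : Prop where
  u : Q x.1 = 0
  w : Q x.2 = 0
  uw : polar Q x.1 x.2 = 0
  u0 : x.1 ≠ 0
  ind : ∀ c : F, c • x.1 ≠ x.2

theorem TS.li {Q : QuadraticForm F (ι → F)} {x : (ι → F) × (ι → F)} (h : TS Q x) :
    LinearIndependent F ![x.1, x.2] := (LinearIndependent.pair_iff' h.u0).2 h.ind

theorem TS.of_li {Q : QuadraticForm F (ι → F)} {x : (ι → F) × (ι → F)} (hu : Q x.1 = 0) (hw : Q x.2 = 0)
    (huw : polar Q x.1 x.2 = 0) (h : LinearIndependent F ![x.1, x.2]) : TS Q x := by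
  have h0 : x.1 ≠ 0 := h.ne_zero 0
  exact ⟨hu, hw, huw, h0, (LinearIndependent.pair_iff' h0).1 h⟩

/-! ### the action -/

/-- the action of the isometry group on vectors -/
@[reducible] def actV (Q : QuadraticForm F (ι → F)) : MulAction (Cfsg.isometryGroup F ⇑Q) (ι → F) where
  smul g v := ((g : GeneralLinearGroup ι F) : Matrix ι ι F) *ᵥ v
  one_smul v := Matrix.one_mulVec v
  mul_smul g h v := (Matrix.mulVec_mulVec v _ _).symm

section Act

variable {Q : QuadraticForm F (ι → F)}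

attribute [local instance] actV

theorem Q_smul (g : Cfsg.isometryGroup F ⇑Q) (v : ι → F) : Q (g • v) = Q v := g.2 v v

theorem smul_add' (g : Cfsg.isometryGroup F ⇑Q) (v w : ι → F) : g • (v + w) = g • v + g • w := Matrix.mulVec_add _ _ _

theorem smul_smul' (g : Cfsg.isometryGroup F ⇑Q) (c : F) (w : ι → F) : g • (c • w) = c • (g • w) :=
  Matrix.mulVec_smul _ _ _

theorem polar_smul (g : Cfsg.isometryGroup F ⇑Q) (v w : ι → F) : polar Q (g • v) (g • w) = polar Q v w := by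
  rw [polar, polar, ← smul_add', Q_smul, Q_smul, Q_smul]

theorem TS.smul {x : (ι → F) × (ι → F)} (h : TS Q x) (g : Cfsg.isometryGroup F ⇑Q) : TS Q (g • x) where
  u := by
    change Q (g • x.1) = 0
    rw [Q_smul, h.u]
  w := by
    change Q (g • x.2) = 0
    rw [Q_smul, h.w]
  uw := by
    change polar Q (g • x.1) (g • x.2) = 0
    rw [polar_smul, h.uw]
  u0 := by
    intro h0
    apply h.u0
    have h1 : g • x.1 = g • (0 : ι → F) := by
      change g • x.1 = 0 at h0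
      rw [h0]
      exact (Matrix.mulVec_zero _).symm
    exact (MulAction.injective g) h1
  ind := by
    intro c hc
    apply h.ind c
    have h1 : g • (c • x.1) = g • x.2 := by
      rw [smul_smul']
      exact hc
    exact (MulAction.injective g) h1

/-- the Siegel transformation of a pair -/
def sg (Q : QuadraticForm F (ι → F)) (x : (ι → F) × (ι → F)) : Matrix ι ι F := Cfsg.siegelMatrix (⇑Q) x.1 x.2 1

theorem sg_mulVec (x : (ι → F) × (ι → F)) (v : ι → F) :
    sg Q x *ᵥ v = v + (polar Q x.1 v • x.2 - polar Q x.2 v • x.1) := by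
  rw [sg, siegelMatrix_mulVec, one_smul]

/-- the Siegel transformation as an isometry -/
def sI {x : (ι → F) × (ι → F)} (h : TS Q x) : Cfsg.isometryGroup F ⇑Q := siegelIso Q x.1 x.2 h.u h.w h.uw 1

theorem coe_sI {x : (ι → F) × (ι → F)} (h : TS Q x) :
    ((sI h : GeneralLinearGroup ι F) : Matrix ι ι F) = sg Q x := rfl

theorem sI_eq_iff {x x' : (ι → F) × (ι → F)} (h : TS Q x) (h' : TS Q x') : sI h = sI h' ↔ sg Q x = sg Q x' := by
  constructor
  · intro h1
    rw [← coe_sI h, ← coe_sI h', h1]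
  · intro h1
    apply Subtype.ext
    apply Units.ext
    exact h1

theorem conj_sI {x : (ι → F) × (ι → F)} (h : TS Q x) (g : Cfsg.isometryGroup F ⇑Q) :
    g * sI h * g⁻¹ = sI (h.smul g) := by
  apply Subtype.ext
  apply Units.ext
  exact conj_siegel Q g (sI h) x.1 x.2 1 rfl

theorem exists_dual (hQ : (polarBilin Q).Nondegenerate) {a b : ι → F} (h : ∀ c : F, a ≠ c • b) :
    ∃ y, polar Q b y = 0 ∧ polar Q a y = 1 :=
  Cfsg.Agent.LieClassical.OrthTrans.exists_sep (Cfsg.Agent.LieClassical.OrthCore.nondeg_of_nondegenerate hQ) h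

theorem TS.ind' {x : (ι → F) × (ι → F)} (h : TS Q x) (c : F) : x.1 ≠ c • x.2 := by
  intro hc
  have h1 := LinearIndependent.pair_iff.1 h.li 1 (-c) (by rw [one_smul, neg_smul, ← hc, add_neg_cancel])
  exact one_ne_zero h1.1

theorem TS.ind'' {x : (ι → F) × (ι → F)} (h : TS Q x) (c : F) : x.2 ≠ c • x.1 := fun hc => h.ind c hc.symm

/-- the pair transformed by a matrix -/
def tr (A : Matrix (Fin 2) (Fin 2) F) (x : (ι → F) × (ι → F)) : (ι → F) × (ι → F) :=
  (A 0 0 • x.1 + A 0 1 • x.2, A 1 0 • x.1 + A 1 1 • x.2)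

theorem sg_tr (A : Matrix (Fin 2) (Fin 2) F) (x : (ι → F) × (ι → F)) (v : ι → F) :
    sg Q (tr A x) *ᵥ v = v + A.det • (polar Q x.1 v • x.2 - polar Q x.2 v • x.1) := by
  rw [sg_mulVec, Matrix.det_fin_two]
  simp only [tr, polar_add_left, polar_smul_left, smul_eq_mul]
  module

theorem TS.tr {x : (ι → F) × (ι → F)} (h : TS Q x) {A : Matrix (Fin 2) (Fin 2) F} (hA : A.det = 1) :
    TS Q (tr A x) := by
  have hwu : polar Q x.2 x.1 = 0 := by rw [polar_comm]; exact h.uw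
  have hq : ∀ a b : F, Q (a • x.1 + b • x.2) = 0 := by
    intro a b
    rw [map_add', QuadraticMap.map_smul, QuadraticMap.map_smul, h.u, h.w, polar_smul_left, polar_smul_right, h.uw]
    simp
  have huu : polar Q x.1 x.1 = 0 := by rw [polar_self', h.u, mul_zero]
  have hww : polar Q x.2 x.2 = 0 := by rw [polar_self', h.w, mul_zero]
  refine TS.of_li (hq _ _) (hq _ _) ?_ ?_
  · change polar Q (A 0 0 • x.1 + A 0 1 • x.2) (A 1 0 • x.1 + A 1 1 • x.2) = 0
    simp only [polar_add_left, polar_add_right, polar_smul_left, polar_smul_right, h.uw, hwu, huu, hww]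
    simp
  · rw [LinearIndependent.pair_iff]
    intro s t hst
    change s • (A 0 0 • x.1 + A 0 1 • x.2) + t • (A 1 0 • x.1 + A 1 1 • x.2) = 0 at hst
    have h1 : (s * A 0 0 + t * A 1 0) • x.1 + (s * A 0 1 + t * A 1 1) • x.2 = 0 := by
      rw [← hst]
      module
    obtain ⟨h2, h3⟩ := LinearIndependent.pair_iff.1 h.li _ _ h1
    rw [Matrix.det_fin_two] at hA
    constructor
    · linear_combination (A 1 1) * h2 - (A 1 0) * h3 - s * hA
    · linear_combination (A 0 0) * h3 - (A 0 1) * h2 - t * hA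

/-- **The pairs with the same Siegel transformation.** -/
theorem fibre (hQ : (polarBilin Q).Nondegenerate) {x x' : (ι → F) × (ι → F)} (h : TS Q x) (h' : TS Q x')
    (hs : sg Q x' = sg Q x) : ∃ A : Matrix (Fin 2) (Fin 2) F, A.det = 1 ∧ x' = tr A x := by
  obtain ⟨y, hy1, hy2⟩ := exists_dual hQ h'.ind'
  obtain ⟨z, hz1, hz2⟩ := exists_dual hQ h'.ind''
  -- `y`: `polar x'.2 y = 0`, `polar x'.1 y = 1`; `z` : `polar x'.1 z = 0`, `polar x'.2 z = 1`
  have e1 := sg_mulVec (Q := Q) x' y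
  rw [hs, sg_mulVec, hy1, hy2] at e1
  have e2 := sg_mulVec (Q := Q) x' z
  rw [hs, sg_mulVec, hz1, hz2] at e2
  have e1' : x'.2 = polar Q x.1 y • x.2 - polar Q x.2 y • x.1 := by
    have := add_left_cancel e1
    rw [this]
    module
  have e2' : x'.1 = -(polar Q x.1 z • x.2 - polar Q x.2 z • x.1) := by
    have := add_left_cancel e2
    rw [this]
    module
  let A : Matrix (Fin 2) (Fin 2) F := !![polar Q x.2 z, -polar Q x.1 z; -polar Q x.2 y, polar Q x.1 y]
  have hx' : x' = tr A x := by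
    apply Prod.ext
    · rw [e2']
      change _ = polar Q x.2 z • x.1 + (-polar Q x.1 z) • x.2
      module
    · rw [e1']
      change _ = (-polar Q x.2 y) • x.1 + (polar Q x.1 y) • x.2
      module
  refine ⟨A, ?_, hx'⟩
  -- the determinant
  obtain ⟨t, ht1, ht2⟩ := exists_dual hQ h.ind'
  have e3 := sg_tr (Q := Q) A x t
  rw [← hx', hs, sg_mulVec, ht1, ht2] at e3
  have e4 := add_left_cancel e3
  have e5 : (A.det - 1) • x.2 = 0 := by
    rw [sub_smul, one_smul, sub_eq_zero]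
    simpa using e4.symm
  rcases smul_eq_zero.1 e5 with h5 | h5
  · exact sub_eq_zero.1 h5
  · exfalso
    apply h.ind 0
    rw [zero_smul, h5]

theorem tr_injective {x : (ι → F) × (ι → F)} (h : TS Q x) {A B : Matrix (Fin 2) (Fin 2) F} (hAB : tr A x = tr B x) :
    A = B := by
  have h1 := congrArg Prod.fst hAB
  have h2 := congrArg Prod.snd hAB
  change A 0 0 • x.1 + A 0 1 • x.2 = B 0 0 • x.1 + B 0 1 • x.2 at h1
  change A 1 0 • x.1 + A 1 1 • x.2 = B 1 0 • x.1 + B 1 1 • x.2 at h2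
  obtain ⟨a1, a2⟩ := LinearIndependent.pair_iff.1 h.li (A 0 0 - B 0 0) (A 0 1 - B 0 1) (by
    rw [sub_smul, sub_smul]
    linear_combination (exp := 1) h1)
  obtain ⟨a3, a4⟩ := LinearIndependent.pair_iff.1 h.li (A 1 0 - B 1 0) (A 1 1 - B 1 1) (by
    rw [sub_smul, sub_smul]
    linear_combination (exp := 1) h2)
  ext i j
  fin_cases i <;> fin_cases j
  · exact sub_eq_zero.1 a1
  · exact sub_eq_zero.1 a2
  · exact sub_eq_zero.1 a3
  · exact sub_eq_zero.1 a4

theorem card_fibre (hQ : (polarBilin Q).Nondegenerate) {x : (ι → F) × (ι → F)} (h : TS Q x) :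
    Nat.card {x' : (ι → F) × (ι → F) | TS Q x' ∧ sg Q x' = sg Q x} = Nat.card (_root_.Matrix.SpecialLinearGroup (Fin 2) F) := by
  symm
  have hsg : ∀ A : _root_.Matrix.SpecialLinearGroup (Fin 2) F, sg Q (tr (A : Matrix (Fin 2) (Fin 2) F) x) = sg Q x := by
    intro A
    apply Matrix.mulVec_injective
    funext v
    rw [sg_tr, sg_mulVec, A.2, one_smul]
  refine Nat.card_congr (Equiv.ofBijective
    (fun A : _root_.Matrix.SpecialLinearGroup (Fin 2) F => (⟨tr (A : Matrix (Fin 2) (Fin 2) F) x, h.tr A.2, hsg A⟩ :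
      {x' : (ι → F) × (ι → F) | TS Q x' ∧ sg Q x' = sg Q x})) ⟨?_, ?_⟩)
  · intro A B hAB
    exact Subtype.ext (tr_injective h (congrArg Subtype.val hAB))
  · rintro ⟨x', hx', hs⟩
    obtain ⟨A, hA, rfl⟩ := fibre hQ h hx' hs
    exact ⟨⟨A, hA⟩, rfl⟩

end Act

end Cfsg.Agent.H341.T3.Pair
end

-- part: H341/T3Lin
section
/-!
# The rows S3337 and S3368: linear groups in characteristic three (helper341)
-/

set_option autoImplicit false

namespace Cfsg.Agent.H341.T3

open Cfsg Subgroup H349.T3 H128.Cross3 H128.Char3 H341.ThreeList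
open scoped Matrix

/-! ### centralizers modulo the centre -/

theorem cent_quot {X : Type*} [Group X] [Finite X] (y : X) : Nat.card (centralizer ({y} : Set X)) ∣
    Nat.card (center X) * Nat.card (centralizer ({(y : X ⧸ center X)} : Set (X ⧸ center X))) := by
  let f : centralizer ({y} : Set X) →* X ⧸ center X :=
    (QuotientGroup.mk' (center X)).comp (centralizer ({y} : Set X)).subtype
  have h2 := card_mul_index f.ker
  rw [index_ker] at h2
  rw [← h2]
  refine mul_dvd_mul ?_ ?_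
  · have h3 : f.ker.map (centralizer ({y} : Set X)).subtype ≤ center X := by
      rintro _ ⟨x, hx, rfl⟩
      exact (QuotientGroup.eq_one_iff _).1 hx
    have h4 := card_dvd_of_le h3
    rwa [card_map_of_injective Subtype.val_injective] at h4
  · apply card_dvd_of_le
    rintro _ ⟨x, rfl⟩
    rw [mem_centralizer_singleton_iff]
    change ((x : X) : X ⧸ center X) * (y : X ⧸ center X) = (y : X ⧸ center X) * ((x : X) : X ⧸ center X)
    rw [← QuotientGroup.mk_mul, ← QuotientGroup.mk_mul, mem_centralizer_singleton_iff.1 x.2]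

theorem order_quot {X : Type*} [Group X] [Finite X] (y : X) (hy : orderOf y = 3) (h3 : ¬ 3 ∣ Nat.card (center X)) :
    orderOf (y : X ⧸ center X) = 3 := by
  apply orderOf_eq_prime
  · rw [← QuotientGroup.mk_pow, ← hy, pow_orderOf_eq_one]
    rfl
  · intro h
    have h1 : y ∈ center X := (QuotientGroup.eq_one_iff _).1 h
    apply h3
    rw [← hy]
    have := _root_.orderOf_dvd_natCard (⟨y, h1⟩ : center X)
    rwa [Subgroup.orderOf_mk] at this

/-- a 3-central element of order three commuting with an element of prime order `r > 3`, modulo the centre -/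
theorem false_of_quot {X : Type*} [Group X] [Finite X] {z : X ⧸ center X} {k d m : ℕ} (h : Cand z k d m) {y : X}
    (hy : orderOf y = 3) (h3Z : ¬ 3 ∣ Nat.card (center X)) {r : ℕ} (hr : r.Prime) (h2 : r ≠ 2) (h3 : r ≠ 3)
    (hrZ : ¬ r ∣ Nat.card (center X)) (hc : 3 ^ k ∣ Nat.card (centralizer ({y} : Set X)))
    (hrc : r ∣ Nat.card (centralizer ({y} : Set X))) : False := by
  refine false_of h (order_quot y hy h3Z) hr h2 h3 ?_ ?_
  · exact (((Nat.Prime.coprime_iff_not_dvd Nat.prime_three).2 h3Z).pow_left k).dvd_of_dvd_mul_left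
      (hc.trans (cent_quot y))
  · exact ((Nat.Prime.coprime_iff_not_dvd hr).2 hrZ).dvd_of_dvd_mul_left (hrc.trans (cent_quot y))

/-! ### transvections -/

variable {F : Type} [Field F] [Fintype F]

theorem single_eq {n : ℕ} (i j : Fin n) :
    (Matrix.single i j (1 : F)) = Matrix.vecMulVec (Pi.single i 1) (Pi.single j 1) := by
  ext a b
  rw [Matrix.vecMulVec_apply, Matrix.single_apply]
  by_cases ha : i = a
  · by_cases hb : j = b
    · subst ha hb
      simp
    · rw [if_neg (by rintro ⟨-, h⟩; exact hb h), Pi.single_eq_of_ne (Ne.symm hb), mul_zero]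
  · rw [if_neg (by rintro ⟨h, -⟩; exact ha h), Pi.single_eq_of_ne (Ne.symm ha), zero_mul]

theorem isTransvection {n : ℕ} {i j : Fin n} (hij : i ≠ j) :
    Cfsg.IsTransvection (Matrix.transvection i j (1 : F)) := by
  have h1 : Matrix.transvection i j (1 : F) - 1 = Matrix.single i j 1 := by
    rw [Matrix.transvection, add_sub_cancel_left]
  constructor
  · rw [h1]
    apply le_antisymm
    · rw [single_eq]
      exact Matrix.rank_vecMulVec_le _ _
    · rw [Nat.one_le_iff_ne_zero]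
      intro h
      have h2 : LinearMap.range (Matrix.single i j (1 : F)).mulVecLin = ⊥ := by
        apply Submodule.finrank_eq_zero.1
        exact h
      have h3 : (Matrix.single i j (1 : F)) *ᵥ (Pi.single j 1) = 0 := by
        have h4 : (Matrix.single i j (1 : F)) *ᵥ (Pi.single j 1) ∈
            LinearMap.range (Matrix.single i j (1 : F)).mulVecLin := ⟨Pi.single j 1, rfl⟩
        rw [h2] at h4
        exact h4
      have h4 := congrFun h3 i
      rw [Matrix.mulVec_single_one] at h4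
      simp at h4
  · rw [h1, Matrix.single_mul_single_of_ne]
    exact hij.symm

theorem sl_cent [CharP F 3] {n : ℕ} (hn : 2 ≤ n) : ∃ y : Matrix.SpecialLinearGroup (Fin n) F, orderOf y = 3 ∧
    Fintype.card F ^ (2 * n - 3) * ∏ i : Fin (n - 2), (Fintype.card F ^ (n - 2) - Fintype.card F ^ (i : ℕ)) ∣
      Nat.card (centralizer ({y} : Set (Matrix.SpecialLinearGroup (Fin n) F))) := by
  have hF1 : 1 < Fintype.card F := Fintype.one_lt_card
  let i : Fin n := ⟨0, by omega⟩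
  let j : Fin n := ⟨1, by omega⟩
  have hij : i ≠ j := by simp [i, j]
  let y : Matrix.SpecialLinearGroup (Fin n) F := ⟨Matrix.transvection i j 1, Matrix.det_transvection_of_ne i j hij 1⟩
  refine ⟨y, ?_, ?_⟩
  · apply orderOf_eq_prime
    · apply Subtype.ext
      rw [Matrix.SpecialLinearGroup.coe_pow, Matrix.SpecialLinearGroup.coe_one]
      change (Matrix.transvection i j (1 : F)) ^ 3 = 1
      rw [pow_succ, pow_two, Matrix.transvection_mul_transvection_same i j hij,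
        Matrix.transvection_mul_transvection_same i j hij]
      have : (1 + 1 + 1 : F) = 0 := by
        have := CharP.cast_eq_zero F 3
        push_cast at this
        linear_combination this
      rw [this, Matrix.transvection_zero]
    · intro h
      have h1 := congrArg (fun x : Matrix.SpecialLinearGroup (Fin n) F => (x : Matrix (Fin n) (Fin n) F) i j) h
      change (Matrix.transvection i j (1 : F)) i j = (1 : Matrix (Fin n) (Fin n) F) i j at h1
      rw [Matrix.transvection, Matrix.add_apply, Matrix.one_apply_ne hij, Matrix.single_apply_same, zero_add] at h1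
      exact one_ne_zero h1
  · set t : GL (Fin n) F := Matrix.SpecialLinearGroup.toGL y with ht
    have h1 := S2572.result (F := F) rfl hn t (isTransvection hij)
    -- the determinant on the centralizer
    let δ : centralizer ({t} : Set (GL (Fin n) F)) →* Fˣ :=
      Matrix.GeneralLinearGroup.det.comp (centralizer ({t} : Set (GL (Fin n) F))).subtype
    have h2 := card_mul_index δ.ker
    rw [index_ker] at h2
    have h3 : Nat.card δ.range ∣ Fintype.card F - 1 := by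
      have := card_subgroup_dvd_card δ.range
      rwa [Nat.card_units, Nat.card_eq_fintype_card (α := F)] at this
    have h4 : Nat.card δ.ker = Nat.card (centralizer ({y} : Set (Matrix.SpecialLinearGroup (Fin n) F))) := by
      have hdet : ∀ x : δ.ker, (x.1.1 : Matrix (Fin n) (Fin n) F).det = 1 := fun x =>
        congrArg Units.val (MonoidHom.mem_ker.1 x.2)
      let lift : δ.ker → Matrix.SpecialLinearGroup (Fin n) F := fun x => ⟨(x.1.1 : Matrix (Fin n) (Fin n) F), hdet x⟩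
      have hcen : ∀ x : δ.ker, lift x ∈ centralizer ({y} : Set (Matrix.SpecialLinearGroup (Fin n) F)) := by
        intro x
        have h7 : (x.1.1 : GL (Fin n) F) * t = t * x.1.1 := mem_centralizer_singleton_iff.1 x.1.2
        have h8 : lift x * y = y * lift x := by
          apply Matrix.SpecialLinearGroup.ext
          intro a b
          exact congrArg (fun g : GL (Fin n) F => (g : Matrix (Fin n) (Fin n) F) a b) h7
        exact mem_centralizer_singleton_iff.2 h8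
      refine Nat.card_congr ⟨fun x => ⟨lift x, hcen x⟩,
        fun x => ⟨⟨Matrix.SpecialLinearGroup.toGL x.1, ?_⟩, ?_⟩, fun x => ?_, fun x => ?_⟩
      · rw [mem_centralizer_singleton_iff, ht, ← map_mul, ← map_mul, mem_centralizer_singleton_iff.1 x.2]
      · rw [MonoidHom.mem_ker]
        apply Units.ext
        exact x.1.2
      · apply Subtype.ext
        apply Subtype.ext
        apply Units.ext
        rfl
      · rfl
    have h5 : Nat.card (centralizer ({t} : Set (GL (Fin n) F))) ∣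
        Nat.card (centralizer ({y} : Set (Matrix.SpecialLinearGroup (Fin n) F))) * (Fintype.card F - 1) := by
      rw [← h2, h4]
      exact Nat.mul_dvd_mul_left _ h3
    rw [h1] at h5
    apply Nat.dvd_of_mul_dvd_mul_right (show 0 < Fintype.card F - 1 by omega)
    refine dvd_trans (dvd_of_eq ?_) h5
    ring

theorem center_sl_trivial {n : ℕ} (hn : Nat.Coprime n (Fintype.card F - 1)) (hn0 : 0 < n) :
    Nat.card (center (Matrix.SpecialLinearGroup (Fin n) F)) = 1 := by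
  rw [Subgroup.card_eq_one, eq_bot_iff]
  intro x hx
  rw [Matrix.SpecialLinearGroup.mem_center_iff] at hx
  obtain ⟨r, hr1, hr⟩ := hx
  rw [Fintype.card_fin] at hr1
  have hr0 : r ≠ 0 := by
    rintro rfl
    rw [zero_pow hn0.ne'] at hr1
    exact zero_ne_one hr1
  have h1 : r = 1 := by
    have h2 : r ^ (Fintype.card F - 1) = 1 := FiniteField.pow_card_sub_one_eq_one r hr0
    have h3 := pow_gcd_eq_one.2 ⟨hr1, h2⟩
    rwa [hn, pow_one] at h3
  rw [mem_bot]
  apply Subtype.ext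
  rw [← hr, h1, map_one]
  rfl

theorem psl_three {n : ℕ} (hn : 2 ≤ n) (hF : 3 ∣ Fintype.card F)
    {z : Matrix.ProjectiveSpecialLinearGroup (Fin n) F} {k d m : ℕ} (h : Cand z k d m) : False := by
  obtain ⟨f, hf, hcard, hchar⟩ := char_three hF
  have : Fact (Nat.Prime 3) := ⟨Nat.prime_three⟩
  have hfin : Finite (Matrix.SpecialLinearGroup (Fin n) F) := H128.ClassicalAb.finite_sl n
  have hc := card_psl (F := F) hn
  have hq1 : 1 ≤ Fintype.card F := Fintype.card_pos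
  have hd : ¬ 3 ∣ Nat.gcd n (Fintype.card F - 1) := fun h' => by
    have := h'.trans (Nat.gcd_dvd_right _ _)
    omega
  have hr : ¬ 3 ∣ ∏ j ∈ Finset.range (n - 1), (Fintype.card F ^ (j + 2) - 1) :=
    not_dvd_prod _ _ fun j _ => not_dvd_sub_one hF hq1 (by omega)
  have hb : f * (n * (n - 1) / 2) = k := by
    have h1 := (pow_dvd_iff hd hr hcard hc).1 h.dvd
    have h2 : ¬ k + 1 ≤ f * (n * (n - 1) / 2) := fun h' => h.ndvd ((pow_dvd_iff hd hr hcard hc).2 h')
    omega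
  have hkl := h.kl
  have hku := h.ku
  have hn6 : n ≤ 5 := by
    by_contra hcon
    have h1 : 6 * 5 ≤ n * (n - 1) := Nat.mul_le_mul (by omega) (by omega)
    have h2 : 15 ≤ n * (n - 1) / 2 := by omega
    nlinarith only [hf, hb, hku, h2]
  interval_cases n
  · -- `PSL₂`
    have hz := (three_pGroup_mult (F := F) (n := 1))
    have hinj := comp_injective (three_pGroup_mult (F := F) (n := 1)) u2 u2_injective (center_sl (by norm_num))
    set g := (QuotientGroup.mk' (center (Matrix.SpecialLinearGroup (Fin 2) F))).comp u2 with hg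
    have h1 : Nat.card (Multiplicative (Fin 1 → F)) = Nat.card g.range :=
      Nat.card_congr (MonoidHom.ofInjective hinj).toEquiv
    have h2 := h.ab g.range (by
      have h2 : IsPGroup 3 (⊤ : Subgroup (Multiplicative (Fin 1 → F))) := by
        intro x
        obtain ⟨k, hk⟩ := hz x
        exact ⟨k, Subtype.ext hk⟩
      rw [MonoidHom.range_eq_map]
      exact h2.map g) (by
      rintro _ ⟨a, rfl⟩ _ ⟨b, rfl⟩
      rw [← map_mul, ← map_mul, mul_comm])
    rw [← h1, card_mult, hcard, pow_one] at h2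
    have h3 : f = k := by omega
    rw [h3] at h2
    have h4 : 0 < 3 ^ k := by positivity
    omega
  · -- `PSL₃(27)`
    have hf3 : f = 3 := by omega
    have hk : k = 9 := by omega
    subst hf3 hk
    have hF27 : Fintype.card F = 27 := by rw [hcard]; norm_num
    obtain ⟨y, hy, hyc⟩ := sl_cent (F := F) (n := 3) (by norm_num)
    have hZ : Nat.card (center (Matrix.SpecialLinearGroup (Fin 3) F)) = 1 :=
      center_sl_trivial (by rw [hF27]; decide) (by norm_num)
    rw [hF27] at hyc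
    refine false_of_quot h hy (by rw [hZ]; norm_num) (r := 13) (by norm_num) (by norm_num) (by norm_num)
      (by rw [hZ]; norm_num) (dvd_trans ?_ hyc) (dvd_trans ?_ hyc)
    · decide
    · decide
  · omega
  · -- `PSL₅(3)`
    have hf3 : f = 1 := by omega
    have hk : k = 10 := by omega
    subst hf3 hk
    have hF27 : Fintype.card F = 3 := by rw [hcard]; norm_num
    obtain ⟨y, hy, hyc⟩ := sl_cent (F := F) (n := 5) (by norm_num)
    have hZ : Nat.card (center (Matrix.SpecialLinearGroup (Fin 5) F)) = 1 :=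
      center_sl_trivial (by rw [hF27]; decide) (by norm_num)
    rw [hF27] at hyc
    refine false_of_quot h hy (by rw [hZ]; norm_num) (r := 13) (by norm_num) (by norm_num) (by norm_num)
      (by rw [hZ]; norm_num) (dvd_trans ?_ hyc) (dvd_trans ?_ hyc)
    · decide
    · decide

end Cfsg.Agent.H341.T3
end

-- part: H341/T3Sp
section
/-!
# The rows S3337 and S3368: symplectic groups in characteristic three (helper341)
-/

set_option autoImplicit false

namespace Cfsg.Agent.H341.T3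

open Cfsg Subgroup H349.T3 H128.Cross3 H128.Char3 H341.ThreeList
open ClassicalGeometry.SympBasic LieClassical.SympPerfect
open scoped Matrix

variable {F : Type} [Field F] [Fintype F]

theorem span_mem {V : Type*} [AddCommGroup V] [Module F V] {v w : V} (h : w ∈ Submodule.span F {v}) :
    ∃ a : F, w = a • v := by
  obtain ⟨a, ha⟩ := Submodule.mem_span_singleton.1 h
  exact ⟨a, ha.symm⟩

theorem sp_cent (hF : Fintype.card F = 3) {m : ℕ} (hm : 1 ≤ m) : ∃ y : Matrix.symplecticGroup (Fin m) F,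
    orderOf y = 3 ∧ 3 ^ (1 + 2 * (m - 1)) * (3 ^ ((m - 1) ^ 2) * ∏ i ∈ Finset.range (m - 1), (3 ^ (2 * (i + 1)) - 1)) ∣
      Nat.card (centralizer ({y} : Set (Matrix.symplecticGroup (Fin m) F))) := by
  have : CharP F 3 := by
    obtain ⟨f, hf, hcard, hchar⟩ := char_three (F := F) (by rw [hF])
    exact hchar
  let i : Fin m := ⟨0, hm⟩
  let v : Fin m ⊕ Fin m → F := Pi.single (.inl i) 1
  have hv : v ≠ 0 := by
    intro h
    have := congrFun h (.inl i)
    simp [v] at this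
  refine ⟨transv v 1, ?_, ?_⟩
  · apply orderOf_eq_prime
    · rw [pow_succ, pow_two, transv_mul, transv_mul]
      have : (1 + 1 + 1 : F) = 0 := by
        have := CharP.cast_eq_zero F 3
        push_cast at this
        linear_combination this
      rw [this, transv_zero]
    · intro h
      have h1 : ((transv v 1 : Matrix.symplecticGroup (Fin m) F) : Matrix (Fin m ⊕ Fin m) (Fin m ⊕ Fin m) F) *ᵥ
          (Pi.single (.inr i) 1) = Pi.single (.inr i) 1 := by
        rw [h]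
        exact Matrix.one_mulVec _
      rw [coe_transv, sympTransvection_mulVec] at h1
      have h2 := congrFun h1 (.inl i)
      rw [sympForm_eq_sum] at h2
      simp only [v, Pi.single_apply, _root_.Sum.inr.injEq, _root_.Sum.inl.injEq, _root_.mul_ite, _root_.mul_one, _root_.MulZeroClass.mul_zero, _root_.ne_eq, _root_.reduceCtorEq, _root_.not_false_eq_true, _root_.Pi.single_eq_of_ne, _root_.sub_zero, _root_.Finset.sum_ite_eq', _root_.Finset.mem_univ, ↓ _root_.reduceIte, _root_.one_smul, _root_.Pi.add_apply, _root_.Pi.single_eq_same, _root_.zero_add, _root_.one_ne_zero] at h2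
  · have h1 := S0775.result (F := F) hF m 1 hm (Submodule.span F {v}) (finrank_span_singleton hv) (by
      intro u hu w hw
      obtain ⟨a, rfl⟩ := span_mem hu
      obtain ⟨b, rfl⟩ := span_mem hw
      rw [sympForm_smul_left, sympForm_smul_right, sympForm_self, mul_zero, mul_zero])
    have h2 : stabilizing (spToMat m F) (Submodule.span F {v} : Set (Fin m ⊕ Fin m → F)) ≤
        centralizer ({transv v 1} : Set (Matrix.symplecticGroup (Fin m) F)) := by
      intro g hg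
      rw [mem_centralizer_singleton_iff, ← mul_inv_eq_iff_eq_mul, conj_transv]
      have h3 : (g : Matrix (Fin m ⊕ Fin m) (Fin m ⊕ Fin m) F) *ᵥ v ∈ Submodule.span F {v} :=
        (hg v).1 (Submodule.mem_span_singleton_self v)
      obtain ⟨a, ha⟩ := span_mem h3
      have ha0 : a ≠ 0 := by
        rintro rfl
        apply hv
        have h4 := coe_mul_mulVec g⁻¹ g v
        rw [inv_mul_cancel, ha, zero_smul, Matrix.mulVec_zero] at h4
        rw [← h4]
        exact (Matrix.one_mulVec v).symm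
      have ha2 : a ^ 2 = 1 := by
        have := FiniteField.pow_card_sub_one_eq_one a ha0
        rwa [hF] at this
      rw [ha, transv_smul, ha2, one_mul]
    refine dvd_trans ?_ (card_dvd_of_le h2)
    rw [h1]
    exact Dvd.dvd.mul_right (dvd_of_eq (by norm_num only [])) _

theorem sp_center_three (hF : Fintype.card F = 3) {m : ℕ} (hm : 1 ≤ m) :
    Nat.card (center (Matrix.symplecticGroup (Fin m) F)) = 2 := by
  rw [S0246.result (F := F) rfl m hm, hF]
  decide

theorem psp_three {m : ℕ} (hm : 2 ≤ m) (hF : 3 ∣ Fintype.card F) {z : PSp m F} {k d m' : ℕ} (h : Cand z k d m') :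
    False := by
  obtain ⟨f, hf, hcard, hchar⟩ := char_three hF
  have hfin : Finite (Matrix.symplecticGroup (Fin m) F) :=
    Finite.of_injective (fun x => (x : Matrix (Fin m ⊕ Fin m) (Fin m ⊕ Fin m) F)) Subtype.val_injective
  have hc := card_psp (F := F) (m := m) (by omega)
  have hq1 : 1 ≤ Fintype.card F := Fintype.card_pos
  have hr : ¬ 3 ∣ ∏ i ∈ Finset.range m, (Fintype.card F ^ (2 * (i + 1)) - 1) :=
    not_dvd_prod _ _ fun j _ => not_dvd_sub_one hF hq1 (by omega)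
  have hb : f * (m ^ 2) = k := by
    have h1 := (pow_dvd_iff not_dvd_gcd_two hr hcard hc).1 h.dvd
    have h2 : ¬ k + 1 ≤ f * (m ^ 2) := fun h' => h.ndvd ((pow_dvd_iff not_dvd_gcd_two hr hcard hc).2 h')
    omega
  have hkl := h.kl
  have hku := h.ku
  have hm3 : m ≤ 3 := by
    by_contra hcon
    have h1 : 4 * 4 ≤ m ^ 2 := by nlinarith only [hcon]
    nlinarith only [hf, hb, hku, h1]
  interval_cases m
  · omega
  · have hf1 : f = 1 := by omega
    have hk : k = 9 := by omega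
    subst hf1 hk
    have hF3 : Fintype.card F = 3 := by rw [hcard]; norm_num
    obtain ⟨y, hy, hyc⟩ := sp_cent (F := F) hF3 (m := 3) (by norm_num)
    have hZ := sp_center_three (F := F) hF3 (m := 3) (by norm_num)
    refine false_of_quot h hy (by rw [hZ]; norm_num) (r := 5) (by norm_num) (by norm_num) (by norm_num)
      (by rw [hZ]; norm_num) (dvd_trans ?_ hyc) (dvd_trans ?_ hyc)
    · decide
    · decide

end Cfsg.Agent.H341.T3
end

-- part: H341/T3Uni
section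
/-!
# The rows S3337 and S3368: unitary groups in characteristic three (helper341)
-/

set_option autoImplicit false

namespace Cfsg.Agent.H341.T3

open Cfsg Subgroup H349.T3 H128.Cross3 H128.Char3 H341.ThreeList
open LieClassical.HermBasic LieClassical.HermSiegel LieClassical.HermGen LieClassical.SUBasic
  ClassicalGeometry.PSUAutBasic
open scoped Matrix

variable {F : Type} [Field F] [Fintype F] {n q : ℕ}

theorem exists_iso (hF : Fintype.card F = q ^ 2) (hn : 3 ≤ n) :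
    ∃ u : Fin n → F, u ≠ 0 ∧ hermForm n F q u u = 0 := by
  have hq := two_le hF
  by_contra hcon
  push Not at hcon
  have h1 : Nat.card {v : Fin n → F // hermForm n F q v v = 0} ≤ 1 := by
    have : Subsingleton {v : Fin n → F // hermForm n F q v v = 0} := by
      constructor
      rintro ⟨a, ha⟩ ⟨b, hb⟩
      have ha0 : a = 0 := by
        by_contra h
        exact hcon a h ha
      have hb0 : b = 0 := by
        by_contra h
        exact hcon b h hb
      exact Subtype.ext (ha0.trans hb0.symm)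
    exact Finite.card_le_one_iff_subsingleton.2 this
  rw [LieClassical.HermCount.card_isotropic hF n] at h1
  have h2 : 2 ^ 1 ≤ q ^ (n - 1) := (Nat.pow_le_pow_left hq 1).trans (Nat.pow_le_pow_right (by omega) (by omega))
  have h3 : 2 ^ 1 ≤ q ^ n := (Nat.pow_le_pow_left hq 1).trans (Nat.pow_le_pow_right (by omega) (by omega))
  split_ifs at h1
  · have : 0 < (q ^ n - 1) * (q ^ (n - 1) + 1) := Nat.mul_pos (by omega) (by omega)
    omega
  · have : 0 < (q ^ n + 1) * (q ^ (n - 1) - 1) := Nat.mul_pos (by omega) (by omega)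
    omega

theorem act_transv_ne_one (hF : Fintype.card F = q ^ 2) {u : Fin n → F} (hu : hermForm n F q u u = 0) (hu0 : u ≠ 0)
    {μ : F} (hμ : μ + μ ^ q = 0) (hμ0 : μ ≠ 0) : transv hF u hu μ hμ ≠ 1 := by
  intro h
  have h1 : ∀ v, (μ * hermForm n F q v u) • u = 0 := by
    intro v
    have h2 := act_transv hF hu hμ v
    rw [h, act_one] at h2
    exact (left_eq_add.1 h2)
  obtain ⟨i, hi⟩ := Function.ne_iff.1 hu0
  have h2 : hermForm n F q (Pi.single i 1) u = (u i) ^ q := by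
    rw [hermForm, Finset.sum_eq_single i]
    · rw [Pi.single_eq_same, one_mul]
    · intro j _ hj
      rw [Pi.single_eq_of_ne hj, zero_mul]
    · intro h
      exact absurd (Finset.mem_univ i) h
  have h3 := congrFun (h1 (Pi.single i 1)) i
  rw [h2, Pi.smul_apply, smul_eq_mul, Pi.zero_apply] at h3
  rcases mul_eq_zero.1 h3 with h4 | h4
  · rcases mul_eq_zero.1 h4 with h5 | h5
    · exact hμ0 h5
    · exact hi (pow_eq_zero_iff (by have := two_le hF; omega) |>.1 h5)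
  · exact hi h4

theorem su_cent (hF : Fintype.card F = q ^ 2) (hn : 3 ≤ n) (h3 : 3 ∣ Fintype.card F) : ∃ y : SU n F q,
    orderOf y = 3 ∧ q ^ (2 * n - 3) * (q ^ ((n - 2) * ((n - 2) - 1) / 2) *
      ∏ i ∈ Finset.range (n - 2), (if Even i then q ^ (i + 1) + 1 else q ^ (i + 1) - 1)) ∣
      Nat.card (centralizer ({y} : Set (SU n F q))) := by
  have hq := two_le hF
  obtain ⟨-, -, -, hchar⟩ := char_three (F := F) h3
  have hfin : Finite (Matrix.SpecialLinearGroup (Fin n) F) := H128.ClassicalAb.finite_sl n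
  obtain ⟨u, hu0, hu⟩ := exists_iso hF hn
  obtain ⟨μ, hμ0, hμ⟩ := exists_trace_zero_ne hF
  refine ⟨transv hF u hu μ hμ, ?_, ?_⟩
  · apply orderOf_eq_prime
    · rw [pow_succ, pow_two, transv_mul, transv_mul]
      apply ext_act
      intro v
      have : μ + μ + μ = 0 := by
        have := CharP.cast_eq_zero F 3
        push_cast at this
        linear_combination μ * this
      rw [act_transv, act_one, this, zero_mul, zero_smul, add_zero]
    · exact act_transv_ne_one hF hu hu0 hμ hμ0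
  · set t := transv hF u hu μ hμ with ht
    set P : Subgroup (SU n F q) := (stabilizing (slToMat n F) (Submodule.span F {u} : Set (Fin n → F))).subgroupOf
      (SU n F q) with hP
    have h1 := S0782.result hF n 1 (by omega) (by omega) (Submodule.span F {u}) (finrank_span_singleton hu0) (by
      intro x hx w hw
      obtain ⟨a, rfl⟩ := span_mem hx
      obtain ⟨b, rfl⟩ := span_mem hw
      rw [herm_smul_left, herm_smul_right, hu, mul_zero, mul_zero])
    obtain ⟨i, hi⟩ := Function.ne_iff.1 hu0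
    -- the eigenvalue
    have hact : ∀ g : P, ∃ a : F, act g.1 u = a • u := by
      intro g
      have h2 : act g.1 u ∈ Submodule.span F {u} := (g.2 u).1 (Submodule.mem_span_singleton_self u)
      exact span_mem h2
    let χ : P →* F :=
      { toFun := fun g => (act g.1 u i) / u i
        map_one' := by
          rw [OneMemClass.coe_one, act_one, div_self hi]
        map_mul' := by
          intro g h
          obtain ⟨a, ha⟩ := hact g
          obtain ⟨b, hb⟩ := hact h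
          rw [Subgroup.coe_mul, act_mul, hb, act_smul, ha]
          simp only [Pi.smul_apply, smul_eq_mul]
          have hi' : u i ≠ 0 := hi
          field_simp }
    have hχ : ∀ g : P, act g.1 u = χ g • u := by
      intro g
      obtain ⟨a, ha⟩ := hact g
      have : χ g = a := by
        change (act g.1 u i) / u i = a
        rw [ha, Pi.smul_apply, smul_eq_mul, mul_div_assoc, div_self hi, mul_one]
      rw [this, ha]
    let ψ : P →* Fˣ := (powMonoidHom (q + 1)).comp χ.toHomUnits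
    have h2 := card_mul_index ψ.ker
    rw [index_ker] at h2
    have h4 : Nat.card ψ.range ∣ q - 1 := by
      have : IsCyclic ψ.range := inferInstance
      obtain ⟨g, hg⟩ := IsCyclic.exists_generator (α := ψ.range)
      rw [← orderOf_eq_card_of_forall_mem_zpowers hg]
      apply orderOf_dvd_of_pow_eq_one
      apply Subtype.ext
      obtain ⟨x, hx⟩ := g.2
      rw [SubmonoidClass.coe_pow, ← hx]
      change ((χ.toHomUnits x) ^ (q + 1)) ^ (q - 1) = 1
      apply Units.ext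
      rw [← pow_mul, Units.val_pow_eq_pow_val, Units.val_one]
      have h5 : (q + 1) * (q - 1) = Fintype.card F - 1 := by
        rw [hF, ← Nat.sq_sub_sq, one_pow]
      rw [h5]
      exact FiniteField.pow_card_sub_one_eq_one _ (Units.ne_zero _)
    have h5 : Nat.card ψ.ker ∣ Nat.card (centralizer ({t} : Set (SU n F q))) := by
      have h6 : ψ.ker.map P.subtype ≤ centralizer ({t} : Set (SU n F q)) := by
        rintro _ ⟨g, hg, rfl⟩
        have h7 : (χ g) ^ (q + 1) = 1 := congrArg Units.val (MonoidHom.mem_ker.1 hg)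
        rw [mem_centralizer_singleton_iff]
        apply ext_act
        intro v
        change act (g.1 * t) v = act (t * g.1) v
        rw [act_mul, act_mul, ht, act_transv, act_transv, act_add, act_smul, hχ g]
        congr 1
        have h8 : hermForm n F q (act g.1 v) u * (χ g) ^ q = hermForm n F q v u := by
          rw [← herm_act g.1 v u, hχ g, herm_smul_right]
          ring
        rw [← h8, smul_smul]
        congr 1
        linear_combination (μ * hermForm n F q (act g.1 v) u) * h7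
      have h7 := card_dvd_of_le h6
      rwa [card_map_of_injective Subtype.val_injective] at h7
    have h6 : Nat.card P ∣ Nat.card (centralizer ({t} : Set (SU n F q))) * (q - 1) := by
      rw [← h2]
      exact Nat.mul_dvd_mul h5 h4
    have h7 := Nat.mul_dvd_mul_left (q + 1) h6
    rw [h1] at h7
    have h8 : 0 < (q + 1) * (q - 1) := Nat.mul_pos (by omega) (by omega)
    apply Nat.dvd_of_mul_dvd_mul_left h8
    refine dvd_trans (dvd_of_eq ?_) (h7.trans (dvd_of_eq ?_))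
    · have h9 : (q + 1) * (q - 1) = q ^ 2 - 1 := by rw [← Nat.sq_sub_sq, one_pow]
      rw [h9]
      simp only [Fin.prod_univ_one, Fin.val_zero, pow_zero, pow_one, one_mul, mul_one]
      ring
    · ring

theorem center_su_trivial (hF : Fintype.card F = q ^ 2) (hn : 3 ≤ n) (hc : Nat.Coprime n (q + 1)) :
    Nat.card (center (SU n F q)) = 1 := by
  rw [Subgroup.card_eq_one, eq_bot_iff]
  intro x hx
  obtain ⟨c, hcn, hcq, rfl⟩ := (mem_center_SU_iff hF hn x).1 hx
  have h1 : c = 1 := by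
    have h3 := pow_gcd_eq_one.2 ⟨hcn, hcq⟩
    rwa [hc, pow_one] at h3
  rw [mem_bot]
  apply ext_act
  intro v
  rw [act_suScalar, act_one, h1, one_smul]

theorem psu_three (hF : Fintype.card F = q ^ 2) (hn : 3 ≤ n) (hq : 3 ∣ q) {z : PSU n F q} {k d m : ℕ}
    (h : Cand z k d m) : False := by
  have : Fact (Nat.Prime 3) := ⟨Nat.prime_three⟩
  have hfin : Finite (Matrix.SpecialLinearGroup (Fin n) F) := H128.ClassicalAb.finite_sl n
  have hF3 : 3 ∣ Fintype.card F := by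
    rw [hF]
    exact hq.trans (dvd_pow_self q (by norm_num))
  obtain ⟨g, hg, hcard, hchar⟩ := char_three hF3
  obtain ⟨f, -, hqf⟩ : ∃ l ≤ g, q = 3 ^ l := (Nat.dvd_prime_pow Nat.prime_three).1 (by
    rw [← hcard, hF]
    exact Dvd.intro_left q (by ring))
  have hf1 : 1 ≤ f := by
    by_contra hcon
    rw [show f = 0 by omega, pow_zero] at hqf
    rw [hqf] at hq
    omega
  have hc := card_psu (F := F) hF (show 2 ≤ n by omega)
  have hq1 : 1 ≤ q := by
    rw [hqf]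
    exact Nat.one_le_pow _ _ (by norm_num)
  have hd : ¬ 3 ∣ Nat.gcd n (q + 1) := fun h' => by
    have := h'.trans (Nat.gcd_dvd_right _ _)
    omega
  have hr : ¬ 3 ∣ ∏ j ∈ Finset.range (n - 1), (if Even j then q ^ (j + 2) - 1 else q ^ (j + 2) + 1) :=
    not_dvd_prod _ _ fun j _ => by
      split_ifs
      · exact not_dvd_sub_one hq hq1 (by omega)
      · exact not_dvd_add_one hq (by omega)
  have hb : f * (n * (n - 1) / 2) = k := by
    have h1 := (pow_dvd_iff hd hr hqf hc).1 h.dvd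
    have h2 : ¬ k + 1 ≤ f * (n * (n - 1) / 2) := fun h' => h.ndvd ((pow_dvd_iff hd hr hqf hc).2 h')
    omega
  have hkl := h.kl
  have hku := h.ku
  have hn6 : n ≤ 5 := by
    by_contra hcon
    have h1 : 6 * 5 ≤ n * (n - 1) := Nat.mul_le_mul (by omega) (by omega)
    have h2 : 15 ≤ n * (n - 1) / 2 := by omega
    nlinarith only [hf1, hb, hku, h2]
  obtain ⟨y, hy, hyc⟩ := su_cent hF hn hF3
  interval_cases n
  · -- `PSU₃(27)`
    have hf3 : f = 3 := by omega
    have hk : k = 9 := by omega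
    subst hf3 hk
    have hq27 : q = 27 := by rw [hqf]; norm_num
    subst hq27
    have hZ : Nat.card (center (SU 3 F 27)) = 1 := center_su_trivial hF (by norm_num) (by decide)
    refine false_of_quot h hy (by rw [hZ]; norm_num) (r := 7) (by norm_num) (by norm_num) (by norm_num)
      (by rw [hZ]; norm_num) (dvd_trans ?_ hyc) (dvd_trans ?_ hyc)
    · decide
    · decide
  · omega
  · -- `PSU₅(3)`
    have hf3 : f = 1 := by omega
    have hk : k = 10 := by omega
    subst hf3 hk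
    have hq3 : q = 3 := by rw [hqf]; norm_num
    subst hq3
    have hZ : Nat.card (center (SU 5 F 3)) = 1 := center_su_trivial hF (by norm_num) (by decide)
    refine false_of_quot h hy (by rw [hZ]; norm_num) (r := 7) (by norm_num) (by norm_num) (by norm_num)
      (by rw [hZ]; norm_num) (dvd_trans ?_ hyc) (dvd_trans ?_ hyc)
    · decide
    · decide

end Cfsg.Agent.H341.T3
end

-- part: H341/T3Exc
section
/-!
# The rows S3337 and S3368: orthogonal groups in even dimension and exceptional groups in characteristic three (helper341)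
-/

set_option autoImplicit false

namespace Cfsg.Agent.H341.T3

open Cfsg Subgroup OrdDiv H349.T3 H128.Cross3 H128.Char3 H341.ThreeList

universe u

section

variable {F : Type} [Field F] [Fintype F]

/-- the exponent of three -/
theorem val_eq {L : Type*} [Group L] {z : L} {k d m : ℕ} (h : Cand z k d m) {c r q N f : ℕ} (hd : ¬ 3 ∣ c)
    (hr : ¬ 3 ∣ r) (hq : q = 3 ^ f) (hc : c * Nat.card L = q ^ N * r) : f * N = k := by
  have h1 := (pow_dvd_iff hd hr hq hc).1 h.dvd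
  have h2 : ¬ k + 1 ≤ f * N := fun h' => h.ndvd ((pow_dvd_iff hd hr hq hc).2 h')
  omega

theorem no_twelve {f m : ℕ} (hm : 4 ≤ m) (hf : 1 ≤ f) : 12 ≤ f * (m * (m - 1)) := by
  have h1 : 4 * 3 ≤ m * (m - 1) := Nat.mul_le_mul (by omega) (by omega)
  nlinarith

theorem oplus_three {m : ℕ} (hm : 4 ≤ m) (hF : 3 ∣ Fintype.card F) {z : POmega F (quadFormPlus m F)} {k d m' : ℕ}
    (h : Cand z k d m') : False := by
  obtain ⟨f, hf, hcard, hchar⟩ := char_three hF
  have hc := S0293.result (F := F) rfl m hm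
  have hq1 : 1 ≤ Fintype.card F := Fintype.card_pos
  have hr : ¬ 3 ∣ (Fintype.card F ^ m - 1) * ∏ i ∈ Finset.range (m - 1), (Fintype.card F ^ (2 * (i + 1)) - 1) :=
    not_dvd_mul (not_dvd_sub_one hF hq1 (by omega)) (not_dvd_prod _ _ fun j _ => not_dvd_sub_one hF hq1 (by omega))
  rw [mul_assoc] at hc
  have hb := val_eq h not_dvd_gcd_four hr hcard hc
  have := no_twelve hm hf
  have := h.ku
  omega

theorem ominus_three {m : ℕ} (hm : 4 ≤ m) {a b : F}
    (hab : ∀ z₁ z₂ : F, z₁ ^ 2 + a * z₁ * z₂ + b * z₂ ^ 2 = 0 → z₁ = 0 ∧ z₂ = 0) (hF : 3 ∣ Fintype.card F)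
    {z : POmega F (quadFormMinus (m - 1) F a b)} {k d m' : ℕ} (h : Cand z k d m') : False := by
  obtain ⟨f, hf, hcard, hchar⟩ := char_three hF
  have hc := S0294.result (F := F) rfl m hm a b hab
  have hq1 : 1 ≤ Fintype.card F := Fintype.card_pos
  have hr : ¬ 3 ∣ (Fintype.card F ^ m + 1) * ∏ i ∈ Finset.range (m - 1), (Fintype.card F ^ (2 * (i + 1)) - 1) :=
    not_dvd_mul (not_dvd_add_one hF (by omega)) (not_dvd_prod _ _ fun j _ => not_dvd_sub_one hF hq1 (by omega))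
  rw [mul_assoc] at hc
  have hb := val_eq h not_dvd_gcd_four hr hcard hc
  have := no_twelve hm hf
  have := h.ku
  omega

end

/-! ### the outer automorphism group -/

theorem d_dvd_out {L : Type*} [Group L] [Finite L] {z : L} {k d m : ℕ} (h : Cand z k d m) :
    d ∣ Nat.card (Cfsg.Out L) := by
  have h1 : Nat.card (MulAut.conj : L →* MulAut L).range ∣ Nat.card L := by
    have h2 := card_mul_index (MulAut.conj : L →* MulAut L).ker
    rw [index_ker] at h2
    exact Dvd.intro_left _ h2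
  have h2 := card_mul_index (MulAut.conj : L →* MulAut L).range
  have h3 : Nat.card (MulAut L) ∣ Nat.card L * Nat.card (Cfsg.Out L) := by
    rw [← h2]
    exact Nat.mul_dvd_mul_right h1 _
  have h4 := h.out.trans h3
  rw [mul_comm] at h4
  exact Nat.dvd_of_mul_dvd_mul_left Nat.card_pos h4

/-! ### exceptional groups in characteristic three -/

section Exc

variable {K : Type*} [Group K] {z : K} {k d m' : ℕ} {F : Type} [Field F] [Fintype F]

theorem g2_three (T : OrderTable.{u}) (h : Cand z k d m') (h3 : 3 ∣ Fintype.card F) (e : K ≃* Lie.chevG2.group F) :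
    False := by
  obtain ⟨f, hf, hcard, hchar⟩ := char_three h3
  have hq1 : 1 ≤ Fintype.card F := Fintype.card_pos
  have hc : 1 * Nat.card K =
      Fintype.card F ^ 6 * ((Fintype.card F ^ 2 - 1) * (Fintype.card F ^ 6 - 1)) := by
    rw [one_mul, Nat.card_congr e.toEquiv, T.g2 F, mul_assoc]
  have hr : ¬ 3 ∣ (Fintype.card F ^ 2 - 1) * (Fintype.card F ^ 6 - 1) :=
    not_dvd_mul (not_dvd_sub_one h3 hq1 (by norm_num)) (not_dvd_sub_one h3 hq1 (by norm_num))
  have hb := val_eq h (by norm_num) hr hcard hc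
  have := h.kl
  have := h.ku
  omega

theorem f4_three (T : OrderTable.{u}) (h : Cand z k d m') (h3 : 3 ∣ Fintype.card F) (e : K ≃* Lie.chevF4.group F) :
    False := by
  obtain ⟨f, hf, hcard, hchar⟩ := char_three h3
  apply n12 h
  rw [Nat.card_congr e.toEquiv, T.f4 F _ rfl, hcard]
  refine Dvd.dvd.mul_right (Dvd.dvd.mul_right (Dvd.dvd.mul_right (Dvd.dvd.mul_right ?_ _) _) _) _
  rw [← pow_mul]
  exact pow_dvd_pow 3 (by omega)

theorem not_dvd_gcd_three {m : ℕ} (h3 : ¬ 3 ∣ m) : ¬ 3 ∣ Nat.gcd 3 m := fun h => h3 (h.trans (Nat.gcd_dvd_right _ _))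

theorem e6_three (T : OrderTable.{u}) (h : Cand z k d m') (h3 : 3 ∣ Fintype.card F) (e : K ≃* Lie.chevE6.group F) :
    False := by
  obtain ⟨f, hf, hcard, hchar⟩ := char_three h3
  have hq1 : 1 ≤ Fintype.card F := Fintype.card_pos
  apply n12 h
  have hc := T.e6 F _ rfl
  rw [← Nat.card_congr e.toEquiv] at hc
  refine H128.Cross3.of_mul' (not_dvd_gcd_three ?_) hc ?_
  · have := not_dvd_sub_one (k := 1) h3 hq1 (by norm_num)
    rwa [pow_one] at this
  · rw [hcard]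
    iterate 6 apply Dvd.dvd.mul_right
    rw [← pow_mul]
    exact pow_dvd_pow 3 (by omega)

theorem e7_three (T : OrderTable.{u}) (h : Cand z k d m') (h3 : 3 ∣ Fintype.card F) (e : K ≃* Lie.chevE7.group F) :
    False := by
  obtain ⟨f, hf, hcard, hchar⟩ := char_three h3
  apply n12 h
  have hc := T.e7 F _ rfl
  rw [← Nat.card_congr e.toEquiv] at hc
  refine H128.Cross3.of_mul' not_dvd_gcd_two hc ?_
  rw [hcard]
  iterate 7 apply Dvd.dvd.mul_right
  rw [← pow_mul]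
  exact pow_dvd_pow 3 (by omega)

theorem e8_three (T : OrderTable.{u}) (h : Cand z k d m') (h3 : 3 ∣ Fintype.card F) (e : K ≃* Lie.chevE8.group F) :
    False := by
  obtain ⟨f, hf, hcard, hchar⟩ := char_three h3
  apply n12 h
  rw [Nat.card_congr e.toEquiv, T.e8 F _ rfl, hcard]
  iterate 8 apply Dvd.dvd.mul_right
  rw [← pow_mul]
  exact pow_dvd_pow 3 (by omega)

theorem card_pow (h3 : 3 ∣ Fintype.card F) {q k : ℕ} (hF : Fintype.card F = q ^ k) (hk : k ≠ 0) :
    ∃ f, 1 ≤ f ∧ q = 3 ^ f := by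
  obtain ⟨f, hf, hcard, hchar⟩ := char_three h3
  have h1 : q ∣ 3 ^ f := by
    rw [← hcard, hF]
    exact dvd_pow_self q hk
  obtain ⟨l, -, hl⟩ := (Nat.dvd_prime_pow Nat.prime_three).1 h1
  refine ⟨l, ?_, hl⟩
  by_contra hcon
  have h2 : l = 0 := by omega
  rw [hl, h2, pow_zero, one_pow] at hF
  rw [hF] at h3
  norm_num at h3

theorem te6_three (T : OrderTable.{u}) (h : Cand z k d m') {q : ℕ} (hq : IsPrimePow q) (hF : Fintype.card F = q ^ 2)
    (h3 : 3 ∣ Fintype.card F) (e : K ≃* Lie.twistedE6 F q) : False := by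
  obtain ⟨f, hf, hqf⟩ := card_pow h3 hF (by norm_num)
  have hq3 : 3 ∣ q := by
    rw [hqf]
    exact dvd_pow_self 3 (by omega)
  apply n12 h
  have hc := T.te6 F q hq hF
  rw [← Nat.card_congr e.toEquiv] at hc
  refine H128.Cross3.of_mul' (not_dvd_gcd_three ?_) hc ?_
  · have := not_dvd_add_one (k := 1) hq3 (by norm_num)
    rwa [pow_one] at this
  · rw [hqf]
    iterate 6 apply Dvd.dvd.mul_right
    rw [← pow_mul]
    exact pow_dvd_pow 3 (by omega)

theorem td4_three (T : OrderTable.{u}) (h : Cand z k d m') {q : ℕ} (hq : IsPrimePow q) (hF : Fintype.card F = q ^ 3)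
    (h3 : 3 ∣ Fintype.card F) (e : K ≃* Lie.twistedD4 F q) : False := by
  obtain ⟨f, hf, hqf⟩ := card_pow h3 hF (by norm_num)
  apply n12 h
  rw [Nat.card_congr e.toEquiv, T.td4 F q hq hF, hqf]
  iterate 3 apply Dvd.dvd.mul_right
  rw [← pow_mul]
  exact pow_dvd_pow 3 (by omega)

/-- `²G₂(q)` -/
theorem ree_false (T : OrderTable.{u}) (h : Cand z k d m') {m : ℕ} (hm : 1 ≤ m)
    (hF : Fintype.card F = 3 ^ (2 * m + 1)) (e : K ≃* Lie.twistedG2 F (3 ^ m)) : False := by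
  have hc : 1 * Nat.card K = (3 ^ (2 * m + 1)) ^ 3 * ((3 ^ (2 * m + 1) - 1) * ((3 ^ (2 * m + 1)) ^ 3 + 1)) := by
    rw [one_mul, Nat.card_congr e.toEquiv, T.ree F m hm hF]
    ring
  have hq3 : 3 ∣ 3 ^ (2 * m + 1) := dvd_pow_self 3 (by omega)
  have hr : ¬ 3 ∣ (3 ^ (2 * m + 1) - 1) * ((3 ^ (2 * m + 1)) ^ 3 + 1) := by
    refine not_dvd_mul ?_ (not_dvd_add_one hq3 (by norm_num))
    have := not_dvd_sub_one (k := 1) hq3 (Nat.one_le_pow _ _ (by norm_num)) (by norm_num)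
    rwa [pow_one] at this
  have hb := val_eq h (by norm_num) hr rfl hc
  have hkl := h.kl
  have hku := h.ku
  have hm1 : m = 1 := by omega
  subst hm1
  rw [one_mul] at hc
  have hfin : Finite K := Nat.finite_of_card_ne_zero (by rw [hc]; norm_num)
  have hd : d ∣ 3 := by
    have h1 := d_dvd_out h
    rwa [H55.OutGen.card_out_congr e, S2127.result hm hF] at h1
  have h7 : 2 ^ 7 ∣ 3 * Nat.card K := by
    refine ((pow_dvd_pow 2 h.m7).trans h.two).trans ?_
    exact mul_dvd_mul hd (card_subgroup_dvd_card _)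
  rw [hc] at h7
  norm_num at h7

end Exc

end Cfsg.Agent.H341.T3
end

-- part: H341/T3Om7
section
/-!
# The rows S3337 and S3368: `Ω₇(3)` (helper341)

The centralizer of a long root element `y` of `Ω₇(3)` has order `2⁵ 3⁹`.
-/

set_option autoImplicit false

namespace Cfsg.Agent.H341.T3.Pair

open QuadraticMap Matrix Module Cfsg.Agent.ClassicalGeometry.Reflection Cfsg.Agent.ClassicalGeometry.SiegelGen
  Cfsg.Agent.H175.OmegaAdjust Subgroup

variable {F : Type} [Field F] [Fintype F] {ι : Type} [Fintype ι] [DecidableEq ι] {Q : QuadraticForm F (ι → F)}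

attribute [local instance] actV

/-- Witt's theorem: the isometry group is transitive on the pairs. -/
theorem exists_iso (hQ : (polarBilin Q).Nondegenerate) {x x' : (ι → F) × (ι → F)} (h : TS Q x) (h' : TS Q x') :
    ∃ g : Cfsg.isometryGroup F ⇑Q, g • x = x' := by
  obtain ⟨g, hg, hgx⟩ := Cfsg.Agent.ClassicalGeometry.WittQuad.extend_family Q hQ 2 ![x.1, x.2] ![x'.1, x'.2]
    h.li h'.li (by
      intro i
      fin_cases i
      · exact h.u.trans h'.u.symm
      · exact h.w.trans h'.w.symm) (by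
      have e1 : polar Q x.2 x.1 = 0 := by rw [polar_comm]; exact h.uw
      have e2 : polar Q x'.2 x'.1 = 0 := by rw [polar_comm]; exact h'.uw
      have e3 : polar Q x.1 x.1 = 0 := by rw [polar_self', h.u, mul_zero]
      have e4 : polar Q x'.1 x'.1 = 0 := by rw [polar_self', h'.u, mul_zero]
      have e5 : polar Q x.2 x.2 = 0 := by rw [polar_self', h.w, mul_zero]
      have e6 : polar Q x'.2 x'.2 = 0 := by rw [polar_self', h'.w, mul_zero]
      intro i j
      fin_cases i <;> fin_cases j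
      · exact e3.trans e4.symm
      · exact h.uw.trans h'.uw.symm
      · exact e1.trans e2.symm
      · exact e5.trans e6.symm)
  refine ⟨toIso Q g hg, ?_⟩
  apply Prod.ext
  · change ((toIso Q g hg : GeneralLinearGroup ι F) : Matrix ι ι F) *ᵥ x.1 = x'.1
    rw [toIso_mulVec]
    exact hgx 0
  · change ((toIso Q g hg : GeneralLinearGroup ι F) : Matrix ι ι F) *ᵥ x.2 = x'.2
    rw [toIso_mulVec]
    exact hgx 1

/-- `Ω` is transitive on the pairs. -/
theorem exists_omega (h2 : (2 : F) ≠ 0) (hQ : (polarBilin Q).Nondegenerate) (hn : 2 ≤ Fintype.card ι)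
    {x x' : (ι → F) × (ι → F)} (h : TS Q x) (h' : TS Q x') {a b : ι → F} (ha : Q a ≠ 0) (hb : Q b ≠ 0)
    (hab : ¬ IsSquare (Q a * Q b)) (ha1 : polar Q a x.1 = 0) (ha2 : polar Q a x.2 = 0) (hb1 : polar Q b x.1 = 0)
    (hb2 : polar Q b x.2 = 0) : ∃ g ∈ Cfsg.Omega F ⇑Q, g • x = x' := by
  obtain ⟨g, hg⟩ := exists_iso hQ h h'
  have hr : ∀ (v : ι → F) (hv : Q v ≠ 0), polar Q v x.1 = 0 → polar Q v x.2 = 0 →
      reflIso Q v hv ∈ MulAction.stabilizer (Cfsg.isometryGroup F ⇑Q) x := by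
    intro v hv h1 h2
    rw [MulAction.mem_stabilizer_iff]
    apply Prod.ext
    · change ((reflIso Q v hv : GeneralLinearGroup ι F) : Matrix ι ι F) *ᵥ x.1 = x.1
      rw [coe_reflIso, reflectionMatrix_mulVec_of_polar_eq_zero Q _ _ h1]
    · change ((reflIso Q v hv : GeneralLinearGroup ι F) : Matrix ι ι F) *ᵥ x.2 = x.2
      rw [coe_reflIso, reflectionMatrix_mulVec_of_polar_eq_zero Q _ _ h2]
  obtain ⟨s, hs, hgs⟩ := adjust_odd_refl Q h2 hQ hn (MulAction.stabilizer (Cfsg.isometryGroup F ⇑Q) x) a b ha hb hab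
    (hr a ha ha1 ha2) (hr b hb hb1 hb2) g
  refine ⟨g * s, hgs, ?_⟩
  rw [mul_smul, MulAction.mem_stabilizer_iff.1 hs, hg]

/-- **The order of the centralizer of a Siegel transformation in `Ω`.** -/
theorem card_cent (h2 : (2 : F) ≠ 0) (hQ : (polarBilin Q).Nondegenerate) (hn : 2 ≤ Fintype.card ι)
    {x : (ι → F) × (ι → F)} (h : TS Q x) {a b : ι → F} (ha : Q a ≠ 0) (hb : Q b ≠ 0)
    (hab : ¬ IsSquare (Q a * Q b)) (ha1 : polar Q a x.1 = 0) (ha2 : polar Q a x.2 = 0) (hb1 : polar Q b x.1 = 0)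
    (hb2 : polar Q b x.2 = 0) : ∃ y : Cfsg.Omega F ⇑Q, (y : Cfsg.isometryGroup F ⇑Q) = sI h ∧
      Nat.card {x' : (ι → F) × (ι → F) | TS Q x'} * Nat.card (centralizer ({y} : Set (Cfsg.Omega F ⇑Q))) =
        Nat.card (_root_.Matrix.SpecialLinearGroup (Fin 2) F) * Nat.card (Cfsg.Omega F ⇑Q) := by
  have hy : sI h ∈ Cfsg.Omega F ⇑Q := mem_commutator_of_siegel h2 Q hQ _ x.1 x.2 h.u h.w h.uw 1 rfl
  refine ⟨⟨sI h, hy⟩, rfl, ?_⟩
  set y : Cfsg.Omega F ⇑Q := ⟨sI h, hy⟩ with hyd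
  set C := centralizer ({y} : Set (Cfsg.Omega F ⇑Q)) with hC
  set S := MulAction.stabilizer (Cfsg.Omega F ⇑Q) x with hS
  have hcomm : ∀ g : Cfsg.Omega F ⇑Q, g ∈ C ↔ sg Q (g • x) = sg Q x := by
    intro g
    have h1 : sg Q (g • x) = sg Q x ↔ sI (h.smul (g : Cfsg.isometryGroup F ⇑Q)) = sI h := by
      rw [sI_eq_iff]
      rfl
    rw [h1, ← conj_sI, hC, mem_centralizer_singleton_iff]
    constructor
    · intro h3
      have h4 : (g : Cfsg.isometryGroup F ⇑Q) * sI h = sI h * g := congrArg Subtype.val h3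
      rw [h4, mul_inv_cancel_right]
    · intro h3
      apply Subtype.ext
      change (g : Cfsg.isometryGroup F ⇑Q) * sI h = sI h * g
      rw [mul_inv_eq_iff_eq_mul] at h3
      exact h3
  have hSC : S ≤ C := by
    intro g hg
    rw [hcomm, MulAction.mem_stabilizer_iff.1 hg]
  -- the orbit of `Ω`
  have ho : MulAction.orbit (Cfsg.Omega F ⇑Q) x = {x' | TS Q x'} := by
    ext x'
    constructor
    · rintro ⟨g, rfl⟩
      exact h.smul (g : Cfsg.isometryGroup F ⇑Q)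
    · intro h'
      obtain ⟨g, hg, hgx⟩ := exists_omega h2 hQ hn h h' ha hb hab ha1 ha2 hb1 hb2
      exact ⟨⟨g, hg⟩, hgx⟩
  have ho' : MulAction.orbit C x = {x' | TS Q x' ∧ sg Q x' = sg Q x} := by
    ext x'
    constructor
    · rintro ⟨g, rfl⟩
      exact ⟨h.smul (g.1 : Cfsg.isometryGroup F ⇑Q), (hcomm g.1).1 g.2⟩
    · rintro ⟨h', hs⟩
      obtain ⟨g, hg, hgx⟩ := exists_omega h2 hQ hn h h' ha hb hab ha1 ha2 hb1 hb2
      have h3 : (⟨g, hg⟩ : Cfsg.Omega F ⇑Q) ∈ C := by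
        rw [hcomm]
        rw [← hs, ← hgx]
        rfl
      exact ⟨⟨⟨g, hg⟩, h3⟩, hgx⟩
  have i1 := MulAction.index_stabilizer (Cfsg.Omega F ⇑Q) x
  have i2 := MulAction.index_stabilizer C x
  rw [ho, ← Nat.card_coe_set_eq] at i1
  rw [ho', ← Nat.card_coe_set_eq, card_fibre hQ h] at i2
  have h3 : Nat.card (MulAction.stabilizer C x) = Nat.card S := by
    have h4 : MulAction.stabilizer C x = S.subgroupOf C := by
      ext g
      rfl
    rw [h4]
    exact Nat.card_congr (subgroupOfEquivOfLe hSC).toEquiv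
  have h5 := card_mul_index S
  have h6 := card_mul_index (MulAction.stabilizer C x)
  rw [h3, i2] at h6
  rw [i1] at h5
  rw [← h5, ← h6]
  ring

end Cfsg.Agent.H341.T3.Pair
end

-- part: H341/T3Count
section
/-!
# The rows S3337 and S3368: `Ω₇(3)`, the number of pairs (helper341)
-/

set_option autoImplicit false

namespace Cfsg.Agent.H341.T3.Pair

open QuadraticMap Matrix Module Cfsg.Agent.ClassicalGeometry.Reflection Cfsg.Agent.ClassicalGeometry.SiegelGen
  Cfsg.Agent.H175.OmegaAdjust Subgroup Cfsg.Agent.LieClassical.QuadForms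

section Gen

variable {F : Type} [Field F] [Fintype F] {ι : Type} [Fintype ι] [DecidableEq ι] {Q : QuadraticForm F (ι → F)}

attribute [local instance] actV

/-- Witt's theorem: the isometry group is transitive on the nonzero singular vectors. -/
theorem exists_iso_one (hQ : (polarBilin Q).Nondegenerate) {u u' : ι → F} (h : Q u = 0) (h0 : u ≠ 0) (h' : Q u' = 0)
    (h0' : u' ≠ 0) : ∃ g : Cfsg.isometryGroup F ⇑Q, g • u = u' := by
  obtain ⟨g, hg, hgx⟩ := Cfsg.Agent.ClassicalGeometry.WittQuad.extend_family Q hQ 1 ![u] ![u']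
    (LinearIndependent.of_subsingleton 0 h0) (LinearIndependent.of_subsingleton 0 h0') (by
      intro i
      fin_cases i
      exact h.trans h'.symm) (by
      have e3 : polar Q u u = 0 := by rw [polar_self', h, mul_zero]
      have e4 : polar Q u' u' = 0 := by rw [polar_self', h', mul_zero]
      intro i j
      fin_cases i
      fin_cases j
      exact e3.trans e4.symm)
  refine ⟨toIso Q g hg, ?_⟩
  change ((toIso Q g hg : GeneralLinearGroup ι F) : Matrix ι ι F) *ᵥ u = u'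
  rw [toIso_mulVec]
  exact hgx 0

/-- the number of pairs, from the number of second vectors -/
theorem card_TS (hQ : (polarBilin Q).Nondegenerate) {e : ι → F} (he : Q e = 0) (he0 : e ≠ 0) :
    Nat.card {x : (ι → F) × (ι → F) | TS Q x} = (Nat.card {v : ι → F // Q v = 0} - 1) *
      (Nat.card {w : ι → F // Q w = 0 ∧ polar Q e w = 0} - Nat.card F) := by
  -- the second vectors
  let N : (ι → F) → Set (ι → F) := fun u => {w | Q w = 0 ∧ polar Q u w = 0 ∧ ∀ c : F, c • u ≠ w}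
  have hN : ∀ u : ι → F, Q u = 0 → u ≠ 0 → Nat.card (N u) = Nat.card (N e) := by
    intro u hu hu0
    obtain ⟨g, hg⟩ := exists_iso_one hQ he he0 hu hu0
    refine (Nat.card_congr ((MulAction.toPerm g).subtypeEquiv ?_)).symm
    intro w
    change (Q w = 0 ∧ polar Q e w = 0 ∧ ∀ c : F, c • e ≠ w) ↔ (Q (g • w) = 0 ∧ polar Q u (g • w) = 0 ∧
      ∀ c : F, c • u ≠ g • w)
    rw [Q_smul, ← hg, polar_smul]
    have h1 : ∀ c : F, c • (g • e) = g • w ↔ c • e = w := by
      intro c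
      rw [← smul_smul']
      exact (MulAction.injective g).eq_iff
    simp only [ne_eq, h1]
  have hNe : Nat.card (N e) = Nat.card {w : ι → F // Q w = 0 ∧ polar Q e w = 0} - Nat.card F := by
    have h1 : N e = {w | Q w = 0 ∧ polar Q e w = 0} \ Set.range (fun c : F => c • e) := by
      ext w
      constructor
      · rintro ⟨h1, h2, h3⟩
        exact ⟨⟨h1, h2⟩, by rintro ⟨c, hc⟩; exact h3 c hc⟩
      · rintro ⟨⟨h1, h2⟩, h3⟩
        exact ⟨h1, h2, fun c hc => h3 ⟨c, hc⟩⟩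
    have h2 : Set.range (fun c : F => c • e) ⊆ {w | Q w = 0 ∧ polar Q e w = 0} := by
      rintro _ ⟨c, rfl⟩
      refine ⟨?_, ?_⟩
      · change Q (c • e) = 0
        rw [QuadraticMap.map_smul, he, smul_zero]
      · change polar Q e (c • e) = 0
        rw [polar_smul_right, polar_self', he, mul_zero, smul_zero]
    rw [h1, Nat.card_coe_set_eq, Set.ncard_sdiff h2]
    congr 1
    have h3 : Function.Injective (fun c : F => c • e) := by
      intro c c' hc
      have h4 : (c - c') • e = 0 := by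
        rw [sub_smul, sub_eq_zero]
        exact hc
      rcases smul_eq_zero.1 h4 with h5 | h5
      · exact sub_eq_zero.1 h5
      · exact absurd h5 he0
    rw [← Nat.card_coe_set_eq]
    exact (Nat.card_congr (Equiv.ofInjective _ h3)).symm
  -- the total
  have h3 : Nat.card {x : (ι → F) × (ι → F) | TS Q x} =
      Nat.card (Σ u : {u : ι → F // Q u = 0 ∧ u ≠ 0}, N u.1) := by
    refine Nat.card_congr ⟨fun x => ⟨⟨x.1.1, x.2.u, x.2.u0⟩, ⟨x.1.2, x.2.w, x.2.uw, x.2.ind⟩⟩,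
      fun y => ⟨(y.1.1, y.2.1), ⟨y.1.2.1, y.2.2.1, y.2.2.2.1, y.1.2.2, y.2.2.2.2⟩⟩, fun x => rfl, fun y => rfl⟩
  have h4 : Nat.card {u : ι → F // Q u = 0 ∧ u ≠ 0} = Nat.card {v : ι → F // Q v = 0} - 1 := by
    have h5 : {u : ι → F | Q u = 0 ∧ u ≠ 0} = {u | Q u = 0} \ {0} := by
      ext u
      rfl
    have h6 : ({0} : Set (ι → F)) ⊆ {u | Q u = 0} := by
      rintro _ rfl
      exact QuadraticMap.map_zero Q
    change Nat.card ({u : ι → F | Q u = 0 ∧ u ≠ 0} : Set (ι → F)) = Nat.card ({u : ι → F | Q u = 0} : Set (ι → F)) - 1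
    rw [h5, Nat.card_coe_set_eq, Set.ncard_sdiff h6, Set.ncard_singleton, Nat.card_coe_set_eq]
  rw [h3]
  classical
  have := Fintype.ofFinite {u : ι → F // Q u = 0 ∧ u ≠ 0}
  rw [Nat.card_sigma, Finset.sum_congr rfl (fun u _ => (hN u.1 u.2.1 u.2.2).trans hNe), Finset.sum_const,
    Finset.card_univ, ← Nat.card_eq_fintype_card, h4, smul_eq_mul]

end Gen

variable {F : Type} [Field F] [Fintype F]

theorem card_perp (m : ℕ) : Nat.card {w : Unit ⊕ (Fin (m + 1) ⊕ Fin (m + 1)) → F // oddForm (m + 1) F w = 0 ∧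
    polar (oddForm (m + 1) F) (oddStep m F (0, 1, 0)) w = 0} =
    Nat.card {v : Unit ⊕ (Fin m ⊕ Fin m) → F // oddForm m F v = 0} * Nat.card F := by
  rw [← Nat.card_prod]
  have h1 : ∀ (v : Unit ⊕ (Fin m ⊕ Fin m) → F) (a b : F),
      polar (oddForm (m + 1) F) (oddStep m F (0, 1, 0)) (oddStep m F (v, a, b)) = b := by
    intro v a b
    rw [polar, ← map_add, Prod.mk_add_mk, Prod.mk_add_mk, oddForm_oddStep, oddForm_oddStep, oddForm_oddStep, zero_add]
    simp
    ring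
  have hf : ∀ p : {v : Unit ⊕ (Fin m ⊕ Fin m) → F // oddForm m F v = 0} × F,
      oddForm (m + 1) F (oddStep m F (p.1.1, p.2, 0)) = 0 ∧
        polar (oddForm (m + 1) F) (oddStep m F (0, 1, 0)) (oddStep m F (p.1.1, p.2, 0)) = 0 := by
    intro p
    exact ⟨by rw [oddForm_oddStep, p.1.2, mul_zero, add_zero], h1 _ _ _⟩
  have hg : ∀ w : {w : Unit ⊕ (Fin (m + 1) ⊕ Fin (m + 1)) → F // oddForm (m + 1) F w = 0 ∧
      polar (oddForm (m + 1) F) (oddStep m F (0, 1, 0)) w = 0}, oddForm m F ((oddStep m F).symm w.1).1 = 0 := by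
    intro w
    have h2 := w.2.1
    have h3 := w.2.2
    obtain ⟨⟨v, a, b⟩, hv⟩ := (oddStep m F).surjective w.1
    rw [← hv, h1] at h3
    rw [← hv, oddForm_oddStep, h3, mul_zero, add_zero] at h2
    rw [← hv, LinearEquiv.symm_apply_apply]
    exact h2
  refine (Nat.card_congr ⟨fun p => ⟨oddStep m F (p.1.1, p.2, 0), hf p⟩,
    fun w => (⟨((oddStep m F).symm w.1).1, hg w⟩, ((oddStep m F).symm w.1).2.1), ?_, ?_⟩).symm
  · rintro ⟨⟨v, hv⟩, a⟩
    simp
  · rintro ⟨w, hw1, hw2⟩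
    apply Subtype.ext
    obtain ⟨⟨v, a, b⟩, hv⟩ := (oddStep m F).surjective w
    rw [← hv, h1] at hw2
    change oddStep m F (((oddStep m F).symm w).1, ((oddStep m F).symm w).2.1, 0) = w
    rw [← hv, LinearEquiv.symm_apply_apply, hw2]

theorem card_TS_seven (hF : Fintype.card F = 3) :
    Nat.card {x : (Unit ⊕ (Fin 3 ⊕ Fin 3) → F) × (Unit ⊕ (Fin 3 ⊕ Fin 3) → F) | TS (oddForm 3 F) x} = 728 * 240 := by
  have h2 : (2 : F) ≠ 0 := by
    obtain ⟨f, hf, hcard, hchar⟩ := H128.Char3.char_three (F := F) (by rw [hF])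
    intro h
    have h3 := CharP.cast_eq_zero F 3
    push_cast at h3
    have : (1 : F) = 0 := by linear_combination h3 - h
    exact one_ne_zero this
  have hz : ∀ m, Nat.card {v : Unit ⊕ (Fin m ⊕ Fin m) → F // oddForm m F v = 0} = 3 ^ (2 * m) := by
    intro m
    have := S0291.result hF (by decide) m
    rw [← coe_oddForm] at this
    exact this
  have he0 : oddStep 2 F (0, 1, 0) ≠ 0 := by
    intro h
    have h1 : ((0 : Unit ⊕ (Fin 2 ⊕ Fin 2) → F), (1 : F), (0 : F)) = 0 :=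
      (oddStep 2 F).map_eq_zero_iff.1 h
    exact one_ne_zero (congrArg (fun p => p.2.1) h1)
  have he : oddForm (2 + 1) F (oddStep 2 F (0, 1, 0)) = 0 := by
    rw [oddForm_oddStep]
    simp
  have h3 := card_TS (S0292.oddForm_nondegenerate h2 (2 + 1)) he he0
  rw [card_perp, hz, hz, Nat.card_eq_fintype_card (α := F), hF] at h3
  exact h3

end Cfsg.Agent.H341.T3.Pair
end

-- part: H341/T3Odd
section
/-!
# The rows S3337 and S3368: orthogonal groups in odd dimension, characteristic three (helper341)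
-/

set_option autoImplicit false

namespace Cfsg.Agent.H341.T3

open Cfsg Subgroup H349.T3 H128.Cross3 H128.Char3 H341.ThreeList QuadraticMap
open LieClassical.QuadForms

/-- the centralizers of the 3-central elements of order three have the same order -/
theorem card_cent_eq {L : Type*} [Group L] {z : L} {k d m : ℕ} (h : Cand z k d m) {y : L} (hy : orderOf y = 3)
    (hc : 3 ^ k ∣ Nat.card (centralizer ({y} : Set L))) :
    Nat.card (centralizer ({y} : Set L)) = Nat.card (centralizer ({z} : Set L)) := by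
  have key : ∀ x : L, IsConj y x → Nat.card (centralizer ({y} : Set L)) = Nat.card (centralizer ({x} : Set L)) := by
    intro x hx
    obtain ⟨c, hc⟩ := isConj_iff.1 hx
    rw [← card_centralizer_congr (MulAut.conj c) y, MulAut.conj_apply, hc]
  have hinv : Nat.card (centralizer ({z⁻¹} : Set L)) = Nat.card (centralizer ({z} : Set L)) := by
    have : centralizer ({z⁻¹} : Set L) = centralizer ({z} : Set L) := by
      ext x
      rw [mem_centralizer_singleton_iff, mem_centralizer_singleton_iff]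
      exact Commute.inv_right_iff (a := x) (b := z)
    rw [this]
  rcases h.uniq y hy hc with h' | h'
  · exact key _ h'
  · rw [key _ h', hinv]

section

variable {F : Type} [Field F] [Fintype F]

/-- the standard pair -/
def x0 (F : Type) [Field F] : (Unit ⊕ (Fin 3 ⊕ Fin 3) → F) × (Unit ⊕ (Fin 3 ⊕ Fin 3) → F) :=
  (Pi.single (.inr (.inl 0)) 1, Pi.single (.inr (.inl 1)) 1)

theorem Q_eq (v : Unit ⊕ (Fin 3 ⊕ Fin 3) → F) : oddForm 3 F v = v (.inl ()) ^ 2 + (v (.inr (.inl 0)) * v (.inr (.inr 0)) +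
    v (.inr (.inl 1)) * v (.inr (.inr 1)) + v (.inr (.inl 2)) * v (.inr (.inr 2))) := by
  rw [coe_oddForm, quadFormOdd, Fin.sum_univ_three]

theorem polar_eq (u v : Unit ⊕ (Fin 3 ⊕ Fin 3) → F) : polar (oddForm 3 F) u v = 2 * u (.inl ()) * v (.inl ()) +
    (u (.inr (.inl 0)) * v (.inr (.inr 0)) + v (.inr (.inl 0)) * u (.inr (.inr 0)) +
    (u (.inr (.inl 1)) * v (.inr (.inr 1)) + v (.inr (.inl 1)) * u (.inr (.inr 1))) +
    (u (.inr (.inl 2)) * v (.inr (.inr 2)) + v (.inr (.inl 2)) * u (.inr (.inr 2)))) := by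
  rw [polar, Q_eq, Q_eq, Q_eq]
  simp only [Pi.add_apply]
  ring

theorem ts_x0 : Pair.TS (oddForm 3 F) (x0 F) where
  u := by rw [Q_eq]; simp [x0]
  w := by rw [Q_eq]; simp [x0]
  uw := by rw [polar_eq]; simp [x0]
  u0 := by
    intro h
    have := congrFun h (.inr (.inl 0))
    simp [x0] at this
  ind := by
    intro c h
    have := congrFun h (.inr (.inl 1))
    simp [x0] at this

theorem two_ne_zero_three (hF : Fintype.card F = 3) : (2 : F) ≠ 0 := by
  obtain ⟨f, hf, hcard, hchar⟩ := H128.Char3.char_three (F := F) (by rw [hF])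
  intro h
  have h3 := CharP.cast_eq_zero F 3
  push_cast at h3
  have : (1 : F) = 0 := by linear_combination h3 - h
  exact one_ne_zero this

/-- **A long root element of `Ω₇(3)`.** -/
theorem exists_y (hF : Fintype.card F = 3) : ∃ y : Omega F ⇑(oddForm 3 F), orderOf y = 3 ∧
    Nat.card (centralizer ({y} : Set (Omega F ⇑(oddForm 3 F)))) = 2 ^ 5 * 3 ^ 9 := by
  have h2 := two_ne_zero_three hF
  have hQ := S0292.oddForm_nondegenerate h2 3
  let a : Unit ⊕ (Fin 3 ⊕ Fin 3) → F := Pi.single (.inl ()) 1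
  let b : Unit ⊕ (Fin 3 ⊕ Fin 3) → F := Pi.single (.inr (.inl 2)) 1 - Pi.single (.inr (.inr 2)) 1
  have ha : oddForm 3 F a = 1 := by rw [Q_eq]; simp [a]
  have hb : oddForm 3 F b = -1 := by rw [Q_eq]; simp [b, Pi.single_apply]
  obtain ⟨y, hy, hc⟩ := Pair.card_cent h2 hQ (by decide) (ts_x0 (F := F)) (a := a) (b := b)
    (by rw [ha]; exact one_ne_zero) (by rw [hb]; exact neg_ne_zero.2 one_ne_zero)
    (by rw [ha, hb, one_mul, FiniteField.isSquare_neg_one_iff, hF]; norm_num)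
    (by rw [polar_eq]; simp [a, x0]) (by rw [polar_eq]; simp [a, x0]) (by rw [polar_eq]; simp [b, x0])
    (by rw [polar_eq]; simp [b, x0])
  refine ⟨y, ?_, ?_⟩
  · rw [← orderOf_injective (Omega F ⇑(oddForm 3 F)).subtype Subtype.val_injective]
    change orderOf (y : isometryGroup F ⇑(oddForm 3 F)) = 3
    rw [hy]
    apply orderOf_eq_prime
    · rw [Pair.sI, pow_succ, pow_two, ClassicalGeometry.SiegelGen.siegelIso_mul,
        ClassicalGeometry.SiegelGen.siegelIso_mul]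
      have h3 : (1 + 1 + 1 : F) = 0 := by
        obtain ⟨f, hf, hcard, hchar⟩ := H128.Char3.char_three (F := F) (by rw [hF])
        have h3 := CharP.cast_eq_zero F 3
        push_cast at h3
        linear_combination h3
      rw [h3]
      apply Subtype.ext
      apply Units.ext
      exact ClassicalGeometry.SiegelGen.siegelMatrix_zero _ _ _
    · intro h1
      have h3 : Pair.sg (oddForm 3 F) (x0 F) = 1 := by
        rw [← Pair.coe_sI ts_x0, h1]
        rfl
      have h4 := Pair.sg_mulVec (Q := oddForm 3 F) (x0 F) (Pi.single (.inr (.inr 0)) 1)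
      rw [h3, Matrix.one_mulVec] at h4
      have h5 := congrFun (left_eq_add.1 h4) (.inr (.inl 1))
      rw [polar_eq, polar_eq] at h5
      simp [x0] at h5
  · simp only [Pair.card_TS_seven hF, ClassicalGeometry.PSL2Basic.card_SL2, hF] at hc
    have hZ : Nat.card (center (Omega F ⇑(oddForm 3 F))) = 1 :=
      LieClassical.OrthCenter.card_center_omega_of_odd h2 hQ (by decide) (by decide) (S0292.exists_singular (by norm_num))
    have h5 := S0292.result (F := F) hF (by decide) 3 le_rfl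
    rw [← coe_oddForm] at h5
    have h6 : Nat.card (Omega F ⇑(oddForm 3 F)) = Nat.card (POmega F ⇑(oddForm 3 F)) := by
      have := card_eq_card_quotient_mul_card_subgroup (center (Omega F ⇑(oddForm 3 F)))
      rw [hZ, mul_one] at this
      exact this
    rw [h6] at hc
    rw [Finset.prod_range_succ, Finset.prod_range_succ, Finset.prod_range_succ, Finset.prod_range_zero] at h5
    norm_num only [] at h5 hc ⊢
    omega

theorem om7_false (hF : Fintype.card F = 3) {z : POmega F ⇑(oddForm 3 F)} {k d m : ℕ} (h : Cand z k d m)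
    (hk : k = 9) (hd : d ∣ 2) : False := by
  have h2 := two_ne_zero_three hF
  have hQ := S0292.oddForm_nondegenerate h2 3
  have hZ : center (Omega F ⇑(oddForm 3 F)) = ⊥ :=
    LieClassical.OrthCenter.center_omega_eq_bot_of_odd h2 hQ (by decide) (by decide) (S0292.exists_singular (by norm_num))
  let e : POmega F ⇑(oddForm 3 F) ≃* Omega F ⇑(oddForm 3 F) :=
    (QuotientGroup.quotientMulEquivOfEq hZ).trans QuotientGroup.quotientBot
  obtain ⟨y, hy, hc⟩ := exists_y hF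
  have h' := congr h e
  have h3 := card_cent_eq h' hy (by rw [hc, hk]; exact Dvd.intro_left _ rfl)
  have h4 : 2 ^ 7 ∣ 2 * (2 ^ 5 * 3 ^ 9) := by
    rw [← hc, h3]
    exact ((pow_dvd_pow 2 h'.m7).trans h'.two).trans (Nat.mul_dvd_mul_right hd _)
  norm_num at h4

end

theorem oodd_three {F : Type} [Field F] [Fintype F] {m : ℕ} (hm : 3 ≤ m) (ho : Odd (Fintype.card F))
    (hF : 3 ∣ Fintype.card F) {z : POmega F (quadFormOdd m F)} {k d m' : ℕ} (h : Cand z k d m') : False := by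
  obtain ⟨f, hf, hcard, hchar⟩ := char_three hF
  have hc := S0292.result (F := F) rfl ho m hm
  have hq1 : 1 ≤ Fintype.card F := Fintype.card_pos
  have hr : ¬ 3 ∣ ∏ i ∈ Finset.range m, (Fintype.card F ^ (2 * (i + 1)) - 1) :=
    not_dvd_prod _ _ fun j _ => not_dvd_sub_one hF hq1 (by omega)
  have hb := val_eq h (by norm_num) hr hcard hc
  have hkl := h.kl
  have hku := h.ku
  have hm3 : m ≤ 3 := by
    by_contra hcon
    have h1 : 4 * 4 ≤ m ^ 2 := by nlinarith only [hcon]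
    nlinarith only [hf, hb, hku, h1]
  obtain rfl : m = 3 := by omega
  have hf1 : f = 1 := by omega
  have hk : k = 9 := by omega
  subst hf1
  have hF3 : Fintype.card F = 3 := by rw [hcard]; norm_num
  have : Fact (Nat.Prime 3) := ⟨Nat.prime_three⟩
  have hfin := H128.Cross3.finite_pomega (quadFormOdd 3 F)
  have hd : d ∣ 2 := by
    have h1 := d_dvd_out h
    obtain ⟨e⟩ := S2604.result (F := F) (p := 3) (f := 1) (m := 3) le_rfl hcard (by norm_num) le_rfl
    rw [Nat.card_congr e.toEquiv] at h1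
    have h3 : Nat.card (Multiplicative (ZMod 2 × ZMod 1)) = 2 := by
      change Nat.card (ZMod 2 × ZMod 1) = 2
      rw [Nat.card_prod, Nat.card_zmod, Nat.card_zmod]
    rwa [h3] at h1
  clear hc hr hb
  revert z
  rw [← coe_oddForm]
  intro z h
  exact om7_false hF3 h hk hd

end Cfsg.Agent.H341.T3
end

-- part: H341/T3Cross
section
/-!
# The rows S3337 and S3368: classical groups in cross characteristic (helper341)
-/

set_option autoImplicit false

namespace Cfsg.Agent.H341.T3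

open Cfsg Subgroup H349.T3 H128.Cross3 H128.Val3 H128.AbelianClassical H128.ClassicalAb H128.WeightsFix
  H341.ThreeList

variable {F : Type} [Field F] [Fintype F] {k d m' : ℕ}

theorem psl_cross {n : ℕ} (hn : 2 ≤ n) (hq : ¬ 3 ∣ Fintype.card F)
    {z : Matrix.ProjectiveSpecialLinearGroup (Fin n) F} (h : Cand z k d m')
    (h9 : n = 9 → Fintype.card F % 3 = 1 → False) : False := by
  have : Fact (Nat.Prime 3) := ⟨Nat.prime_three⟩
  have hfin : Finite (Matrix.SpecialLinearGroup (Fin n) F) := finite_sl n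
  have hq12 : Fintype.card F % 3 = 1 ∨ Fintype.card F % 3 = 2 := by omega
  rcases hq12 with hq12 | hq12
  · have hN := nine h (hasAb_psl (_root_.Cfsg.Agent.H128.Cross3.three_ne_zero' hq) n)
    have hn9 : n ≠ 9 := fun hn9 => h9 hn9 hq12
    have hv := four_le_vf (show 9 ≤ n by omega)
    apply n12 h
    by_cases h10 : n = 10
    · exact (pow_dvd_pow 3 (by omega)).trans (psl_val_one' hn hq12 (by omega))
    · exact (pow_dvd_pow 3 (by omega)).trans (psl_val_one hn hq12)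
  · have hN := nine h (hasAb_psl_half (by norm_num) (_root_.Cfsg.Agent.H128.Cross3.three_ne_zero' hq) (by omega) n)
    have hv := four_le_vf hN
    exact n12 h ((pow_dvd_pow 3 (by omega)).trans (psl_val_two hn hq12))

theorem psu_cross {n q : ℕ} (hF : Fintype.card F = q ^ 2) (hn : 2 ≤ n) (hq : ¬ 3 ∣ q) {z : PSU n F q}
    (h : Cand z k d m') (h9 : n = 9 → q % 3 = 2 → False) : False := by
  have : Fact (Nat.Prime 3) := ⟨Nat.prime_three⟩
  have hfin : Finite (Matrix.SpecialLinearGroup (Fin n) F) := finite_sl n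
  have hF3 : ¬ 3 ∣ Fintype.card F := by
    rw [hF]
    exact fun h => hq (Nat.prime_three.dvd_of_dvd_pow h)
  have hq12 : q % 3 = 1 ∨ q % 3 = 2 := by omega
  rcases hq12 with hq12 | hq12
  · have hN := nine h (hasAb_psu_half (by norm_num) (_root_.Cfsg.Agent.H128.Cross3.three_ne_zero' hF3) hF (by omega) n)
    have hv := four_le_vf hN
    exact n12 h ((pow_dvd_pow 3 (by omega)).trans (psu_val_one hF hn hq12))
  · have hN := nine h (hasAb_psu (_root_.Cfsg.Agent.H128.Cross3.three_ne_zero' hF3) n q)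
    have hn9 : n ≠ 9 := fun hn9 => h9 hn9 hq12
    have hv := four_le_vf (show 9 ≤ n by omega)
    apply n12 h
    by_cases h10 : n = 10
    · exact (pow_dvd_pow 3 (by omega)).trans (psu_val_two' hF hn hq12 (by omega))
    · exact (pow_dvd_pow 3 (by omega)).trans (psu_val_two hF hn hq12)

theorem psp_cross {m : ℕ} (hm : 1 ≤ m) (hq : ¬ 3 ∣ Fintype.card F) {z : PSp m F} (h : Cand z k d m') : False := by
  have : Fact (Nat.Prime 3) := ⟨Nat.prime_three⟩
  have hfin : Finite (Matrix.symplecticGroup (Fin m) F) :=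
    Finite.of_injective (fun x => (x : Matrix (Fin m ⊕ Fin m) (Fin m ⊕ Fin m) F)) Subtype.val_injective
  have hN := nine h (hasAb_psp (by norm_num) (_root_.Cfsg.Agent.H128.Cross3.three_ne_zero' hq) m)
  have hv := four_le_vf hN
  exact n12 h ((pow_dvd_pow 3 (by omega)).trans (psp_val hm hq))

theorem oodd_cross {m : ℕ} (hm : 3 ≤ m) (ho : Odd (Fintype.card F)) (hq : ¬ 3 ∣ Fintype.card F)
    {z : POmega F (quadFormOdd m F)} (h : Cand z k d m') : False := by
  have : Fact (Nat.Prime 3) := ⟨Nat.prime_three⟩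
  have hfin := finite_pomega (quadFormOdd m F)
  have hN := nine h (hasAb_oodd (by norm_num) (_root_.Cfsg.Agent.H128.Cross3.three_ne_zero' hq) ho m)
  have hv := four_le_vf hN
  exact n12 h ((pow_dvd_pow 3 (by omega)).trans (oodd_val hm ho hq))

/-! ### orthogonal groups in even dimension -/

/-- the number of vectors of norm one of the form of plus type is prime to `3` -/
theorem card_plus_one (hq : Fintype.card F % 3 = 2) :
    ¬ 3 ∣ Nat.card {v : Fin 9 ⊕ Fin 9 → F // quadFormPlus 9 F v = 1} := by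
  classical
  intro h
  have h1 := LieClassical.QuadCount.card_plus (F := F) 9 1
  rw [if_neg one_ne_zero, add_zero] at h1
  have h2 : (Fintype.card F * Nat.card {v : Fin 9 ⊕ Fin 9 → F // quadFormPlus 9 F v = 1} + Fintype.card F ^ 9) % 3 =
      (Fintype.card F ^ (2 * 9)) % 3 := by rw [h1]
  rw [Nat.add_mod, Nat.mul_mod, Nat.mod_eq_zero_of_dvd h, Nat.pow_mod, Nat.pow_mod (Fintype.card F) (2 * 9), hq] at h2
  norm_num at h2

theorem hasAb_oplus' (hq : Fintype.card F % 3 = 2) : HasAb 3 (POmega F (quadFormPlus 9 F)) 8 := by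
  have : Fact (Nat.Prime 3) := ⟨Nat.prime_three⟩
  let B : (Fin 9 ⊕ Fin 9 → F) →ₗ[F] (Fin 9 ⊕ Fin 9 → F) →ₗ[F] F :=
    LinearMap.mk₂ F (fun u v => ∑ i, (u (.inl i) * v (.inr i) + v (.inl i) * u (.inr i)))
      (fun u u' v => by
        rw [← Finset.sum_add_distrib]
        exact Finset.sum_congr rfl fun i _ => by simp only [Pi.add_apply]; ring)
      (fun c u v => by
        rw [smul_eq_mul, Finset.mul_sum]
        exact Finset.sum_congr rfl fun i _ => by simp only [Pi.smul_apply, smul_eq_mul]; ring)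
      (fun u v v' => by
        rw [← Finset.sum_add_distrib]
        exact Finset.sum_congr rfl fun i _ => by simp only [Pi.add_apply]; ring)
      (fun c u v => by
        rw [smul_eq_mul, Finset.mul_sum]
        exact Finset.sum_congr rfl fun i _ => by simp only [Pi.smul_apply, smul_eq_mul]; ring)
  have hBe : ∀ u v, B u v = ∑ i, (u (.inl i) * v (.inr i) + v (.inl i) * u (.inr i)) := fun u v => rfl
  refine hasAb_quad_fix (by norm_num) (_root_.Cfsg.Agent.H128.Cross3.three_ne_zero' (by omega)) (quadFormPlus 9 F) ?_ B ?_ ?_ (card_plus_one hq) ?_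
  · simp [quadFormPlus]
  · intro u v
    rw [hBe]
    simp only [quadFormPlus]
    rw [← Finset.sum_add_distrib, ← Finset.sum_add_distrib]
    exact Finset.sum_congr rfl fun i _ => by simp only [Pi.add_apply]; ring
  · intro w h
    funext j
    rcases j with j | j
    · have h1 := h (Pi.single (.inr j) 1)
      rw [hBe] at h1
      simpa [Pi.single_apply] using h1
    · have h1 := h (Pi.single (.inl j) 1)
      rw [hBe] at h1
      simpa [Pi.single_apply] using h1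
  · rw [Fintype.card_sum, Fintype.card_fin]

theorem vf_eight : vf 8 = 2 := by
  rw [vf]
  have h1 : Nat.factorial 8 = 3 ^ 2 * 4480 := by decide
  rw [h1]
  rw [Nat.factorization_mul (by norm_num) (by norm_num), Finsupp.add_apply, Nat.Prime.factorization_pow Nat.prime_three,
    Finsupp.single_eq_same, Nat.factorization_eq_zero_of_not_dvd (by norm_num)]

theorem oplus_cross {m : ℕ} (hm : 4 ≤ m) (hq : ¬ 3 ∣ Fintype.card F) {z : POmega F (quadFormPlus m F)}
    (h : Cand z k d m') : False := by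
  have : Fact (Nat.Prime 3) := ⟨Nat.prime_three⟩
  have hfin := finite_pomega (quadFormPlus m F)
  have hN := nine h (hasAb_oplus (by norm_num) (_root_.Cfsg.Agent.H128.Cross3.three_ne_zero' hq) m)
  by_cases h9 : m = 9
  · subst h9
    have hq12 : Fintype.card F % 3 = 1 ∨ Fintype.card F % 3 = 2 := by omega
    rcases hq12 with hq12 | hq12
    · apply n12 h
      refine of_mul' not_dvd_gcd_four (S0293.result (F := F) rfl 9 hm) ?_
      rw [mul_assoc]
      apply Dvd.dvd.mul_left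
      have h1 : 3 ^ 3 ∣ Fintype.card F ^ 9 - 1 := by
        have := nat_dvd (q := Fintype.card F) (by omega) (by omega) 2 1
        simpa only [_root_.Nat.reducePow, _root_.Nat.reduceAdd, _root_.mul_one] using this
      have h2 := prod_b' hq 8
      rw [vf_eight] at h2
      rw [show (3 : ℕ) ^ 12 = 3 ^ 3 * 3 ^ 9 by norm_num]
      exact mul_dvd_mul h1 ((pow_dvd_pow 3 (by norm_num)).trans h2)
    · have := nine h (hasAb_oplus' hq12)
      omega
  · have hv := four_le_vf (show 9 ≤ m - 1 by omega)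
    exact n12 h ((pow_dvd_pow 3 (by omega)).trans (oplus_val hm hq))

theorem ominus_cross {m : ℕ} (hm : 4 ≤ m) {a b : F}
    (hab : ∀ z₁ z₂ : F, z₁ ^ 2 + a * z₁ * z₂ + b * z₂ ^ 2 = 0 → z₁ = 0 ∧ z₂ = 0) (hq : ¬ 3 ∣ Fintype.card F)
    {z : POmega F (quadFormMinus (m - 1) F a b)} (h : Cand z k d m') : False := by
  have : Fact (Nat.Prime 3) := ⟨Nat.prime_three⟩
  have hfin := finite_pomega (quadFormMinus (m - 1) F a b)
  have hN := nine h (hasAb_ominus (by norm_num) (_root_.Cfsg.Agent.H128.Cross3.three_ne_zero' hq) (m - 1) a b hab)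
  by_cases h9 : m = 9
  · subst h9
    have hq12 : Fintype.card F % 3 = 1 ∨ Fintype.card F % 3 = 2 := by omega
    rcases hq12 with hq12 | hq12
    · have := nine h (hasAb_ominus' (by norm_num) (_root_.Cfsg.Agent.H128.Cross3.three_ne_zero' hq) 8 a b hab (by
        intro h1
        have h2 : (Fintype.card F ^ (8 + 1) + 1) % 3 = 0 := Nat.mod_eq_zero_of_dvd h1
        rw [Nat.add_mod, Nat.pow_mod, hq12] at h2
        norm_num at h2))
      omega
    · apply n12 h
      refine of_mul' not_dvd_gcd_four (S0294.result (F := F) rfl 9 hm a b hab) ?_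
      rw [mul_assoc]
      apply Dvd.dvd.mul_left
      have h1 : 3 ^ 3 ∣ Fintype.card F ^ 9 + 1 := by
        have := nat_dvd_neg (q := Fintype.card F) hq12 2 1
        rw [if_neg (by decide)] at this
        simpa only [_root_.Nat.reducePow, _root_.Nat.reduceAdd, _root_.mul_one] using this
      have h2 := prod_b' hq 8
      rw [vf_eight] at h2
      rw [show (3 : ℕ) ^ 12 = 3 ^ 3 * 3 ^ 9 by norm_num]
      exact mul_dvd_mul h1 ((pow_dvd_pow 3 (by norm_num)).trans h2)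
  · have hv := four_le_vf (show 9 ≤ m - 1 by omega)
    exact n12 h ((pow_dvd_pow 3 (by omega)).trans (ominus_val hm hab hq))

end Cfsg.Agent.H341.T3
end

-- part: H341/T3Alt
section
/-!
# The rows S3337 and S3368: alternating groups (helper341)
-/

set_option autoImplicit false

namespace Cfsg.Agent.H341.T3

open Cfsg Subgroup H349.T3

/-- the centralizer of a three-cycle in the alternating group -/
theorem card_cent_three {n : ℕ} (hn : 5 ≤ n) : ∃ y : alternatingGroup (Fin n), orderOf y = 3 ∧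
    3 * (n - 3).factorial ∣ 2 * Nat.card (centralizer ({y} : Set (alternatingGroup (Fin n)))) := by
  have : Nontrivial (Fin n) := Fin.nontrivial_iff_two_le.2 (by omega)
  let a : Fin n := ⟨0, by omega⟩
  let b : Fin n := ⟨1, by omega⟩
  let c : Fin n := ⟨2, by omega⟩
  have hg : (Equiv.swap a b * Equiv.swap a c).IsThreeCycle :=
    Equiv.Perm.isThreeCycle_swap_mul_swap_same (by simp [a, b]) (by simp [a, c]) (by simp [b, c])
  set g := Equiv.swap a b * Equiv.swap a c with hgd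
  have hmem : g ∈ alternatingGroup (Fin n) := by
    rw [Equiv.Perm.mem_alternatingGroup]
    exact hg.sign
  refine ⟨⟨g, hmem⟩, ?_, ?_⟩
  · rw [Subgroup.orderOf_mk]
    exact hg.orderOf
  · have h1 : Nat.card (centralizer ({g} : Set (Equiv.Perm (Fin n)))) = 3 * (n - 3).factorial := by
      rw [Equiv.Perm.nat_card_centralizer, hg.cycleType]
      simp only [mul_comm, _root_.Fintype.card_fin, _root_.Multiset.sum_singleton, _root_.Multiset.prod_singleton, _root_.Multiset.toFinset_singleton, _root_.Multiset.nodup_singleton, _root_.Finset.prod_singleton, _root_.Multiset.mem_singleton, _root_.Multiset.count_eq_one_of_mem, _root_.Nat.factorial_one, _root_.one_mul]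
    rw [← h1]
    -- restrict the sign to the centralizer
    let s : centralizer ({g} : Set (Equiv.Perm (Fin n))) →* ℤˣ :=
      Equiv.Perm.sign.comp (centralizer ({g} : Set (Equiv.Perm (Fin n)))).subtype
    have h2 := card_mul_index s.ker
    rw [index_ker] at h2
    have h3 : Nat.card s.range ∣ 2 := by
      have := card_subgroup_dvd_card s.range
      rwa [Nat.card_eq_fintype_card (α := ℤˣ), Fintype.card_units_int] at this
    have h4 : Nat.card s.ker = Nat.card (centralizer ({(⟨g, hmem⟩ : alternatingGroup (Fin n))} :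
        Set (alternatingGroup (Fin n)))) := by
      refine Nat.card_congr ⟨fun x => ⟨⟨x.1.1, ?_⟩, ?_⟩, fun x => ⟨⟨x.1.1, ?_⟩, ?_⟩, fun x => rfl, fun x => rfl⟩
      · rw [Equiv.Perm.mem_alternatingGroup]
        exact x.2
      · rw [mem_centralizer_singleton_iff]
        exact Subtype.ext (mem_centralizer_singleton_iff.1 x.1.2)
      · rw [mem_centralizer_singleton_iff]
        exact congrArg Subtype.val (mem_centralizer_singleton_iff.1 x.2)
      · exact Equiv.Perm.mem_alternatingGroup.1 x.1.2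
    rw [← h2, h4, mul_comm]
    exact Nat.mul_dvd_mul_right h3 _

theorem alt_false {n k d m : ℕ} (hn : 5 ≤ n) {z : alternatingGroup (Fin n)} (h : Cand z k d m) : False := by
  have : Nontrivial (Fin n) := Fin.nontrivial_iff_two_le.2 (by omega)
  have hc : 2 * Nat.card (alternatingGroup (Fin n)) = n.factorial := by
    rw [two_mul_nat_card_alternatingGroup, Nat.card_perm, Nat.card_eq_fintype_card, Fintype.card_fin]
  have hcop : ∀ k c : ℕ, 3 ^ k ∣ 2 * c → 3 ^ k ∣ c := fun k c hk =>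
    (Nat.Coprime.pow_left k (by norm_num : Nat.Coprime 3 2)).dvd_of_dvd_mul_left hk
  have h1 : 21 ≤ n := by
    by_contra hcon
    have h2 : 3 ^ 9 ∣ Nat.factorial 20 :=
      (((pow_dvd_pow 3 h.kl).trans h.dvd).mul_left 2).trans (hc ▸ Nat.factorial_dvd_factorial (by omega))
    revert h2
    decide
  have h2 : n ≤ 26 := by
    by_contra hcon
    apply n12 h
    apply hcop
    rw [hc]
    refine dvd_trans ?_ (Nat.factorial_dvd_factorial (show 27 ≤ n by omega))
    decide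
  obtain ⟨y, hy, hd⟩ := card_cent_three hn
  refine false_of h hy (r := 5) (by norm_num) (by norm_num) (by norm_num) ?_ ?_
  · apply hcop
    refine dvd_trans ?_ hd
    have h3 : 3 ^ k ∣ n.factorial := by
      rw [← hc]
      exact h.dvd.mul_left 2
    -- cancel the factor prime to three
    have key : ∀ c : ℕ, Nat.Coprime 3 c → n.factorial = c * (3 * (n - 3).factorial) → 3 ^ k ∣ 3 * (n - 3).factorial := by
      intro c hc1 hc2
      rw [hc2] at h3
      exact (hc1.pow_left k).dvd_of_dvd_mul_left h3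
    clear hd h3 hc y hy h
    interval_cases n
    · exact key (7 * 20 * 19) (by decide) (by decide)
    · exact key (22 * 7 * 20) (by decide) (by decide)
    · exact key (23 * 22 * 7) (by decide) (by decide)
    · exact key (8 * 23 * 22) (by decide) (by decide)
    · exact key (25 * 8 * 23) (by decide) (by decide)
    · exact key (26 * 25 * 8) (by decide) (by decide)
  · have h5 : 5 ∣ 2 * Nat.card (centralizer ({y} : Set (alternatingGroup (Fin n)))) := by
      refine dvd_trans (Dvd.dvd.mul_left ?_ 3) hd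
      exact (Nat.Prime.dvd_factorial (by norm_num)).2 (by omega)
    exact (by norm_num : Nat.Coprime 5 2).dvd_of_dvd_mul_left h5

end Cfsg.Agent.H341.T3
end

-- part: H341/T3All
section
/-!
# The rows S3337 and S3368: the alternating and the classical groups (helper341)

`classical_false`: `E = F*(G)` is not an alternating or a classical group, given that it is not `PSL₉(q)`,
`q ≡ 1 mod 3`, or `PSU₉(q)`, `q ≡ 2 mod 3`. The exceptional groups in characteristic three: `T3Exc`.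
-/

set_option autoImplicit false

namespace Cfsg.Agent.H341.T3

open Cfsg Subgroup H349.T3

variable {E : Type*} [Group E] {z : E} {k d m : ℕ}

theorem not_alt (h : Cand z k d m) : ¬ IsAlternating E := by
  rintro ⟨n, hn, ⟨e⟩⟩
  exact alt_false hn (congr h e)

theorem not_psl (h : Cand z k d m)
    (hL9 : ∀ (F : Type) [Field F] [Fintype F], Fintype.card F % 3 = 1 →
      Nonempty (E ≃* Matrix.ProjectiveSpecialLinearGroup (Fin 9) F) → False) : ¬ IsPSL E := by
  rintro ⟨F, _, _, n, hn, -, ⟨e⟩⟩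
  by_cases h3 : 3 ∣ Fintype.card F
  · exact psl_three hn h3 (congr h e)
  · refine psl_cross hn h3 (congr h e) ?_
    rintro rfl h1
    exact hL9 F h1 ⟨e⟩

theorem not_psp (h : Cand z k d m) : ¬ IsPSp E := by
  rintro ⟨F, _, _, n, hn, -, ⟨e⟩⟩
  by_cases h3 : 3 ∣ Fintype.card F
  · exact psp_three hn h3 (congr h e)
  · exact psp_cross (by omega) h3 (congr h e)

theorem not_psu (h : Cand z k d m)
    (hU9 : ∀ (F : Type) [Field F] [Fintype F] (q : ℕ), Fintype.card F = q ^ 2 → q % 3 = 2 →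
      Nonempty (E ≃* PSU 9 F q) → False) : ¬ IsPSU E := by
  rintro ⟨F, _, _, n, q, hF, hn, -, ⟨e⟩⟩
  by_cases h3 : 3 ∣ q
  · exact psu_three hF hn h3 (congr h e)
  · refine psu_cross hF (by omega) h3 (congr h e) ?_
    rintro rfl h1
    exact hU9 F q hF h1 ⟨e⟩

theorem not_oodd (h : Cand z k d m) : ¬ IsPOmegaOdd E := by
  rintro ⟨F, _, _, n, hn, ho, ⟨e⟩⟩
  by_cases h3 : 3 ∣ Fintype.card F
  · exact oodd_three hn ho h3 (congr h e)
  · exact oodd_cross hn ho h3 (congr h e)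

theorem not_oplus (h : Cand z k d m) : ¬ IsPOmegaPlus E := by
  rintro ⟨F, _, _, n, hn, ⟨e⟩⟩
  by_cases h3 : 3 ∣ Fintype.card F
  · exact oplus_three hn h3 (congr h e)
  · exact oplus_cross hn h3 (congr h e)

theorem not_ominus (h : Cand z k d m) : ¬ IsPOmegaMinus E := by
  rintro ⟨F, _, _, n, a, b, hn, hab, ⟨e⟩⟩
  by_cases h3 : 3 ∣ Fintype.card F
  · exact ominus_three hn hab h3 (congr h e)
  · exact ominus_cross hn hab h3 (congr h e)

end Cfsg.Agent.H341.T3
end

private theorem dce_a6a3c31d6580 : _root_.True := by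
  try have : _root_.True := by simp only [_root_.Cfsg.Agent.H341.T3.Pair.tr.eq_1]
  try have : _root_.True := by simp only [_root_.Cfsg.Agent.H341.T3.Pair.sg.eq_1]
  try have : _root_.True := by simp only [_root_.Cfsg.Agent.H341.T3.x0.eq_1]
  try have : _root_.True := by simp only [_root_.Cfsg.Agent.H341.T3.Pair.sI.eq_1]
  exact _root_.True.intro
end

section
prune_inst 0xfcecfb2df88bdfffff7e7fa6fccffdf0e8ffffe6dff9cbffe8ebff8fdf4b23cde5fb8d8fecd8fcceb6c23c90f87b13f9ffceffeb6bdc7ffffd5ff45ffbff9fedfebd0c71d7bc3e1ffc6ffffbf077ae7f000000000000000000000000000041000200000000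

-- part: H341/WeakDef
section
set_option linter.all false

/-!
# A frame of type `3^{1+6}` with three blocks

The common local data of the 3-centralizers of types `²E₆(2)` and `Fi₂₂` (rows S3337 and S3368).
-/

set_option autoImplicit false

namespace Cfsg.Agent.H341.Weak

/-- `Q` is extraspecial `3^{1+6}` of exponent 3, the central product of the three blocks `U i`
of order 27; the centralizer of `Z = Z(Q)` permutes the blocks, and `e i` are commuting
involutions, `e i` inverting `U i / Z` and centralizing the other blocks. -/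
structure Frame {G : Type*} [Group G] (Z Q : Subgroup G) (U : Fin 3 → Subgroup G)
    (e : Fin 3 → G) : Prop where
  cardZ : Nat.card Z = 3
  cardQ : Nat.card Q = 3 ^ 7
  cardU : ∀ i, Nat.card (U i) = 27
  QleC : Q ≤ Subgroup.centralizer (Z : Set G)
  conjQ : ∀ c ∈ Subgroup.centralizer (Z : Set G), ∀ x ∈ Q, c * x * c⁻¹ ∈ Q
  CQ : Subgroup.centralizer (Q : Set G) ≤ Q
  exp : ∀ x ∈ Q, x ^ 3 = 1
  ZleU : ∀ i, Z ≤ U i
  UleQ : ∀ i, U i ≤ Q
  comm : ∀ i j, i ≠ j → ∀ x ∈ U i, ∀ y ∈ U j, x * y = y * x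
  comZ : ∀ x ∈ Q, ∀ y ∈ Q, x * y * x⁻¹ * y⁻¹ ∈ Z
  cenZ : ∀ x ∈ Q, (∀ y ∈ Q, x * y = y * x) → x ∈ Z
  sup : Q = U 0 ⊔ U 1 ⊔ U 2
  perm : ∀ c ∈ Subgroup.centralizer (Z : Set G), ∃ s : Equiv.Perm (Fin 3),
    ∀ i, ∀ x ∈ U i, c * x * c⁻¹ ∈ U (s i)
  eC : ∀ i, e i ∈ Subgroup.centralizer (Z : Set G)
  e2 : ∀ i, e i * e i = 1
  ee : ∀ i j, e i * e j = e j * e i
  eU : ∀ i j, j ≠ i → ∀ x ∈ U j, e i * x * (e i)⁻¹ = x
  einv : ∀ i, ∀ x ∈ U i, e i * x * (e i)⁻¹ * x ∈ Z

end Cfsg.Agent.H341.Weak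
end

-- part: H349/T3/Local
section
prune_inst 0x11000000202000000000010300000d14000010000430000104003020204400000020600000021100000000000000060010000000000000000000000000400000002100080080000000000000000000000000000000000000000000000000000000000000
set_option linter.all false
open scoped Cfsg.Agent.FastGrp

-- part: H349/T3/SLRep
section
/-!
# The action on a block of order 27 (helper349)
-/

set_option autoImplicit false

namespace Cfsg.Agent.H349.T3

open Module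

universe u

/-- the representation of `K` on `U/Z` -/
theorem exists_rep' {G : Type u} [Group G] {Z U K : Subgroup G} (hZU : Z ≤ U)
    (hKZ : ∀ k ∈ K, ∀ z ∈ Z, k * z = z * k) (hUZ : ∀ u ∈ U, ∀ z ∈ Z, u * z = z * u)
    (hKU : ∀ k ∈ K, ∀ u ∈ U, k * u * k⁻¹ ∈ U)
    (hcom : ∀ x ∈ U, ∀ y ∈ U, x * y * x⁻¹ * y⁻¹ ∈ Z) (hcube : ∀ x ∈ U, x ^ 3 ∈ Z) :
    ∃ (V : Type u) (_ : AddCommGroup V) (_ : Module (ZMod 3) V) (τ : K →* Module.End (ZMod 3) V)
      (m : ↥U → V), Function.Surjective m ∧ (∀ x y, m (x * y) = m x + m y) ∧ (∀ x, m x = 0 ↔ (x : G) ∈ Z) ∧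
      (∀ (c : K) (x y : ↥U), (y : G) = c * x * (c : G)⁻¹ → τ c (m x) = m y) ∧ Nat.card V * Nat.card Z = Nat.card U := by
  classical
  let N : Subgroup ↥U := Z.subgroupOf U
  have hNn : N.Normal := by
    refine ⟨fun n hn g => ?_⟩
    rw [Subgroup.mem_subgroupOf] at hn ⊢
    have h1 : ((g * n * g⁻¹ : ↥U) : G) = g * n * (g : G)⁻¹ := rfl
    rw [h1, hUZ g g.2 n hn, mul_inv_cancel_right]
    exact hn
  have hcomm : ∀ a b : ↥U ⧸ N, a * b = b * a := by
    intro a b
    obtain ⟨x, rfl⟩ := QuotientGroup.mk'_surjective N a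
    obtain ⟨y, rfl⟩ := QuotientGroup.mk'_surjective N b
    rw [← map_mul, ← map_mul]
    have h1 : (x * y) * (y * x)⁻¹ ∈ N := by
      rw [Subgroup.mem_subgroupOf]
      have h2 := hcom x x.2 y y.2
      have h3 : (((x * y) * (y * x)⁻¹ : ↥U) : G) = (x : G) * y * (x : G)⁻¹ * (y : G)⁻¹ := by
        push_cast
        group
      rw [h3]
      exact h2
    have h4 : QuotientGroup.mk' N ((x * y) * (y * x)⁻¹) = 1 := (QuotientGroup.eq_one_iff _).2 h1
    rw [map_mul, map_inv] at h4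
    exact mul_inv_eq_one.1 h4
  let _ : CommGroup (↥U ⧸ N) := { (inferInstance : Group (↥U ⧸ N)) with mul_comm := hcomm }
  have h3 : ∀ v : Additive (↥U ⧸ N), 3 • v = 0 := by
    intro v
    obtain ⟨x, hx⟩ := QuotientGroup.mk'_surjective N v.toMul
    have h1 : v.toMul ^ 3 = 1 := by
      rw [← hx, ← map_pow]
      refine (QuotientGroup.eq_one_iff _).2 ?_
      rw [Subgroup.mem_subgroupOf]
      have := hcube x x.2
      simpa using this
    exact h1
  let _ : Module (ZMod 3) (Additive (↥U ⧸ N)) := AddCommGroup.zmodModule h3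
  -- conjugation
  let cj : ↥K → (↥U →* ↥U) := fun c =>
    { toFun := fun x => ⟨c * x * (c : G)⁻¹, hKU c c.2 x x.2⟩
      map_one' := Subtype.ext (by simp)
      map_mul' := fun x y => Subtype.ext (by
        change (c : G) * (x * y) * (c : G)⁻¹ = (c * x * (c : G)⁻¹) * (c * y * (c : G)⁻¹)
        group) }
  have hκ : ∀ c : ↥K, N ≤ N.comap (cj c) := by
    intro c x hx
    rw [Subgroup.mem_comap, Subgroup.mem_subgroupOf]
    rw [Subgroup.mem_subgroupOf] at hx
    change (c : G) * x * (c : G)⁻¹ ∈ Z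
    rw [hKZ c c.2 x hx, mul_inv_cancel_right]
    exact hx
  let κ : ↥K → (↥U ⧸ N →* ↥U ⧸ N) := fun c => QuotientGroup.map N N (cj c) (hκ c)
  let τ : ↥K →* Module.End (ZMod 3) (Additive (↥U ⧸ N)) :=
    { toFun := fun c => AddMonoidHom.toZModLinearMap 3 (MonoidHom.toAdditive (κ c))
      map_one' := by
        apply LinearMap.ext
        intro v
        obtain ⟨x, hx⟩ := QuotientGroup.mk'_surjective N v.toMul
        have h1 : v = Additive.ofMul (QuotientGroup.mk' N x) := by rw [hx]; rfl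
        rw [h1]
        change Additive.ofMul (QuotientGroup.mk' N (cj 1 x)) = _
        have h2 : cj 1 x = x := Subtype.ext (by
          change ((1 : ↥K) : G) * x * ((1 : ↥K) : G)⁻¹ = x
          simp)
        rw [h2]
        rfl
      map_mul' := by
        intro c d
        apply LinearMap.ext
        intro v
        obtain ⟨x, hx⟩ := QuotientGroup.mk'_surjective N v.toMul
        have h1 : v = Additive.ofMul (QuotientGroup.mk' N x) := by rw [hx]; rfl
        rw [h1]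
        change Additive.ofMul (QuotientGroup.mk' N (cj (c * d) x)) = Additive.ofMul (QuotientGroup.mk' N (cj c (cj d x)))
        have h2 : cj (c * d) x = cj c (cj d x) := Subtype.ext (by
          change ((c * d : ↥K) : G) * x * ((c * d : ↥K) : G)⁻¹ = c * (d * x * (d : G)⁻¹) * (c : G)⁻¹
          push_cast
          group)
        rw [h2] }
  refine ⟨Additive (↥U ⧸ N), inferInstance, inferInstance, τ,
    fun x => Additive.ofMul (QuotientGroup.mk' N x), ?_, ?_, ?_, ?_, ?_⟩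
  · intro v
    obtain ⟨x, hx⟩ := QuotientGroup.mk'_surjective N v.toMul
    exact ⟨x, hx⟩
  · intro x y
    rfl
  · intro x
    have h1 : Additive.ofMul (QuotientGroup.mk' N x) = 0 ↔ QuotientGroup.mk' N x = 1 := Iff.rfl
    rw [h1]
    exact QuotientGroup.eq_one_iff x
  · intro c x y hy
    change Additive.ofMul (QuotientGroup.mk' N (cj c x)) = _
    have h1 : cj c x = y := Subtype.ext hy.symm
    rw [h1]
  · have h2 := Subgroup.card_eq_card_quotient_mul_card_subgroup N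
    have h4 : Nat.card ↥N = Nat.card Z := Nat.card_congr (Subgroup.subgroupOfEquivOfLe hZU).toEquiv
    rw [h4] at h2
    exact h2.symm

/-- commutators in a group with central commutators -/
theorem comm_pow {G : Type*} [Group G] {Z : Subgroup G} {x y : G} (hxZ : ∀ z ∈ Z, x * z = z * x)
    (hyZ : ∀ z ∈ Z, y * z = z * y) {w : G} (hw : w ∈ Z) (hxy : x * y = w * (y * x)) (a b : ℕ) :
    x ^ a * y ^ b = w ^ (a * b) * (y ^ b * x ^ a) := by
  have hwx : Commute w x := (hxZ w hw).symm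
  have hwy : Commute w y := (hyZ w hw).symm
  have h1 : ∀ b : ℕ, x * y ^ b = w ^ b * (y ^ b * x) := by
    intro b
    induction b with
    | zero => simp
    | succ b ih =>
      calc x * y ^ (b + 1) = (x * y ^ b) * y := by rw [pow_succ, mul_assoc]
        _ = w ^ b * y ^ b * (x * y) := by rw [ih]; group
        _ = w ^ b * y ^ b * (w * (y * x)) := by rw [hxy]
        _ = w ^ b * (y ^ b * w) * y * x := by group
        _ = w ^ b * (w * y ^ b) * y * x := by rw [(hwy.pow_right b).eq]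
        _ = w ^ (b + 1) * (y ^ (b + 1) * x) := by rw [pow_succ, pow_succ]; group
  induction a with
  | zero => simp
  | succ a ih =>
    calc x ^ (a + 1) * y ^ b = x ^ a * (x * y ^ b) := by rw [pow_succ, mul_assoc]
      _ = x ^ a * (w ^ b * (y ^ b * x)) := by rw [h1]
      _ = (x ^ a * w ^ b) * (y ^ b * x) := by group
      _ = (w ^ b * x ^ a) * (y ^ b * x) := by rw [((hwx.pow_left b).pow_right a).eq]
      _ = w ^ b * (x ^ a * y ^ b) * x := by group
      _ = w ^ b * (w ^ (a * b) * (y ^ b * x ^ a)) * x := by rw [ih]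
      _ = (w ^ b * w ^ (a * b)) * (y ^ b * (x ^ a * x)) := by group
      _ = w ^ ((a + 1) * b) * (y ^ b * x ^ (a + 1)) := by
        rw [← pow_add, ← pow_succ]
        congr 2
        ring

/-- **The action on a block**: a homomorphism to `SL₂(3)`. -/
theorem exists_sl {G : Type u} [Group G] {Z U K : Subgroup G} (hZ3 : Nat.card Z = 3) (hU27 : Nat.card U = 27)
    (hZU : Z ≤ U) (hKZ : ∀ k ∈ K, ∀ z ∈ Z, k * z = z * k) (hUZ : ∀ u ∈ U, ∀ z ∈ Z, u * z = z * u)
    (hKU : ∀ k ∈ K, ∀ u ∈ U, k * u * k⁻¹ ∈ U) (hcom : ∀ x ∈ U, ∀ y ∈ U, x * y * x⁻¹ * y⁻¹ ∈ Z)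
    (hcube : ∀ x ∈ U, x ^ 3 ∈ Z) (hcen : ∀ x ∈ U, (∀ y ∈ U, x * y = y * x) → x ∈ Z) :
    ∃ σ : K →* Matrix.SpecialLinearGroup (Fin 2) (ZMod 3),
      (∀ k : K, σ k = 1 ↔ ∀ u ∈ U, (k : G) * u * (k : G)⁻¹ * u⁻¹ ∈ Z) ∧
      (∀ k : K, σ k = -1 ↔ ∀ u ∈ U, (k : G) * u * (k : G)⁻¹ * u ∈ Z) := by
  classical
  have hp3 : Fact (Nat.Prime 3) := ⟨Nat.prime_three⟩
  obtain ⟨V, _, _, τ, m, hms, hmm, hm0, hmc, hcard⟩ := exists_rep' hZU hKZ hUZ hKU hcom hcube
  have hc9 : Nat.card V = 9 := by rw [hZ3, hU27] at hcard; omega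
  have hVfin : Finite V := Nat.finite_of_card_ne_zero (by rw [hc9]; norm_num)
  have hfd : FiniteDimensional (ZMod 3) V := Module.Finite.of_finite
  have hV : finrank (ZMod 3) V = 2 := by
    have h2 : Nat.card V = Nat.card (ZMod 3) ^ finrank (ZMod 3) V := Module.natCard_eq_pow_finrank
    rw [hc9, Nat.card_zmod] at h2
    have h3 : (3 : ℕ) ^ 2 = 3 ^ finrank (ZMod 3) V := by rw [← h2]; norm_num
    exact (Nat.pow_right_injective (by norm_num : 2 ≤ 3) h3).symm
  have hmi : ∀ x, m x⁻¹ = -m x := by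
    intro x
    have h1 : m (x⁻¹ * x) = m x⁻¹ + m x := hmm _ _
    rw [inv_mul_cancel, (hm0 1).2 (by simp)] at h1
    exact eq_neg_of_add_eq_zero_left h1.symm
  have hsmul : ∀ (s : ZMod 3) (x : ↥U), s • m x = m (x ^ s.val) := by
    intro s x
    have h3 : ∀ n : ℕ, (n : ZMod 3) • m x = m (x ^ n) := by
      intro n
      induction n with
      | zero => rw [Nat.cast_zero, zero_smul, pow_zero]; exact ((hm0 _).2 (by simp)).symm
      | succ n ih => rw [Nat.cast_succ, add_smul, one_smul, ih, ← hmm, ← pow_succ]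
    have h4 := h3 s.val
    rwa [ZMod.natCast_zmod_val] at h4
  -- a noncommuting pair
  obtain ⟨x, hxU, hxZ⟩ : ∃ x ∈ U, x ∉ Z := by
    by_contra hcon
    push Not at hcon
    have h1 : U = Z := le_antisymm hcon hZU
    rw [h1, hZ3] at hU27
    omega
  obtain ⟨y, hyU, hxy⟩ : ∃ y ∈ U, x * y ≠ y * x := by
    by_contra hcon
    push Not at hcon
    exact hxZ (hcen x hxU hcon)
  obtain ⟨w, hw⟩ : ∃ w, w = x * y * x⁻¹ * y⁻¹ := ⟨_, rfl⟩
  have hwZ : w ∈ Z := hw ▸ hcom x hxU y hyU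
  have hxyw : x * y = w * (y * x) := by rw [hw]; group
  have hw1 : w ≠ 1 := by
    rintro rfl
    exact hxy (by rw [hxyw, one_mul])
  have hwo : orderOf w = 3 := by
    have h1 : orderOf (⟨w, hwZ⟩ : ↥Z) ∣ Nat.card Z := orderOf_dvd_natCard _
    rw [hZ3, Subgroup.orderOf_mk] at h1
    rcases (Nat.dvd_prime Nat.prime_three).1 h1 with h2 | h2
    · exact absurd (orderOf_eq_one_iff.1 h2) hw1
    · exact h2
  have hwpow : ∀ a b : ℕ, w ^ a = w ^ b → (a : ZMod 3) = b := by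
    intro a b h
    rw [pow_eq_pow_iff_modEq, hwo] at h
    exact (ZMod.natCast_eq_natCast_iff a b 3).2 h
  have hcp := comm_pow (hUZ x hxU) (hUZ y hyU) hwZ hxyw
  let X : ↥U := ⟨x, hxU⟩
  let Y : ↥U := ⟨y, hyU⟩
  have hli : LinearIndependent (ZMod 3) ![m X, m Y] := by
    rw [LinearIndependent.pair_iff]
    intro s t hst
    rw [hsmul, hsmul, ← hmm, hm0] at hst
    have h1 : x ^ s.val * y ^ t.val ∈ Z := hst
    constructor
    · -- commutes with `y`
      have h2 := hUZ y hyU _ h1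
      have h3 : x ^ s.val * y = y * x ^ s.val := by
        have h4 : (x ^ s.val * y) * y ^ t.val = (y * x ^ s.val) * y ^ t.val := by
          calc (x ^ s.val * y) * y ^ t.val = (x ^ s.val * y ^ t.val) * y := by
                rw [mul_assoc, ← pow_succ', pow_succ, ← mul_assoc]
            _ = y * (x ^ s.val * y ^ t.val) := h2.symm
            _ = _ := by group
        exact mul_right_cancel h4
      have h4 := hcp s.val 1
      rw [pow_one, h3, mul_one] at h4
      have h5 : w ^ s.val = w ^ 0 := by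
        rw [pow_zero]
        have h6 : 1 * (y * x ^ s.val) = w ^ s.val * (y * x ^ s.val) := by rw [one_mul]; exact h4
        exact (mul_right_cancel h6).symm
      have h6 := hwpow _ _ h5
      rw [ZMod.natCast_zmod_val, Nat.cast_zero] at h6
      exact h6
    · have h2 := hUZ x hxU _ h1
      have h3 : x * y ^ t.val = y ^ t.val * x := by
        have h4 : x ^ s.val * (x * y ^ t.val) = x ^ s.val * (y ^ t.val * x) := by
          calc x ^ s.val * (x * y ^ t.val) = x * (x ^ s.val * y ^ t.val) := by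
                rw [← mul_assoc, ← pow_succ, pow_succ', mul_assoc]
            _ = (x ^ s.val * y ^ t.val) * x := h2
            _ = _ := by group
        exact mul_left_cancel h4
      have h4 := hcp 1 t.val
      rw [pow_one, h3, one_mul] at h4
      have h5 : w ^ t.val = w ^ 0 := by
        rw [pow_zero]
        have h6 : 1 * (y ^ t.val * x) = w ^ t.val * (y ^ t.val * x) := by rw [one_mul]; exact h4
        exact (mul_right_cancel h6).symm
      have h6 := hwpow _ _ h5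
      rw [ZMod.natCast_zmod_val, Nat.cast_zero] at h6
      exact h6
  let b : Basis (Fin 2) (ZMod 3) V := basisOfLinearIndependentOfCardEqFinrank hli (by rw [hV]; rfl)
  have hb0 : b 0 = m X := by
    have := congrFun (coe_basisOfLinearIndependentOfCardEqFinrank hli (by rw [hV]; rfl)) 0
    exact this
  have hb1 : b 1 = m Y := by
    have := congrFun (coe_basisOfLinearIndependentOfCardEqFinrank hli (by rw [hV]; rfl)) 1
    exact this
  let M : K →* Matrix (Fin 2) (Fin 2) (ZMod 3) := ((LinearMap.toMatrixAlgEquiv b : _ →* _)).comp τ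
  have hM : ∀ c, M c = LinearMap.toMatrix b b (τ c) := fun c => rfl
  have hcol : ∀ (c : K) (j : Fin 2), τ c (b j) = M c 0 j • b 0 + M c 1 j • b 1 := by
    intro c j
    have h1 := b.sum_repr (τ c (b j))
    rw [Fin.sum_univ_two] at h1
    rw [← h1, hM, LinearMap.toMatrix_apply, LinearMap.toMatrix_apply]
  have hdet : ∀ c, (M c).det = 1 := by
    intro c
    have e0 := hcol c 0
    have e1 := hcol c 1
    rw [hb0, hb1, hmc c X ⟨c * x * (c : G)⁻¹, hKU c c.2 x hxU⟩ rfl, hsmul, hsmul, ← hmm] at e0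
    rw [hb0, hb1, hmc c Y ⟨c * y * (c : G)⁻¹, hKU c c.2 y hyU⟩ rfl, hsmul, hsmul, ← hmm] at e1
    rw [← sub_eq_zero, sub_eq_add_neg, ← hmi, ← hmm, hm0] at e0 e1
    obtain ⟨ζ, hζ⟩ : ∃ ζ, ζ = c * x * (c : G)⁻¹ * (x ^ (M c 0 0).val * y ^ (M c 1 0).val)⁻¹ := ⟨_, rfl⟩
    obtain ⟨ξ, hξ⟩ : ∃ ξ, ξ = c * y * (c : G)⁻¹ * (x ^ (M c 0 1).val * y ^ (M c 1 1).val)⁻¹ := ⟨_, rfl⟩
    have hζZ : ζ ∈ Z := hζ ▸ e0
    have hξZ : ξ ∈ Z := hξ ▸ e1
    have f0 : c * x * (c : G)⁻¹ = ζ * (x ^ (M c 0 0).val * y ^ (M c 1 0).val) := by rw [hζ]; group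
    have f1 : c * y * (c : G)⁻¹ = ξ * (x ^ (M c 0 1).val * y ^ (M c 1 1).val) := by rw [hξ]; group
    have f2 : (c * x * (c : G)⁻¹) * (c * y * (c : G)⁻¹) = w * ((c * y * (c : G)⁻¹) * (c * x * (c : G)⁻¹)) := by
      calc (c * x * (c : G)⁻¹) * (c * y * (c : G)⁻¹) = c * (x * y) * (c : G)⁻¹ := by group
        _ = c * (w * (y * x)) * (c : G)⁻¹ := by rw [hxyw]
        _ = (c * w) * (y * x) * (c : G)⁻¹ := by group
        _ = (w * c) * (y * x) * (c : G)⁻¹ := by rw [hKZ c c.2 w hwZ]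
        _ = _ := by group
    rw [f0, f1] at f2
    obtain ⟨α, hα⟩ : ∃ α, α = (M c 0 0).val := ⟨_, rfl⟩
    obtain ⟨β, hβ⟩ : ∃ β, β = (M c 1 0).val := ⟨_, rfl⟩
    obtain ⟨γ, hγ⟩ : ∃ γ, γ = (M c 0 1).val := ⟨_, rfl⟩
    obtain ⟨δ, hδ⟩ : ∃ δ, δ = (M c 1 1).val := ⟨_, rfl⟩
    rw [← hα, ← hβ, ← hγ, ← hδ] at f2
    -- pull out the central factors
    have hA : x ^ α * y ^ β ∈ U := U.mul_mem (U.pow_mem hxU _) (U.pow_mem hyU _)
    have hB : x ^ γ * y ^ δ ∈ U := U.mul_mem (U.pow_mem hxU _) (U.pow_mem hyU _)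
    have f3 : (x ^ α * y ^ β) * (x ^ γ * y ^ δ) = w * ((x ^ γ * y ^ δ) * (x ^ α * y ^ β)) := by
      have h1 : ζ * ξ * ((x ^ α * y ^ β) * (x ^ γ * y ^ δ)) =
          ζ * ξ * (w * ((x ^ γ * y ^ δ) * (x ^ α * y ^ β))) := by
        calc ζ * ξ * ((x ^ α * y ^ β) * (x ^ γ * y ^ δ))
            = ζ * (ξ * (x ^ α * y ^ β)) * (x ^ γ * y ^ δ) := by group
          _ = ζ * ((x ^ α * y ^ β) * ξ) * (x ^ γ * y ^ δ) := by rw [hUZ _ hA ξ hξZ]
          _ = (ζ * (x ^ α * y ^ β)) * (ξ * (x ^ γ * y ^ δ)) := by group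
          _ = w * (ξ * (x ^ γ * y ^ δ) * (ζ * (x ^ α * y ^ β))) := f2
          _ = (w * ξ) * ((x ^ γ * y ^ δ) * ζ) * (x ^ α * y ^ β) := by group
          _ = (w * ξ) * (ζ * (x ^ γ * y ^ δ)) * (x ^ α * y ^ β) := by rw [hUZ _ hB ζ hζZ]
          _ = w * (ξ * ζ) * ((x ^ γ * y ^ δ) * (x ^ α * y ^ β)) := by group
          _ = w * (ζ * ξ) * ((x ^ γ * y ^ δ) * (x ^ α * y ^ β)) := by
            rw [hUZ ξ (hZU hξZ) ζ hζZ]
          _ = (ζ * w) * ξ * ((x ^ γ * y ^ δ) * (x ^ α * y ^ β)) := by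
            rw [hUZ ζ (hZU hζZ) w hwZ]; group
          _ = ζ * (w * ξ) * ((x ^ γ * y ^ δ) * (x ^ α * y ^ β)) := by group
          _ = ζ * (ξ * w) * ((x ^ γ * y ^ δ) * (x ^ α * y ^ β)) := by
            rw [hUZ w (hZU hwZ) ξ hξZ]
          _ = _ := by group
      exact mul_left_cancel h1
    have g1 : x ^ γ * y ^ β = w ^ (γ * β) * (y ^ β * x ^ γ) := hcp γ β
    have g2 : x ^ α * y ^ δ = w ^ (α * δ) * (y ^ δ * x ^ α) := hcp α δ
    have hcw : ∀ (n : ℕ) (u : G), u ∈ U → u * w ^ n = w ^ n * u := fun n u hu => hUZ u hu _ (Z.pow_mem hwZ n)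
    have f4 : w ^ (γ * β) * ((x ^ α * y ^ β) * (x ^ γ * y ^ δ)) = x ^ (α + γ) * y ^ (β + δ) := by
      calc w ^ (γ * β) * ((x ^ α * y ^ β) * (x ^ γ * y ^ δ))
          = (w ^ (γ * β) * x ^ α) * (y ^ β * x ^ γ) * y ^ δ := by group
        _ = (x ^ α * w ^ (γ * β)) * (y ^ β * x ^ γ) * y ^ δ := by rw [hcw _ _ (U.pow_mem hxU _)]
        _ = x ^ α * (w ^ (γ * β) * (y ^ β * x ^ γ)) * y ^ δ := by group
        _ = x ^ α * (x ^ γ * y ^ β) * y ^ δ := by rw [← g1]
        _ = (x ^ α * x ^ γ) * (y ^ β * y ^ δ) := by group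
        _ = _ := by rw [← pow_add, ← pow_add]
    have f5 : w ^ (α * δ) * ((x ^ γ * y ^ δ) * (x ^ α * y ^ β)) = x ^ (α + γ) * y ^ (β + δ) := by
      calc w ^ (α * δ) * ((x ^ γ * y ^ δ) * (x ^ α * y ^ β))
          = (w ^ (α * δ) * x ^ γ) * (y ^ δ * x ^ α) * y ^ β := by group
        _ = (x ^ γ * w ^ (α * δ)) * (y ^ δ * x ^ α) * y ^ β := by rw [hcw _ _ (U.pow_mem hxU _)]
        _ = x ^ γ * (w ^ (α * δ) * (y ^ δ * x ^ α)) * y ^ β := by group
        _ = x ^ γ * (x ^ α * y ^ δ) * y ^ β := by rw [← g2]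
        _ = (x ^ γ * x ^ α) * (y ^ δ * y ^ β) := by group
        _ = _ := by rw [← pow_add, ← pow_add, add_comm γ α, add_comm δ β]
    have f6 : w ^ (γ * β + 1) = w ^ (α * δ) := by
      have h1 : w ^ (γ * β) * (w * ((x ^ γ * y ^ δ) * (x ^ α * y ^ β))) =
          w ^ (α * δ) * ((x ^ γ * y ^ δ) * (x ^ α * y ^ β)) := by
        rw [← f3, f4, f5]
      rw [← mul_assoc, ← pow_succ] at h1
      exact mul_right_cancel h1
    have f7 := hwpow _ _ f6
    rw [Matrix.det_fin_two]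
    push_cast at f7
    rw [hα, hβ, hγ, hδ, ZMod.natCast_zmod_val, ZMod.natCast_zmod_val, ZMod.natCast_zmod_val, ZMod.natCast_zmod_val] at f7
    rw [← f7]
    ring
  let σ : K →* Matrix.SpecialLinearGroup (Fin 2) (ZMod 3) :=
    { toFun := fun c => ⟨M c, hdet c⟩
      map_one' := Subtype.ext (map_one M)
      map_mul' := fun c d => Subtype.ext (map_mul M c d) }
  have hτM : ∀ c T, M c = LinearMap.toMatrix b b T → τ c = T := by
    intro c T h
    rw [hM] at h
    exact (LinearMap.toMatrix b b).injective h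
  refine ⟨σ, fun k => ?_, fun k => ?_⟩
  · have h1 : σ k = 1 ↔ τ k = 1 := by
      constructor
      · intro h
        apply hτM
        have h2 : M k = 1 := congrArg Subtype.val h
        rw [h2, LinearMap.toMatrix_one]
      · intro h
        apply Subtype.ext
        change M k = 1
        rw [hM, h, LinearMap.toMatrix_one]
    rw [h1]
    constructor
    · intro h u hu
      have h2 := hmc k ⟨u, hu⟩ ⟨k * u * (k : G)⁻¹, hKU k k.2 u hu⟩ rfl
      rw [h] at h2
      have h3 : m (⟨k * u * (k : G)⁻¹, hKU k k.2 u hu⟩ * (⟨u, hu⟩ : ↥U)⁻¹) = 0 := by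
        rw [hmm, hmi, ← h2]
        exact add_neg_cancel _
      exact (hm0 _).1 h3
    · intro h
      apply LinearMap.ext
      intro v
      obtain ⟨u, rfl⟩ := hms v
      have h2 := hmc k u ⟨k * u * (k : G)⁻¹, hKU k k.2 u u.2⟩ rfl
      have h3 : m (⟨k * u * (k : G)⁻¹, hKU k k.2 u u.2⟩ * u⁻¹) = 0 := (hm0 _).2 (h u u.2)
      rw [hmm, hmi, add_neg_eq_zero] at h3
      rw [h2, h3]
      rfl
  · have h1 : σ k = -1 ↔ τ k = -1 := by
      constructor
      · intro h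
        apply hτM
        have h2 : M k = -1 := congrArg Subtype.val h
        rw [h2, map_neg, LinearMap.toMatrix_one]
      · intro h
        apply Subtype.ext
        change M k = -1
        rw [hM, h, map_neg, LinearMap.toMatrix_one]
    rw [h1]
    constructor
    · intro h u hu
      have h2 := hmc k ⟨u, hu⟩ ⟨k * u * (k : G)⁻¹, hKU k k.2 u hu⟩ rfl
      rw [h] at h2
      have h3 : m (⟨k * u * (k : G)⁻¹, hKU k k.2 u hu⟩ * (⟨u, hu⟩ : ↥U)) = 0 := by
        rw [hmm, ← h2]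
        exact neg_add_cancel _
      exact (hm0 _).1 h3
    · intro h
      apply LinearMap.ext
      intro v
      obtain ⟨u, rfl⟩ := hms v
      have h2 := hmc k u ⟨k * u * (k : G)⁻¹, hKU k k.2 u u.2⟩ rfl
      have h3 : m (⟨k * u * (k : G)⁻¹, hKU k k.2 u u.2⟩ * u) = 0 := (hm0 _).2 (h u u.2)
      rw [hmm] at h3
      rw [h2, eq_neg_of_add_eq_zero_left h3]
      rfl

end Cfsg.Agent.H349.T3
end

-- part: H349/T3/Base
section
/-!
# Building a frame (helper349)
-/

set_option autoImplicit false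

namespace Cfsg.Agent.H349.T3

open Cfsg.Agent.H341.Weak

/-- `Q` is a normal extraspecial subgroup of order `3^7` with central centre `Z`, containing its centralizer. -/
structure Base {C : Type*} [Group C] (Z Q : Subgroup C) : Prop where
  cardZ : Nat.card Z = 3
  cardQ : Nat.card Q = 3 ^ 7
  nQ : ∀ c x : C, x ∈ Q → c * x * c⁻¹ ∈ Q
  CQ : Subgroup.centralizer (Q : Set C) ≤ Q
  ZQ : Z ≤ Q
  Zc : ∀ z ∈ Z, ∀ c : C, z * c = c * z
  comZ : ∀ x ∈ Q, ∀ y ∈ Q, x * y * x⁻¹ * y⁻¹ ∈ Z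
  cenZ : ∀ x ∈ Q, (∀ y ∈ Q, x * y = y * x) → x ∈ Z

namespace Base

variable {C : Type*} [Group C] {Z Q : Subgroup C} (B : Base Z Q)
include B

theorem cubeZ {z : C} (hz : z ∈ Z) : z ^ 3 = 1 := by
  have h1 := pow_card_eq_one' (x := (⟨z, hz⟩ : Z))
  rw [B.cardZ] at h1
  exact congrArg Subtype.val h1

theorem eq_one_of_sq {z : C} (hz : z ∈ Z) (h : z * z = 1) : z = 1 := by
  have h1 := B.cubeZ hz
  rw [pow_succ, pow_two, h, one_mul] at h1
  exact h1

/-- central elements pull out of conjugations -/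
theorem conjZ {z : C} (hz : z ∈ Z) (c : C) : c * z * c⁻¹ = z := by
  rw [← B.Zc z hz c, mul_inv_cancel_right]

theorem conj_mem {z : C} (hz : z ∈ Z) (c : C) : c * z * c⁻¹ ∈ Z := by rw [B.conjZ hz]; exact hz

/-- cubes of elements of `Q` are central -/
theorem cube {x : C} (hx : x ∈ Q) : x ^ 3 ∈ Z := by
  refine B.cenZ _ (Q.pow_mem hx 3) fun y hy => ?_
  obtain ⟨w, hw⟩ : ∃ w, w = x * y * x⁻¹ * y⁻¹ := ⟨_, rfl⟩
  have hwZ : w ∈ Z := hw ▸ B.comZ x hx y hy
  have h1 : x * y = w * y * x := by rw [hw]; group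
  have h2 := B.Zc w hwZ
  have h3 := B.cubeZ hwZ
  have h4 : x * (x * y) = w * (w * (y * (x * x))) := by
    rw [h1]
    calc x * (w * y * x) = (x * w) * y * x := by group
      _ = (w * x) * y * x := by rw [h2 x]
      _ = w * (x * y) * x := by group
      _ = w * (w * y * x) * x := by rw [h1]
      _ = _ := by group
  calc x ^ 3 * y = x * (x * (x * y)) := by simp only [pow_succ, pow_zero, one_mul, mul_assoc]
    _ = x * (w * (w * (y * (x * x)))) := by rw [h4]
    _ = (x * w) * (w * (y * (x * x))) := by group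
    _ = (w * x) * (w * (y * (x * x))) := by rw [h2 x]
    _ = w * ((x * w) * (y * (x * x))) := by group
    _ = w * ((w * x) * (y * (x * x))) := by rw [h2 x]
    _ = w * w * (x * y) * (x * x) := by group
    _ = w * w * (w * y * x) * (x * x) := by rw [h1]
    _ = w ^ 3 * (y * x ^ 3) := by simp only [pow_succ, pow_zero, one_mul, mul_assoc]
    _ = y * x ^ 3 := by rw [h3, one_mul]

/-- an element of `Q` whose square is central is central -/
theorem mem_of_sq {x : C} (hx : x ∈ Q) (h : x * x ∈ Z) : x ∈ Z := by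
  have h1 : x = (x * x)⁻¹ * x ^ 3 := by group
  rw [h1]
  exact Z.mul_mem (Z.inv_mem h) (B.cube hx)

/-- an involution acting trivially on `Q/Z` is trivial (in `C(Q)`) -/
theorem comm_of_triv {r x : C} (hr : r * r = 1) (hx : r * x * r⁻¹ * x⁻¹ ∈ Z) : r * x = x * r := by
  obtain ⟨w, hw⟩ : ∃ w, w = r * x * r⁻¹ * x⁻¹ := ⟨_, rfl⟩
  rw [← hw] at hx
  have h1 : r * x = w * x * r := by rw [hw]; group
  have h2 : r * (r * x) = w * w * (x * (r * r)) := by
    calc r * (r * x) = r * (w * x * r) := by rw [h1]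
      _ = (r * w) * x * r := by group
      _ = (w * r) * x * r := by rw [B.Zc w hx r]
      _ = w * (r * x) * r := by group
      _ = w * (w * x * r) * r := by rw [h1]
      _ = _ := by group
  rw [← mul_assoc, hr, one_mul, mul_one] at h2
  have h3 : w * w = 1 := by
    have h4 : 1 * x = w * w * x := by rw [one_mul]; exact h2
    exact (mul_right_cancel h4).symm
  have h5 := B.eq_one_of_sq hx h3
  rw [h1, h5, one_mul]

/-- **The frame**. -/
theorem frame {U : Fin 3 → Subgroup C} {r : Fin 3 → C} (r2 : ∀ i, r i * r i = 1)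
    (rr : ∀ i j, r i * r j = r j * r i) (cardU : ∀ i, Nat.card (U i) = 27) (ZleU : ∀ i, Z ≤ U i)
    (UleQ : ∀ i, U i ≤ Q) (sup : Q = U 0 ⊔ U 1 ⊔ U 2)
    (rinv : ∀ i, ∀ x ∈ U i, r i * x * (r i)⁻¹ * x ∈ Z)
    (rtriv : ∀ i j, j ≠ i → ∀ x ∈ U j, r i * x * (r i)⁻¹ * x⁻¹ ∈ Z)
    (sgn : ∀ (c : C) (i j : Fin 3), (∀ u ∈ U j, (c * r i * c⁻¹) * u * (c * r i * c⁻¹)⁻¹ * u⁻¹ ∈ Z) ∨
      (∀ u ∈ U j, (c * r i * c⁻¹) * u * (c * r i * c⁻¹)⁻¹ * u ∈ Z)) : Frame Z Q U r := by
  have hcent : ∀ c : C, c ∈ Subgroup.centralizer (Z : Set C) := by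
    intro c
    rw [Subgroup.mem_centralizer_iff]
    intro z hz
    exact B.Zc z hz c
  have rcomm : ∀ i j, j ≠ i → ∀ x ∈ U j, r i * x = x * r i := fun i j hij x hx =>
    B.comm_of_triv (r2 i) (rtriv i j hij x hx)
  -- orthogonality
  have comm : ∀ i j, i ≠ j → ∀ x ∈ U i, ∀ y ∈ U j, x * y = y * x := by
    intro i j hij x hx y hy
    obtain ⟨w, hw⟩ : ∃ w, w = x * y * x⁻¹ * y⁻¹ := ⟨_, rfl⟩
    have hwZ : w ∈ Z := hw ▸ B.comZ x (UleQ i hx) y (UleQ j hy)
    obtain ⟨v, hv⟩ : ∃ v, v = r i * x * (r i)⁻¹ * x := ⟨_, rfl⟩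
    have hvZ : v ∈ Z := hv ▸ rinv i x hx
    have h1 : r i * x * (r i)⁻¹ = v * x⁻¹ := by rw [hv]; group
    have h2 : r i * y * (r i)⁻¹ = y := by rw [rcomm i j hij.symm y hy]; group
    have h3 : x * y = w * y * x := by rw [hw]; group
    -- conjugate the relation
    have h4 : (v * x⁻¹) * y = w * y * (v * x⁻¹) := by
      calc (v * x⁻¹) * y = (r i * x * (r i)⁻¹) * (r i * y * (r i)⁻¹) := by rw [h1, h2]
        _ = r i * (x * y) * (r i)⁻¹ := by group
        _ = r i * (w * y * x) * (r i)⁻¹ := by rw [h3]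
        _ = (r i * w * (r i)⁻¹) * (r i * y * (r i)⁻¹) * (r i * x * (r i)⁻¹) := by group
        _ = w * y * (v * x⁻¹) := by rw [B.conjZ hwZ, h1, h2]
    have h5 : x⁻¹ * y = w * y * x⁻¹ := by
      have h6 : v * (x⁻¹ * y) = v * (w * y * x⁻¹) := by
        rw [← mul_assoc, h4]
        calc w * y * (v * x⁻¹) = w * (y * v) * x⁻¹ := by group
          _ = w * (v * y) * x⁻¹ := by rw [B.Zc v hvZ y]
          _ = (w * v) * y * x⁻¹ := by group
          _ = (v * w) * y * x⁻¹ := by rw [B.Zc v hvZ w]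
          _ = _ := by group
      exact mul_left_cancel h6
    have h7 : y = w * w * y := by
      calc y = x * (x⁻¹ * y) := by group
        _ = x * (w * y * x⁻¹) := by rw [h5]
        _ = (x * w) * y * x⁻¹ := by group
        _ = (w * x) * y * x⁻¹ := by rw [B.Zc w hwZ x]
        _ = w * (x * y) * x⁻¹ := by group
        _ = w * (w * y * x) * x⁻¹ := by rw [h3]
        _ = _ := by group
    have h8 : w * w = 1 := by
      have h9 : 1 * y = w * w * y := by rw [one_mul]; exact h7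
      exact (mul_right_cancel h9).symm
    rw [h3, B.eq_one_of_sq hwZ h8, one_mul]
  -- decomposition
  have dec : ∀ x ∈ Q, ∃ a ∈ U 0, ∃ b ∈ U 1, ∃ c ∈ U 2, x = a * b * c := by
    let W : Subgroup C :=
      { carrier := {x | ∃ a ∈ U 0, ∃ b ∈ U 1, ∃ c ∈ U 2, x = a * b * c}
        mul_mem' := by
          rintro _ _ ⟨a, ha, b, hb, c, hc, rfl⟩ ⟨a', ha', b', hb', c', hc', rfl⟩
          refine ⟨a * a', (U 0).mul_mem ha ha', b * b', (U 1).mul_mem hb hb', c * c', (U 2).mul_mem hc hc', ?_⟩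
          have h1 := comm 0 1 (by decide) a' ha' b hb
          have h2 := comm 0 2 (by decide) a' ha' c hc
          have h3 := comm 1 2 (by decide) b' hb' c hc
          calc a * b * c * (a' * b' * c') = a * b * (c * a') * b' * c' := by group
            _ = a * (b * a') * c * b' * c' := by rw [← h2]; group
            _ = a * (a' * b) * c * b' * c' := by rw [h1]
            _ = a * a' * b * (c * b') * c' := by group
            _ = a * a' * b * (b' * c) * c' := by rw [h3]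
            _ = a * a' * (b * b') * (c * c') := by group
        one_mem' := ⟨1, (U 0).one_mem, 1, (U 1).one_mem, 1, (U 2).one_mem, by simp⟩
        inv_mem' := by
          rintro _ ⟨a, ha, b, hb, c, hc, rfl⟩
          refine ⟨a⁻¹, (U 0).inv_mem ha, b⁻¹, (U 1).inv_mem hb, c⁻¹, (U 2).inv_mem hc, ?_⟩
          have h1 := comm 0 1 (by decide) a⁻¹ ((U 0).inv_mem ha) b⁻¹ ((U 1).inv_mem hb)
          have h2 := comm 0 2 (by decide) a⁻¹ ((U 0).inv_mem ha) c⁻¹ ((U 2).inv_mem hc)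
          have h3 := comm 1 2 (by decide) b⁻¹ ((U 1).inv_mem hb) c⁻¹ ((U 2).inv_mem hc)
          calc (a * b * c)⁻¹ = c⁻¹ * b⁻¹ * a⁻¹ := by group
            _ = b⁻¹ * (c⁻¹ * a⁻¹) := by rw [← h3]; group
            _ = b⁻¹ * (a⁻¹ * c⁻¹) := by rw [h2]
            _ = (b⁻¹ * a⁻¹) * c⁻¹ := by group
            _ = a⁻¹ * b⁻¹ * c⁻¹ := by rw [← h1] }
    have h1 : Q ≤ W := by
      rw [sup]
      refine sup_le (sup_le ?_ ?_) ?_
      · intro x hx; exact ⟨x, hx, 1, (U 1).one_mem, 1, (U 2).one_mem, by simp⟩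
      · intro x hx; exact ⟨1, (U 0).one_mem, x, hx, 1, (U 2).one_mem, by simp⟩
      · intro x hx; exact ⟨1, (U 0).one_mem, 1, (U 1).one_mem, x, hx, by simp⟩
    exact fun x hx => h1 hx
  -- exponent three
  have expU : ∀ i, ∀ x ∈ U i, x ^ 3 = 1 := by
    intro i x hx
    obtain ⟨v, hv⟩ : ∃ v, v = r i * x * (r i)⁻¹ * x := ⟨_, rfl⟩
    have hvZ : v ∈ Z := hv ▸ rinv i x hx
    have h1 : r i * x * (r i)⁻¹ = v * x⁻¹ := by rw [hv]; group
    have h3 : (v * x⁻¹) ^ 3 = x ^ 3 := by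
      rw [← h1, conj_pow, B.conjZ (B.cube (UleQ i hx))]
    have h4 : Commute v x⁻¹ := B.Zc v hvZ x⁻¹
    rw [h4.mul_pow, B.cubeZ hvZ, one_mul, inv_pow] at h3
    refine B.eq_one_of_sq (B.cube (UleQ i hx)) ?_
    nth_rw 1 [← h3]
    exact inv_mul_cancel _
  have exp : ∀ x ∈ Q, x ^ 3 = 1 := by
    intro x hx
    obtain ⟨a, ha, b, hb, c, hc, rfl⟩ := dec x hx
    have h1 : Commute a b := comm 0 1 (by decide) a ha b hb
    have h2 : Commute a c := comm 0 2 (by decide) a ha c hc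
    have h3 : Commute b c := comm 1 2 (by decide) b hb c hc
    rw [(h2.mul_left h3).mul_pow, h1.mul_pow, expU 0 a ha, expU 1 b hb, expU 2 c hc]
    simp
  -- intersection of two blocks
  have hinf : ∀ i j, i ≠ j → ∀ x ∈ U i, x ∈ U j → x ∈ Z := by
    intro i j hij x hxi hxj
    refine B.mem_of_sq (UleQ i hxi) ?_
    have h1 := rinv i x hxi
    rwa [rcomm i j hij.symm x hxj, mul_inv_cancel_right] at h1
  -- the block is the eigenspace
  have hmem : ∀ i, ∀ x ∈ Q, r i * x * (r i)⁻¹ * x ∈ Z → x ∈ U i := by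
    intro i x hx hxi
    have key : ∀ (i j k : Fin 3), j ≠ i → k ≠ i → j ≠ k → ∀ a ∈ U i, ∀ b ∈ U j, ∀ c ∈ U k,
        r i * (a * b * c) * (r i)⁻¹ * (a * b * c) ∈ Z → a * b * c ∈ U i := by
      intro i j k hji hki hjk a ha b hb c hc h
      obtain ⟨v, hv⟩ : ∃ v, v = r i * a * (r i)⁻¹ * a := ⟨_, rfl⟩
      have hvZ : v ∈ Z := hv ▸ rinv i a ha
      have h1 : r i * a * (r i)⁻¹ = v * a⁻¹ := by rw [hv]; group
      have h2 : r i * b * (r i)⁻¹ = b := by rw [rcomm i j hji b hb]; group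
      have h3 : r i * c * (r i)⁻¹ = c := by rw [rcomm i k hki c hc]; group
      have hab := comm i j hji.symm a ha b hb
      have hac := comm i k hki.symm a ha c hc
      have hbc := comm j k hjk b hb c hc
      have h4 : r i * (a * b * c) * (r i)⁻¹ * (a * b * c) = v * ((b * b) * (c * c)) := by
        calc r i * (a * b * c) * (r i)⁻¹ * (a * b * c)
            = (r i * a * (r i)⁻¹) * (r i * b * (r i)⁻¹) * (r i * c * (r i)⁻¹) * (a * b * c) := by group
          _ = (v * a⁻¹) * b * c * (a * b * c) := by rw [h1, h2, h3]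
          _ = v * a⁻¹ * b * (c * a) * b * c := by group
          _ = v * a⁻¹ * b * (a * c) * b * c := by rw [hac]
          _ = v * a⁻¹ * (b * a) * c * b * c := by group
          _ = v * a⁻¹ * (a * b) * c * b * c := by rw [hab]
          _ = v * b * (c * b) * c := by group
          _ = v * b * (b * c) * c := by rw [hbc]
          _ = _ := by group
      rw [h4] at h
      have h5 : (b * b) * (c * c) ∈ Z := (Z.mul_mem_cancel_left hvZ).1 h
      have h6 : b * b ∈ U k := by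
        have h7 : b * b = ((b * b) * (c * c)) * (c * c)⁻¹ := by group
        rw [h7]
        exact (U k).mul_mem (ZleU k h5) ((U k).inv_mem ((U k).mul_mem hc hc))
      have h7 : b * b ∈ Z := hinf j k hjk _ ((U j).mul_mem hb hb) h6
      have h8 : b ∈ Z := B.mem_of_sq (UleQ j hb) h7
      have h9 : c * c ∈ Z := (Z.mul_mem_cancel_left h7).1 h5
      have h10 : c ∈ Z := B.mem_of_sq (UleQ k hc) h9
      exact (U i).mul_mem ((U i).mul_mem ha (ZleU i h8)) (ZleU i h10)
    obtain ⟨a, ha, b, hb, c, hc, rfl⟩ := dec x hx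
    have hab := comm 0 1 (by decide) a ha b hb
    have hac := comm 0 2 (by decide) a ha c hc
    have hbc := comm 1 2 (by decide) b hb c hc
    have hi : i = 0 ∨ i = 1 ∨ i = 2 := by
      have h0 : ∀ i : Fin 3, i = 0 ∨ i = 1 ∨ i = 2 := by decide
      exact h0 i
    rcases hi with rfl | rfl | rfl
    · exact key 0 1 2 (by decide) (by decide) (by decide) a ha b hb c hc hxi
    · have h1 : a * b * c = b * a * c := by rw [hab]
      rw [h1] at hxi ⊢
      exact key 1 0 2 (by decide) (by decide) (by decide) b hb a ha c hc hxi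
    · have h1 : a * b * c = c * a * b := by
        calc a * b * c = a * (b * c) := by group
          _ = a * (c * b) := by rw [hbc]
          _ = (a * c) * b := by group
          _ = _ := by rw [hac]
      rw [h1] at hxi ⊢
      exact key 2 0 1 (by decide) (by decide) (by decide) c hc a ha b hb hxi
  have hex : ∀ i, ∃ x ∈ U i, x ∉ Z := by
    intro i
    by_contra hcon
    push Not at hcon
    have h1 : U i = Z := le_antisymm hcon (ZleU i)
    have h2 := cardU i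
    rw [h1, B.cardZ] at h2
    omega
  refine ⟨B.cardZ, B.cardQ, cardU, fun q _ => hcent q, fun c _ x hx => B.nQ c x hx, B.CQ, exp, ZleU, UleQ, comm, B.comZ,
    B.cenZ, sup, ?_, fun i => hcent _, r2, rr, ?_, rinv⟩
  · intro c _
    have hfin : ∀ i, Finite ↥(U i) := fun i => Nat.finite_of_card_ne_zero (by rw [cardU i]; norm_num)
    -- the image of each block
    have h1 : ∀ i, ∃ j, ∀ x, x ∈ U i ↔ c * x * c⁻¹ ∈ U j := by
      intro i
      by_cases hcon : ∃ j, ∀ u ∈ U j, (c * r i * c⁻¹) * u * (c * r i * c⁻¹)⁻¹ * u ∈ Z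
      · obtain ⟨j, hj⟩ := hcon
        refine ⟨j, ?_⟩
        have h2 : ∀ u ∈ U j, c⁻¹ * u * c ∈ U i := by
          intro u hu
          have h3 : c⁻¹ * u * c ∈ Q := by
            have := B.nQ c⁻¹ u (UleQ j hu)
            rwa [inv_inv] at this
          refine hmem i _ h3 ?_
          have h4 : r i * (c⁻¹ * u * c) * (r i)⁻¹ * (c⁻¹ * u * c) =
              c⁻¹ * ((c * r i * c⁻¹) * u * (c * r i * c⁻¹)⁻¹ * u) * c⁻¹⁻¹ := by group
          rw [h4]
          exact B.conj_mem (hj u hu) _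
        -- cardinalities
        let f : ↥(U j) → ↥(U i) := fun u => ⟨c⁻¹ * u * c, h2 u u.2⟩
        have hf : Function.Injective f := by
          intro u v huv
          have h5 : c⁻¹ * (u : C) * c = c⁻¹ * v * c := congrArg Subtype.val huv
          exact Subtype.ext (mul_left_cancel (mul_right_cancel h5))
        have := hfin i
        have := hfin j
        have hb : Function.Bijective f := by
          have := Fintype.ofFinite ↥(U i)
          have := Fintype.ofFinite ↥(U j)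
          rw [Fintype.bijective_iff_injective_and_card]
          refine ⟨hf, ?_⟩
          rw [← Nat.card_eq_fintype_card, ← Nat.card_eq_fintype_card, cardU, cardU]
        intro x
        constructor
        · intro hx
          obtain ⟨u, hu⟩ := hb.2 ⟨x, hx⟩
          have h5 : c⁻¹ * (u : C) * c = x := congrArg Subtype.val hu
          rw [← h5]
          have h6 : c * (c⁻¹ * (u : C) * c) * c⁻¹ = u := by group
          rw [h6]
          exact u.2
        · intro hx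
          have h5 := h2 _ hx
          have h6 : c⁻¹ * (c * x * c⁻¹) * c = x := by group
          rwa [h6] at h5
      · exfalso
        push Not at hcon
        have h2 : ∀ j, ∀ u ∈ U j, (c * r i * c⁻¹) * u = u * (c * r i * c⁻¹) := by
          intro j u hu
          refine B.comm_of_triv ?_ ?_
          · have h3 : c * r i * c⁻¹ * (c * r i * c⁻¹) = c * (r i * r i) * c⁻¹ := by group
            rw [h3, r2 i]
            group
          · rcases sgn c i j with h3 | h3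
            · exact h3 u hu
            · obtain ⟨v, hv, hv'⟩ := hcon j
              exact absurd (h3 v hv) hv'
        obtain ⟨y, hy, hyZ⟩ := hex i
        -- c r c⁻¹ centralizes Q
        have h3 : ∀ x ∈ Q, (c * r i * c⁻¹) * x = x * (c * r i * c⁻¹) := by
          intro x hx
          obtain ⟨a, ha, b, hb, d, hd, rfl⟩ := dec x hx
          have e0 : Commute (c * r i * c⁻¹) a := h2 0 a ha
          have e1 : Commute (c * r i * c⁻¹) b := h2 1 b hb
          have e2 : Commute (c * r i * c⁻¹) d := h2 2 d hd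
          exact ((e0.mul_right e1).mul_right e2).eq
        have h4 := h3 _ (B.nQ c y (UleQ i hy))
        have h5 : r i * y = y * r i := by
          have h6 : c * (r i * y) * c⁻¹ = c * (y * r i) * c⁻¹ := by
            calc c * (r i * y) * c⁻¹ = (c * r i * c⁻¹) * (c * y * c⁻¹) := by group
              _ = (c * y * c⁻¹) * (c * r i * c⁻¹) := h4
              _ = _ := by group
          exact mul_left_cancel (mul_right_cancel h6)
        apply hyZ
        refine B.mem_of_sq (UleQ i hy) ?_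
        have h6 := rinv i y hy
        rwa [h5, mul_inv_cancel_right] at h6
    choose s hs using h1
    have hsinj : Function.Injective s := by
      intro i j hij
      by_contra hne
      obtain ⟨x, hx, hxZ⟩ := hex i
      exact hxZ (hinf i j hne x hx ((hs j x).2 (hij ▸ (hs i x).1 hx)))
    refine ⟨Equiv.ofBijective s (Finite.injective_iff_bijective.1 hsinj), fun i x hx => (hs i x).1 hx⟩
  · intro i j hij x hx
    rw [rcomm i j hij x hx, mul_inv_cancel_right]

end Base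

end Cfsg.Agent.H349.T3
end

-- part: H349/T3/Inner
section
/-!
# Consequences of a frame: the order of the centralizer (helper349)
-/

set_option autoImplicit false

namespace Cfsg.Agent.H349.T3

open Cfsg.Agent.H341.Weak

/-- a subgroup of a group of order 27, containing a central subgroup of order three and two noncommuting elements -/
theorem le_of_noncomm {G : Type*} [Group G] {U W : Subgroup G} (hU : Nat.card U = 27) (hWU : W ≤ U) {x y z : G}
    (hx : x ∈ W) (hy : y ∈ W) (hxy : x * y ≠ y * x) (_hz : z ∈ W) : U ≤ W := by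
  classical
  have : Fact (Nat.Prime 3) := ⟨Nat.prime_three⟩
  have hfin : Finite ↥U := Nat.finite_of_card_ne_zero (by rw [hU]; norm_num)
  have hfinW : Finite ↥W := Finite.of_injective (Subgroup.inclusion hWU) (Subgroup.inclusion_injective hWU)
  have h1 : Nat.card W ∣ 3 ^ 3 := by
    have := Subgroup.card_dvd_of_le hWU
    rw [hU] at this
    exact this
  obtain ⟨n, hn, hW⟩ := (Nat.dvd_prime_pow Nat.prime_three).1 h1
  have hn3 : n = 3 := by
    by_contra hne
    have h2 : n = 0 ∨ n = 1 ∨ n = 2 := by omega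
    apply hxy
    have hcomm : ∀ a b : ↥W, a * b = b * a := by
      rcases h2 with rfl | rfl | rfl
      · have : Subsingleton ↥W := (Nat.card_eq_one_iff_unique.1 hW).1
        intro a b
        exact Subsingleton.elim _ _
      · have : IsCyclic ↥W := isCyclic_of_prime_card (p := 3) (by rw [hW, pow_one])
        intro a b
        exact (IsCyclic.commGroup (α := ↥W)).mul_comm a b
      · have h3 := IsPGroup.isMulCommutative_of_card_eq_prime_sq (G := ↥W) (p := 3) hW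
        exact h3.is_comm.comm
    exact congrArg Subtype.val (hcomm ⟨x, hx⟩ ⟨y, hy⟩)
  rw [hn3] at hW
  have h4 : W = U := by
    refine Subgroup.eq_of_le_of_card_ge hWU ?_
    rw [hU, hW]
    norm_num
  exact h4.ge

/-- an automorphism trivial on `U/Z` and `Z` is inner -/
theorem exists_inner {G : Type*} [Group G] {Z U : Subgroup G} (hZ3 : Nat.card Z = 3) (hU27 : Nat.card U = 27)
    (hZU : Z ≤ U) (hUZ : ∀ u ∈ U, ∀ z ∈ Z, u * z = z * u) (hcom : ∀ x ∈ U, ∀ y ∈ U, x * y * x⁻¹ * y⁻¹ ∈ Z)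
    (hcen : ∀ x ∈ U, (∀ y ∈ U, x * y = y * x) → x ∈ Z) {c : G}
    (hc : ∀ u ∈ U, c * u * c⁻¹ * u⁻¹ ∈ Z) : ∃ q ∈ U, ∀ u ∈ U, c * u * c⁻¹ = q * u * q⁻¹ := by
  classical
  have hfin : Finite ↥U := Nat.finite_of_card_ne_zero (by rw [hU27]; norm_num)
  have hfinZ : Finite ↥Z := Nat.finite_of_card_ne_zero (by rw [hZ3]; norm_num)
  obtain ⟨x, hxU, hxZ⟩ : ∃ x ∈ U, x ∉ Z := by
    by_contra hcon
    push Not at hcon
    have h1 : U = Z := le_antisymm hcon hZU
    rw [h1, hZ3] at hU27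
    omega
  obtain ⟨y, hyU, hxy⟩ : ∃ y ∈ U, x * y ≠ y * x := by
    by_contra hcon
    push Not at hcon
    exact hxZ (hcen x hxU hcon)
  -- a commutator map
  have hmul : ∀ v ∈ U, ∀ p ∈ U, ∀ q ∈ U, p * q * v * (p * q)⁻¹ * v⁻¹ =
      (p * v * p⁻¹ * v⁻¹) * (q * v * q⁻¹ * v⁻¹) := by
    intro v hv p hp q hq
    obtain ⟨w, hw⟩ : ∃ w, w = q * v * q⁻¹ * v⁻¹ := ⟨_, rfl⟩
    have hwZ : w ∈ Z := hw ▸ hcom q hq v hv
    have h1 : q * v * q⁻¹ = w * v := by rw [hw]; group
    calc p * q * v * (p * q)⁻¹ * v⁻¹ = p * (q * v * q⁻¹) * p⁻¹ * v⁻¹ := by group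
      _ = (p * w) * v * p⁻¹ * v⁻¹ := by rw [h1]; group
      _ = (w * p) * v * p⁻¹ * v⁻¹ := by rw [hUZ p hp w hwZ]
      _ = w * (p * v * p⁻¹ * v⁻¹) := by group
      _ = (p * v * p⁻¹ * v⁻¹) * w := (hUZ _ (hZU (hcom p hp v hv)) w hwZ).symm
      _ = (p * v * p⁻¹ * v⁻¹) * (q * v * q⁻¹ * v⁻¹) := by rw [hw]
  let f : ↥U →* ↥Z × ↥Z :=
    { toFun := fun q => (⟨q * x * (q : G)⁻¹ * x⁻¹, hcom q q.2 x hxU⟩, ⟨q * y * (q : G)⁻¹ * y⁻¹, hcom q q.2 y hyU⟩)
      map_one' := by
        ext1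
        · apply Subtype.ext; simp
        · apply Subtype.ext; simp
      map_mul' := by
        intro p q
        ext1
        · exact Subtype.ext (hmul x hxU p p.2 q q.2)
        · exact Subtype.ext (hmul y hyU p p.2 q q.2) }
  have hker : ∀ q : ↥U, q ∈ f.ker → (q : G) ∈ Z := by
    intro q hq
    have h1 : f q = 1 := hq
    have h2 : (q : G) * x * (q : G)⁻¹ * x⁻¹ = 1 := congrArg (fun t => ((Prod.fst t : ↥Z) : G)) h1
    have h3 : (q : G) * y * (q : G)⁻¹ * y⁻¹ = 1 := congrArg (fun t => ((Prod.snd t : ↥Z) : G)) h1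
    have h4 : U ≤ U ⊓ Subgroup.centralizer {(q : G)} := by
      refine le_of_noncomm hU27 inf_le_left (x := x) (y := y) (z := x) ⟨hxU, ?_⟩ ⟨hyU, ?_⟩ hxy ⟨hxU, ?_⟩
      · refine Subgroup.mem_centralizer_singleton_iff.2 ?_
        have h5 : (q : G) * x = x * q := mul_inv_eq_iff_eq_mul.1 (mul_inv_eq_one.1 h2)
        exact h5.symm
      · refine Subgroup.mem_centralizer_singleton_iff.2 ?_
        have h5 : (q : G) * y = y * q := mul_inv_eq_iff_eq_mul.1 (mul_inv_eq_one.1 h3)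
        exact h5.symm
      · refine Subgroup.mem_centralizer_singleton_iff.2 ?_
        have h5 : (q : G) * x = x * q := mul_inv_eq_iff_eq_mul.1 (mul_inv_eq_one.1 h2)
        exact h5.symm
    refine hcen q q.2 fun u hu => ?_
    exact (Subgroup.mem_centralizer_singleton_iff.1 (h4 hu).2).symm
  have hsurj : Function.Surjective f := by
    rw [← MonoidHom.range_eq_top]
    refine Subgroup.eq_top_of_card_eq _ ?_
    have h1 : Nat.card ↥f.ker ≤ 3 := by
      rw [← hZ3]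
      exact Nat.card_le_card_of_injective (fun q : ↥f.ker => (⟨((q : ↥U) : G), hker q q.2⟩ : ↥Z)) (by
        intro a b hab
        have := congrArg Subtype.val hab
        exact Subtype.ext (Subtype.ext this))
    have h2 := Subgroup.card_mul_index f.ker
    rw [Subgroup.index_ker, hU27] at h2
    have h3 : Nat.card (↥Z × ↥Z) = 9 := by rw [Nat.card_prod, hZ3]
    have h4 : Nat.card ↥f.range ≤ 9 := by
      rw [← h3]
      exact Subgroup.card_le_card_group _
    rw [h3]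
    have h5 : 0 < Nat.card ↥f.ker := Nat.card_pos
    obtain ⟨k, hk⟩ : ∃ k, k = Nat.card ↥f.ker := ⟨_, rfl⟩
    rw [← hk] at h1 h2 h5
    interval_cases k <;> omega
  obtain ⟨q, hq⟩ := hsurj (⟨c * x * c⁻¹ * x⁻¹, hc x hxU⟩, ⟨c * y * c⁻¹ * y⁻¹, hc y hyU⟩)
  have hqx : (q : G) * x * (q : G)⁻¹ * x⁻¹ = c * x * c⁻¹ * x⁻¹ := congrArg (fun t => ((Prod.fst t : ↥Z) : G)) hq
  have hqy : (q : G) * y * (q : G)⁻¹ * y⁻¹ = c * y * c⁻¹ * y⁻¹ := congrArg (fun t => ((Prod.snd t : ↥Z) : G)) hq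
  refine ⟨q, q.2, ?_⟩
  have h4 : U ≤ U ⊓ Subgroup.centralizer {(q : G)⁻¹ * c} := by
    have key : ∀ v, v ∈ U → (q : G) * v * (q : G)⁻¹ * v⁻¹ = c * v * c⁻¹ * v⁻¹ →
        v ∈ U ⊓ Subgroup.centralizer {(q : G)⁻¹ * c} := by
      intro v hv h
      refine ⟨hv, ?_⟩
      refine Subgroup.mem_centralizer_singleton_iff.2 ?_
      have h5 := mul_right_cancel h
      calc v * ((q : G)⁻¹ * c) = (q : G)⁻¹ * (q * v * (q : G)⁻¹) * c := by group
        _ = (q : G)⁻¹ * (c * v * c⁻¹) * c := by rw [h5]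
        _ = (q : G)⁻¹ * c * v := by group
    exact le_of_noncomm hU27 inf_le_left (key x hxU hqx) (key y hyU hqy) hxy (key x hxU hqx)
  intro u hu
  have h5 := Subgroup.mem_centralizer_singleton_iff.1 (h4 hu).2
  calc c * u * c⁻¹ = q * ((q : G)⁻¹ * c * u) * c⁻¹ := by group
    _ = q * (u * ((q : G)⁻¹ * c)) * c⁻¹ := by rw [h5]
    _ = q * u * (q : G)⁻¹ := by group

end Cfsg.Agent.H349.T3
end

-- part: H349/T3/Order
section
/-!
# The order of the centralizer in a frame (helper349)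
-/

set_option autoImplicit false

namespace Cfsg.Agent.H349.T3

open Cfsg.Agent.H341.Weak

namespace FrameL

universe u

variable {G : Type u} [Group G] {Z Q : Subgroup G} {U : Fin 3 → Subgroup G} {e : Fin 3 → G} (F : Frame Z Q U e)
include F

theorem zc {z : G} (hz : z ∈ Z) {c : G} (hc : c ∈ Subgroup.centralizer (Z : Set G)) : z * c = c * z :=
  Subgroup.mem_centralizer_iff.1 hc z hz

theorem ZleQ : Z ≤ Q := (F.ZleU 0).trans (F.UleQ 0)

theorem UleC (i : Fin 3) : U i ≤ Subgroup.centralizer (Z : Set G) := (F.UleQ i).trans F.QleC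

theorem cubeZ {z : G} (hz : z ∈ Z) : z ^ 3 = 1 := F.exp z (ZleQ F hz)

theorem eq_one_of_sq {x : G} (hx : x ∈ Q) (h : x * x = 1) : x = 1 := by
  have h1 := F.exp x hx
  rw [pow_succ, pow_two, h, one_mul] at h1
  exact h1

theorem mem_of_sq {x : G} (hx : x ∈ Q) {W : Subgroup G} (h : x * x ∈ W) : x ∈ W := by
  have h1 : x = (x * x) * (x * x) := by
    have h2 := F.exp x hx
    calc x = x ^ 3 * x := by rw [h2, one_mul]
      _ = _ := by simp only [pow_succ, pow_zero, one_mul, mul_assoc]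
  rw [h1]
  exact W.mul_mem h h

theorem dec {x : G} (hx : x ∈ Q) : ∃ a ∈ U 0, ∃ b ∈ U 1, ∃ c ∈ U 2, x = a * b * c := by
  let W : Subgroup G :=
    { carrier := {x | ∃ a ∈ U 0, ∃ b ∈ U 1, ∃ c ∈ U 2, x = a * b * c}
      mul_mem' := by
        rintro _ _ ⟨a, ha, b, hb, c, hc, rfl⟩ ⟨a', ha', b', hb', c', hc', rfl⟩
        refine ⟨a * a', (U 0).mul_mem ha ha', b * b', (U 1).mul_mem hb hb', c * c', (U 2).mul_mem hc hc', ?_⟩
        have h1 := F.comm 0 1 (by decide) a' ha' b hb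
        have h2 := F.comm 0 2 (by decide) a' ha' c hc
        have h3 := F.comm 1 2 (by decide) b' hb' c hc
        calc a * b * c * (a' * b' * c') = a * b * (c * a') * b' * c' := by group
          _ = a * (b * a') * c * b' * c' := by rw [← h2]; group
          _ = a * (a' * b) * c * b' * c' := by rw [h1]
          _ = a * a' * b * (c * b') * c' := by group
          _ = a * a' * b * (b' * c) * c' := by rw [h3]
          _ = a * a' * (b * b') * (c * c') := by group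
      one_mem' := ⟨1, (U 0).one_mem, 1, (U 1).one_mem, 1, (U 2).one_mem, by simp⟩
      inv_mem' := by
        rintro _ ⟨a, ha, b, hb, c, hc, rfl⟩
        refine ⟨a⁻¹, (U 0).inv_mem ha, b⁻¹, (U 1).inv_mem hb, c⁻¹, (U 2).inv_mem hc, ?_⟩
        have h1 := F.comm 0 1 (by decide) a⁻¹ ((U 0).inv_mem ha) b⁻¹ ((U 1).inv_mem hb)
        have h2 := F.comm 0 2 (by decide) a⁻¹ ((U 0).inv_mem ha) c⁻¹ ((U 2).inv_mem hc)
        have h3 := F.comm 1 2 (by decide) b⁻¹ ((U 1).inv_mem hb) c⁻¹ ((U 2).inv_mem hc)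
        calc (a * b * c)⁻¹ = c⁻¹ * b⁻¹ * a⁻¹ := by group
          _ = b⁻¹ * (c⁻¹ * a⁻¹) := by rw [← h3]; group
          _ = b⁻¹ * (a⁻¹ * c⁻¹) := by rw [h2]
          _ = (b⁻¹ * a⁻¹) * c⁻¹ := by group
          _ = a⁻¹ * b⁻¹ * c⁻¹ := by rw [← h1] }
  have h1 : Q ≤ W := by
    rw [F.sup]
    refine sup_le (sup_le ?_ ?_) ?_
    · intro x hx; exact ⟨x, hx, 1, (U 1).one_mem, 1, (U 2).one_mem, by simp⟩
    · intro x hx; exact ⟨1, (U 0).one_mem, x, hx, 1, (U 2).one_mem, by simp⟩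
    · intro x hx; exact ⟨1, (U 0).one_mem, 1, (U 1).one_mem, x, hx, by simp⟩
  exact h1 hx

/-- elements centralizing all blocks centralize `Q` -/
theorem comm_Q {c : G} (h : ∀ i, ∀ u ∈ U i, c * u = u * c) : ∀ q ∈ Q, c * q = q * c := by
  intro q hq
  obtain ⟨a, ha, b, hb, d, hd, rfl⟩ := dec F hq
  have e0 : Commute c a := h 0 a ha
  have e1 : Commute c b := h 1 b hb
  have e2 : Commute c d := h 2 d hd
  exact ((e0.mul_right e1).mul_right e2).eq

theorem mem_Z_of_comm {c : G} (h : ∀ i, ∀ u ∈ U i, c * u = u * c) : c ∈ Z := by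
  have h1 := comm_Q F h
  have h2 : c ∈ Q := F.CQ (Subgroup.mem_centralizer_iff.2 fun q hq => (h1 q hq).symm)
  exact F.cenZ c h2 h1

theorem cenU {i : Fin 3} {x : G} (hx : x ∈ U i) (h : ∀ y ∈ U i, x * y = y * x) : x ∈ Z := by
  refine mem_Z_of_comm F fun j u hu => ?_
  by_cases hij : i = j
  · subst hij; exact h u hu
  · exact F.comm i j hij x hx u hu

theorem inf {i j : Fin 3} (hij : i ≠ j) {x : G} (hxi : x ∈ U i) (hxj : x ∈ U j) : x ∈ Z :=
  cenU F hxi fun y hy => (F.comm i j hij y hy x hxj).symm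

theorem exists_not_mem (i : Fin 3) : ∃ x ∈ U i, x ∉ Z := by
  by_contra hcon
  push Not at hcon
  have h1 : U i = Z := le_antisymm hcon (F.ZleU i)
  have h2 := F.cardU i
  rw [h1, F.cardZ] at h2
  omega

/-- an element of `C(Z)` acting trivially on all blocks modulo `Z` lies in `Q` -/
theorem kernel {c : G} (h : ∀ i, ∀ u ∈ U i, c * u * c⁻¹ * u⁻¹ ∈ Z) : c ∈ Q := by
  have hin : ∀ i, ∃ q ∈ U i, ∀ u ∈ U i, c * u * c⁻¹ = q * u * q⁻¹ := by
    intro i
    refine exists_inner F.cardZ (F.cardU i) (F.ZleU i) (fun u hu z hz => (zc F hz (UleC F i hu)).symm)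
      (fun x hx y hy => F.comZ x (F.UleQ i hx) y (F.UleQ i hy)) (fun x hx hy => cenU F hx hy) (h i)
  choose q hqU hq using hin
  have hqq : q 0 * q 1 * q 2 ∈ Q :=
    Q.mul_mem (Q.mul_mem (F.UleQ 0 (hqU 0)) (F.UleQ 1 (hqU 1))) (F.UleQ 2 (hqU 2))
  have hact : ∀ i, ∀ u ∈ U i, (q 0 * q 1 * q 2) * u * (q 0 * q 1 * q 2)⁻¹ = q i * u * (q i)⁻¹ := by
    intro i u hu
    have hcj : ∀ j, j ≠ i → ∀ v ∈ U i, q j * v * (q j)⁻¹ = v := by
      intro j hji v hv
      rw [F.comm j i hji (q j) (hqU j) v hv, mul_inv_cancel_right]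
    have hi : i = 0 ∨ i = 1 ∨ i = 2 := by
      have h0 : ∀ i : Fin 3, i = 0 ∨ i = 1 ∨ i = 2 := by decide
      exact h0 i
    have hm : q i * u * (q i)⁻¹ ∈ U i := (U i).mul_mem ((U i).mul_mem (hqU i) hu) ((U i).inv_mem (hqU i))
    have h1 : (q 0 * q 1 * q 2) * u * (q 0 * q 1 * q 2)⁻¹ =
        q 0 * (q 1 * (q 2 * u * (q 2)⁻¹) * (q 1)⁻¹) * (q 0)⁻¹ := by group
    rw [h1]
    rcases hi with rfl | rfl | rfl
    · rw [hcj 2 (by decide) u hu, hcj 1 (by decide) u hu]
    · rw [hcj 2 (by decide) u hu, hcj 0 (by decide) _ hm]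
    · rw [hcj 1 (by decide) _ hm, hcj 0 (by decide) _ hm]
  have h2 : (q 0 * q 1 * q 2)⁻¹ * c ∈ Z := by
    refine mem_Z_of_comm F fun i u hu => ?_
    have h3 : c * u * c⁻¹ = (q 0 * q 1 * q 2) * u * (q 0 * q 1 * q 2)⁻¹ := by rw [hact i u hu, hq i u hu]
    calc (q 0 * q 1 * q 2)⁻¹ * c * u = (q 0 * q 1 * q 2)⁻¹ * (c * u * c⁻¹) * c := by group
      _ = (q 0 * q 1 * q 2)⁻¹ * ((q 0 * q 1 * q 2) * u * (q 0 * q 1 * q 2)⁻¹) * c := by rw [h3]
      _ = u * ((q 0 * q 1 * q 2)⁻¹ * c) := by group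
  have h3 : c = (q 0 * q 1 * q 2) * ((q 0 * q 1 * q 2)⁻¹ * c) := by group
  rw [h3]
  exact Q.mul_mem hqq (ZleQ F h2)

/-- the subgroup normalizing all blocks -/
def K (_ : Frame Z Q U e) : Subgroup G where
  carrier := {c | c ∈ Subgroup.centralizer (Z : Set G) ∧ ∀ i, ∀ x, x ∈ U i ↔ c * x * c⁻¹ ∈ U i}
  mul_mem' := by
    rintro a b ⟨ha, ha'⟩ ⟨hb, hb'⟩
    refine ⟨mul_mem ha hb, fun i x => ?_⟩
    rw [hb' i x, ha' i]
    have h1 : a * (b * x * b⁻¹) * a⁻¹ = a * b * x * (a * b)⁻¹ := by group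
    rw [h1]
  one_mem' := ⟨one_mem _, fun i x => by simp⟩
  inv_mem' := by
    rintro a ⟨ha, ha'⟩
    refine ⟨inv_mem ha, fun i x => ?_⟩
    rw [ha' i (a⁻¹ * x * a⁻¹⁻¹)]
    have h1 : a * (a⁻¹ * x * a⁻¹⁻¹) * a⁻¹ = x := by group
    rw [h1]

omit F in
theorem mem_K {F : Frame Z Q U e} {c : G} :
    c ∈ K F ↔ c ∈ Subgroup.centralizer (Z : Set G) ∧ ∀ i, ∀ x, x ∈ U i ↔ c * x * c⁻¹ ∈ U i := Iff.rfl

theorem QleK : Q ≤ K F := by
  intro q hq
  refine ⟨F.QleC hq, fun i x => ?_⟩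
  have key : ∀ q ∈ Q, ∀ x ∈ U i, q * x * q⁻¹ ∈ U i := by
    intro q hq x hx
    have h1 := F.comZ q hq x (F.UleQ i hx)
    have h2 : q * x * q⁻¹ = (q * x * q⁻¹ * x⁻¹) * x := by group
    rw [h2]
    exact (U i).mul_mem (F.ZleU i h1) hx
  refine ⟨key q hq x, fun h => ?_⟩
  have h1 := key q⁻¹ (Q.inv_mem hq) _ h
  have h2 : q⁻¹ * (q * x * q⁻¹) * q⁻¹⁻¹ = x := by group
  rwa [h2] at h1

/-- the blocks are permuted, with equality -/
theorem perm_iff [Finite G] {c : G} (hc : c ∈ Subgroup.centralizer (Z : Set G)) :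
    ∃ s : Equiv.Perm (Fin 3), ∀ i x, x ∈ U i ↔ c * x * c⁻¹ ∈ U (s i) := by
  obtain ⟨s, hs⟩ := F.perm c hc
  refine ⟨s, fun i x => ⟨fun hx => hs i x hx, fun hx => ?_⟩⟩
  let f : ↥(U i) → ↥(U (s i)) := fun u => ⟨c * u * c⁻¹, hs i u u.2⟩
  have hf : Function.Injective f := by
    intro u v huv
    have h5 : c * (u : G) * c⁻¹ = c * v * c⁻¹ := congrArg Subtype.val huv
    exact Subtype.ext (mul_left_cancel (mul_right_cancel h5))
  have hb : Function.Bijective f := by
    have := Fintype.ofFinite ↥(U i)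
    have := Fintype.ofFinite ↥(U (s i))
    rw [Fintype.bijective_iff_injective_and_card]
    refine ⟨hf, ?_⟩
    rw [← Nat.card_eq_fintype_card, ← Nat.card_eq_fintype_card, F.cardU, F.cardU]
  obtain ⟨u, hu⟩ := hb.2 ⟨_, hx⟩
  have h5 : c * (u : G) * c⁻¹ = c * x * c⁻¹ := congrArg Subtype.val hu
  rw [← mul_left_cancel (mul_right_cancel h5)]
  exact u.2

/-- uniqueness of the permutation -/
theorem perm_unique {c : G} {s t : Fin 3 → Fin 3}
    (hs : ∀ i x, x ∈ U i → c * x * c⁻¹ ∈ U (s i)) (ht : ∀ i x, x ∈ U i → c * x * c⁻¹ ∈ U (t i))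
    (hc : c ∈ Subgroup.centralizer (Z : Set G)) : s = t := by
  funext i
  by_contra hne
  obtain ⟨x, hx, hxZ⟩ := exists_not_mem F i
  apply hxZ
  have h1 := inf F hne (hs i x hx) (ht i x hx)
  have h2 : x = c⁻¹ * (c * x * c⁻¹) * c := by group
  rw [h2, mul_assoc, zc F h1 hc, ← mul_assoc, inv_mul_cancel, one_mul]
  exact h1

/-- the permutation representation on the blocks -/
theorem exists_perm [Finite G] : ∃ π : ↥(Subgroup.centralizer (Z : Set G)) →* Equiv.Perm (Fin 3),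
    (∀ (c : ↥(Subgroup.centralizer (Z : Set G))) (i : Fin 3) (x : G), x ∈ U i ↔ (c : G) * x * (c : G)⁻¹ ∈ U (π c i)) ∧
    π.ker = (K F).subgroupOf (Subgroup.centralizer (Z : Set G)) := by
  have h1 := fun c : ↥(Subgroup.centralizer (Z : Set G)) => perm_iff F c.2
  choose s hs using h1
  have hone : s 1 = 1 := by
    apply Equiv.ext
    have := perm_unique F (c := 1) (s := s 1) (t := id) (fun i x hx => by
      have := (hs 1 i x).1 hx
      simpa using this) (fun i x hx => by simpa using hx) (one_mem _)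
    exact fun i => congrFun this i
  have hmul : ∀ c d, s (c * d) = s c * s d := by
    intro c d
    apply Equiv.ext
    have := perm_unique F (c := (c * d : ↥(Subgroup.centralizer (Z : Set G)))) (s := s (c * d))
      (t := fun i => s c (s d i)) (fun i x hx => (hs (c * d) i x).1 hx) (fun i x hx => by
        have h2 := (hs c _ _).1 ((hs d i x).1 hx)
        have h3 : ((c * d : ↥(Subgroup.centralizer (Z : Set G))) : G) * x *
            ((c * d : ↥(Subgroup.centralizer (Z : Set G))) : G)⁻¹ = c * (d * x * (d : G)⁻¹) * (c : G)⁻¹ := by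
          push_cast
          group
        rw [h3]
        exact h2) (c * d).2
    exact fun i => congrFun this i
  refine ⟨⟨⟨s, hone⟩, hmul⟩, hs, ?_⟩
  ext c
  rw [MonoidHom.mem_ker, Subgroup.mem_subgroupOf, mem_K]
  constructor
  · intro h
    refine ⟨c.2, fun i x => ?_⟩
    have h2 : s c = 1 := h
    have h3 := hs c i x
    rw [h2] at h3
    exact h3
  · rintro ⟨-, h⟩
    change s c = 1
    apply Equiv.ext
    have := perm_unique F (c := (c : G)) (s := s c) (t := id) (fun i x hx => (hs c i x).1 hx)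
      (fun i x hx => (h i x).1 hx) c.2
    exact fun i => congrFun this i

theorem KleC : K F ≤ Subgroup.centralizer (Z : Set G) := fun _ hc => hc.1

/-- the homomorphism of `K` to `SL₂(3)³` -/
theorem exists_sl3 : ∃ σ : Fin 3 → (↥(K F) →* Matrix.SpecialLinearGroup (Fin 2) (ZMod 3)),
      (∀ i (k : K F), σ i k = 1 ↔ ∀ u ∈ U i, (k : G) * u * (k : G)⁻¹ * u⁻¹ ∈ Z) ∧
      (∀ i (k : K F), σ i k = -1 ↔ ∀ u ∈ U i, (k : G) * u * (k : G)⁻¹ * u ∈ Z) := by
  have h := fun i : Fin 3 => exists_sl (K := K F) F.cardZ (F.cardU i) (F.ZleU i)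
    (fun k hk z hz => (zc F hz hk.1).symm) (fun u hu z hz => (zc F hz (UleC F i hu)).symm)
    (fun k hk u hu => (hk.2 i u).1 hu) (fun x hx y hy => F.comZ x (F.UleQ i hx) y (F.UleQ i hy))
    (fun x hx => by rw [F.exp x (F.UleQ i hx)]; exact Z.one_mem) (fun x hx hy => cenU F hx hy)
  choose σ h1 h2 using h
  exact ⟨σ, h1, h2⟩

end FrameL

end Cfsg.Agent.H349.T3
end

-- part: H349/T3/Card
section
/-!
# The order of the centralizer in a frame (helper349)
-/

set_option autoImplicit false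

namespace Cfsg.Agent.H349.T3

open Cfsg.Agent.H341.Weak

set_option maxRecDepth 100000 in
theorem card_sl23 : Nat.card (Matrix.SpecialLinearGroup (Fin 2) (ZMod 3)) = 24 := by
  rw [Nat.card_eq_fintype_card]
  decide

namespace FrameL

universe u

variable {G : Type u} [Group G] [Finite G] {Z Q : Subgroup G} {U : Fin 3 → Subgroup G} {e : Fin 3 → G}
  (F : Frame Z Q U e)
include F

omit [Finite G] in
/-- `|K|` divides `3^7 * 24^3` -/
theorem card_K : Nat.card (K F) ∣ 3 ^ 7 * 24 ^ 3 := by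
  classical
  obtain ⟨σ, hσ, -⟩ := exists_sl3 F
  let φ : ↥(K F) →* (Fin 3 → Matrix.SpecialLinearGroup (Fin 2) (ZMod 3)) :=
    { toFun := fun k i => σ i k
      map_one' := by funext i; exact map_one (σ i)
      map_mul' := fun a b => by funext i; exact map_mul (σ i) a b }
  have hker : φ.ker = Q.subgroupOf (K F) := by
    ext k
    rw [MonoidHom.mem_ker, Subgroup.mem_subgroupOf]
    constructor
    · intro h
      exact kernel F fun i => (hσ i k).1 (congrFun h i)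
    · intro h
      funext i
      exact (hσ i k).2 fun u hu => F.comZ k h u (F.UleQ i hu)
  have h1 := Subgroup.card_mul_index φ.ker
  rw [Subgroup.index_ker] at h1
  have h2 : Nat.card ↥φ.ker = 3 ^ 7 := by
    rw [hker, ← F.cardQ]
    exact Nat.card_congr (Subgroup.subgroupOfEquivOfLe (QleK F)).toEquiv
  rw [← h1, h2]
  refine Nat.mul_dvd_mul_left _ ?_
  have h3 : Nat.card (Fin 3 → Matrix.SpecialLinearGroup (Fin 2) (ZMod 3)) = 24 ^ 3 := by
    rw [Nat.card_fun, card_sl23]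
    simp
  rw [← h3]
  exact Subgroup.card_subgroup_dvd_card _

/-- **The order of the centralizer** divides `2^10 * 3^11`. -/
theorem card_C : Nat.card (Subgroup.centralizer (Z : Set G)) ∣ 2 ^ 10 * 3 ^ 11 := by
  obtain ⟨π, -, hπ⟩ := exists_perm F
  have h1 := Subgroup.card_mul_index π.ker
  rw [Subgroup.index_ker] at h1
  have h2 : Nat.card ↥π.ker = Nat.card (K F) := by
    rw [hπ]
    exact Nat.card_congr (Subgroup.subgroupOfEquivOfLe (KleC F)).toEquiv
  have h3 : Nat.card ↥π.range ∣ 6 := by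
    have h4 := Subgroup.card_subgroup_dvd_card π.range
    rw [Nat.card_perm, Nat.card_fin] at h4
    exact h4
  rw [← h1, h2]
  have h4 := Nat.mul_dvd_mul (card_K F) h3
  have h5 : 3 ^ 7 * 24 ^ 3 * 6 = 2 ^ 10 * 3 ^ 11 := by norm_num
  rwa [h5] at h4

end FrameL

end Cfsg.Agent.H349.T3
end

-- part: H349/T3/Transfer
section
/-!
# From the centralizer to the group (helper349)
-/

set_option autoImplicit false

namespace Cfsg.Agent.H349.T3

open Cfsg Cfsg.Agent.H341.Weak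

/-- A frame of the subgroup `H = C_G(Z)` is a frame of `G`. -/
theorem frame_of_sub {G : Type*} [Group G] {H : Subgroup G} {Z Q : Subgroup H} {U : Fin 3 → Subgroup H}
    {e : Fin 3 → H} (F : Frame Z Q U e) (hH : H = Subgroup.centralizer ((Z.map H.subtype : Subgroup G) : Set G)) :
    Frame (Z.map H.subtype) (Q.map H.subtype) (fun i => (U i).map H.subtype) (fun i => (e i : G)) := by
  have hcard : ∀ K : Subgroup H, Nat.card (K.map H.subtype) = Nat.card K := fun K =>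
    Subgroup.card_map_of_injective H.subtype_injective
  have hcm : ∀ c (hc : c ∈ H), (⟨c, hc⟩ : H) ∈ Subgroup.centralizer (Z : Set H) := by
    intro c hc
    have h1 := hc
    rw [hH, Subgroup.mem_centralizer_iff] at h1
    rw [Subgroup.mem_centralizer_iff]
    intro z hz
    exact Subtype.ext (h1 z ⟨z, hz, rfl⟩)
  have hC : ∀ c, c ∈ Subgroup.centralizer ((Z.map H.subtype : Subgroup G) : Set G) → c ∈ H := by
    intro c hc
    rw [hH]
    exact hc
  have hC' : ∀ c, c ∈ H → c ∈ Subgroup.centralizer ((Z.map H.subtype : Subgroup G) : Set G) := by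
    intro c hc
    rw [hH] at hc
    exact hc
  have hmapC : ∀ K : Subgroup H, K.map H.subtype ≤ Subgroup.centralizer ((Z.map H.subtype : Subgroup G) : Set G) := by
    rintro K _ ⟨x, -, rfl⟩
    exact hC' _ x.2
  refine ⟨?_, ?_, fun i => ?_, hmapC Q, ?_, ?_, ?_, ?_, ?_, ?_, ?_, ?_, ?_, ?_, ?_, ?_, ?_, ?_, ?_⟩
  · rw [hcard, F.cardZ]
  · rw [hcard, F.cardQ]
  · rw [hcard, F.cardU]
  · rintro c hc _ ⟨x, hx, rfl⟩
    exact ⟨_, F.conjQ ⟨c, hC c hc⟩ (hcm c _) x hx, rfl⟩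
  · intro x hx
    have hxH : x ∈ H := by
      apply hC
      rw [Subgroup.mem_centralizer_iff] at hx ⊢
      rintro _ ⟨z, hz, rfl⟩
      exact hx _ ⟨z, F.UleQ 0 (F.ZleU 0 hz), rfl⟩
    refine ⟨⟨x, hxH⟩, F.CQ ?_, rfl⟩
    rw [Subgroup.mem_centralizer_iff]
    rw [Subgroup.mem_centralizer_iff] at hx
    intro q hq
    exact Subtype.ext (hx _ ⟨q, hq, rfl⟩)
  · rintro _ ⟨x, hx, rfl⟩
    have := F.exp x hx
    exact congrArg Subtype.val this
  · rintro i _ ⟨x, hx, rfl⟩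
    exact ⟨x, F.ZleU i hx, rfl⟩
  · rintro i _ ⟨x, hx, rfl⟩
    exact ⟨x, F.UleQ i hx, rfl⟩
  · rintro i j hij _ ⟨x, hx, rfl⟩ _ ⟨y, hy, rfl⟩
    exact congrArg Subtype.val (F.comm i j hij x hx y hy)
  · rintro _ ⟨x, hx, rfl⟩ _ ⟨y, hy, rfl⟩
    exact ⟨_, F.comZ x hx y hy, rfl⟩
  · rintro _ ⟨x, hx, rfl⟩ h
    refine ⟨x, F.cenZ x hx fun y hy => Subtype.ext (h _ ⟨y, hy, rfl⟩), rfl⟩
  · rw [← Subgroup.map_sup, ← Subgroup.map_sup, ← F.sup]
  · intro c hc
    obtain ⟨s, hs⟩ := F.perm ⟨c, hC c hc⟩ (hcm c _)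
    refine ⟨s, ?_⟩
    rintro i _ ⟨x, hx, rfl⟩
    exact ⟨_, hs i x hx, rfl⟩
  · intro i
    exact hC' _ (e i).2
  · intro i
    exact congrArg Subtype.val (F.e2 i)
  · intro i j
    exact congrArg Subtype.val (F.ee i j)
  · rintro i j hij _ ⟨x, hx, rfl⟩
    exact congrArg Subtype.val (F.eU i j hij x hx)
  · rintro i _ ⟨x, hx, rfl⟩
    exact ⟨_, F.einv i x hx, rfl⟩

/-- The base of the statements. -/
theorem base_of {H : Type*} [Group H] [Finite H] (Q : Subgroup H) (hQF : Q = Cfsg.generalizedFittingSubgroup H)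
    [hQn : Q.Normal] (hQex : Cfsg.IsExtraspecial 3 Q) (hQcard : Nat.card Q = 3 ^ 7)
    (hZZ : (Subgroup.center Q).map Q.subtype = Subgroup.center H) : Base (Subgroup.center H) Q := by
  have hcen : ∀ x : H, x ∈ Q → (∀ y ∈ Q, x * y = y * x) → x ∈ Subgroup.center H := by
    intro x hx h
    rw [← hZZ]
    refine ⟨⟨x, hx⟩, ?_, rfl⟩
    rw [SetLike.mem_coe, Subgroup.mem_center_iff]
    intro y
    exact Subtype.ext (h y y.2).symm
  refine ⟨?_, hQcard, fun c x hx => hQn.conj_mem x hx c, ?_, ?_, ?_, ?_, hcen⟩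
  · rw [← hZZ, Subgroup.card_map_of_injective Q.subtype_injective]
    exact hQex.2
  · have := Cfsg.Agent.Lib.GenFitting.centralizer_genFitting_le (G := H)
    rw [← hQF] at this
    exact this
  · rw [← hZZ]
    exact Subgroup.map_subtype_le _
  · intro z hz c
    exact (Subgroup.mem_center_iff.1 hz c).symm
  · intro x hx y hy
    rw [← hZZ]
    have h1 : (⟨x, hx⟩ : Q) * ⟨y, hy⟩ * (⟨x, hx⟩ : Q)⁻¹ * (⟨y, hy⟩ : Q)⁻¹ ∈ commutator Q := by
      have := Subgroup.commutator_mem_commutator (Subgroup.mem_top (⟨x, hx⟩ : Q)) (Subgroup.mem_top (⟨y, hy⟩ : Q))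
      exact this
    rw [hQex.1.2.2] at h1
    exact ⟨_, h1, rfl⟩

end Cfsg.Agent.H349.T3
end

-- part: H349/T3/Local
section
/-!
# Local analysis in a frame, part 1 (helper349)
-/

set_option autoImplicit false

namespace Cfsg.Agent.H349.T3

open Cfsg Cfsg.Agent.H341.Weak Cfsg.Agent.H261 Subgroup

universe u

/-- A frame with the remaining local hypotheses. -/
structure Setup {G : Type u} [Group G] (Z Q : Subgroup G) (U : Fin 3 → Subgroup G) (e : Fin 3 → G) : Prop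
    extends Frame Z Q U e where
  fs : ∀ A : Subgroup G, A ≤ centralizer (Z : Set G) → centralizer (Z : Set G) ≤ normalizer (A : Set G) →
    (∀ a ∈ A, ∀ b ∈ A, a * b = b * a) → A ≤ Q
  irr : ∀ i, ∀ A : Subgroup G, Z ≤ A → (∀ c ∈ centralizer (Z : Set G), ∀ y ∈ A, c * y * c⁻¹ ∈ A) →
    (∃ x ∈ A, x ∈ U i ∧ x ∉ Z) → U i ≤ A
  fus : ∃ g : G, (∀ x ∈ Z, g * x * g⁻¹ ∈ Q) ∧ ¬ ∀ x ∈ Z, g * x * g⁻¹ ∈ Z

namespace FrameL

variable {G : Type u} [Group G] {Z Q : Subgroup G} {U : Fin 3 → Subgroup G} {e : Fin 3 → G} (F : Frame Z Q U e)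
include F

/-- the `i`-th component of an element of an `e i`-invariant subgroup -/
theorem comp_mem {A : Subgroup G} (hZA : Z ≤ A) {i : Fin 3} (hA : ∀ x ∈ A, e i * x * (e i)⁻¹ ∈ A) {a y : G}
    (ha : a ∈ U i) (hy : e i * y * (e i)⁻¹ = y) (hay : a * y ∈ A) : a ∈ A := by
  obtain ⟨v, hv⟩ : ∃ v, v = e i * a * (e i)⁻¹ * a := ⟨_, rfl⟩
  have hvZ : v ∈ Z := hv ▸ F.einv i a ha
  have h1 : e i * a * (e i)⁻¹ = v * a⁻¹ := by rw [hv]; group
  have h2 : e i * (a * y) * (e i)⁻¹ = v * a⁻¹ * y := by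
    calc e i * (a * y) * (e i)⁻¹ = (e i * a * (e i)⁻¹) * (e i * y * (e i)⁻¹) := by group
      _ = v * a⁻¹ * y := by rw [h1, hy]
  have h3 := hA _ hay
  rw [h2] at h3
  have h4 : a * a = (a * y) * (v * a⁻¹ * y)⁻¹ * v := by
    calc a * a = (a * y) * (y⁻¹ * (a * 1)) := by group
      _ = (a * y) * (y⁻¹ * (a * (v⁻¹ * v))) := by rw [inv_mul_cancel]
      _ = _ := by group
  refine mem_of_sq F (F.UleQ i ha) ?_
  rw [h4]
  exact A.mul_mem (A.mul_mem hay (A.inv_mem h3)) (hZA hvZ)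

theorem e_fix {i j : Fin 3} (hij : j ≠ i) {x : G} (hx : x ∈ U j) : e i * x * (e i)⁻¹ = x := F.eU i j hij x hx

/-- an `e`-invariant subgroup of `Q` splits -/
theorem split_mem {A : Subgroup G} (hZA : Z ≤ A) (hA : ∀ i, ∀ x ∈ A, e i * x * (e i)⁻¹ ∈ A) {a b c : G}
    (ha : a ∈ U 0) (hb : b ∈ U 1) (hc : c ∈ U 2) (h : a * b * c ∈ A) : a ∈ A ∧ b ∈ A ∧ c ∈ A := by
  have hab := F.comm 0 1 (by decide) a ha b hb
  have hac := F.comm 0 2 (by decide) a ha c hc
  have hbc := F.comm 1 2 (by decide) b hb c hc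
  refine ⟨?_, ?_, ?_⟩
  · refine comp_mem F hZA (hA 0) ha (y := b * c) ?_ (by rwa [← mul_assoc])
    calc e 0 * (b * c) * (e 0)⁻¹ = (e 0 * b * (e 0)⁻¹) * (e 0 * c * (e 0)⁻¹) := by group
      _ = b * c := by rw [e_fix F (by decide) hb, e_fix F (by decide) hc]
  · refine comp_mem F hZA (hA 1) hb (y := a * c) ?_ ?_
    · calc e 1 * (a * c) * (e 1)⁻¹ = (e 1 * a * (e 1)⁻¹) * (e 1 * c * (e 1)⁻¹) := by group
        _ = a * c := by rw [e_fix F (by decide) ha, e_fix F (by decide) hc]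
    · rw [← mul_assoc, ← hab]; exact h
  · refine comp_mem F hZA (hA 2) hc (y := a * b) ?_ ?_
    · calc e 2 * (a * b) * (e 2)⁻¹ = (e 2 * a * (e 2)⁻¹) * (e 2 * b * (e 2)⁻¹) := by group
        _ = a * b := by rw [e_fix F (by decide) ha, e_fix F (by decide) hb]
    · have h1 : a * b * c = c * (a * b) := by
        calc a * b * c = a * (b * c) := by group
          _ = a * (c * b) := by rw [hbc]
          _ = (a * c) * b := by group
          _ = (c * a) * b := by rw [hac]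
          _ = _ := by group
      rwa [← h1]

/-- `U i` is not abelian -/
theorem exists_noncomm (i : Fin 3) : ∃ x ∈ U i, ∃ y ∈ U i, x * y ≠ y * x := by
  obtain ⟨x, hx, hxZ⟩ := exists_not_mem F i
  by_contra hcon
  push Not at hcon
  exact hxZ (cenU F hx (hcon x hx))

/-- a generator of `Z` -/
theorem exists_gen : ∃ z ∈ Z, z ≠ 1 ∧ Z = zpowers z := by
  have h1 : Z ≠ ⊥ := by
    intro hb
    have := F.cardZ
    rw [hb, Subgroup.card_bot] at this
    omega
  obtain ⟨⟨z, hz⟩, hz0⟩ := Subgroup.ne_bot_iff_exists_ne_one.1 h1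
  have hz1 : z ≠ 1 := fun h => hz0 (Subtype.ext h)
  refine ⟨z, hz, hz1, le_antisymm ?_ ((zpowers_le).2 hz)⟩
  exact eq_of_mem_of_card_prime Nat.prime_three F.cardZ hz hz1 (mem_zpowers z)

/-- elements of `Q` outside `Z` are conjugate to all their multiples by elements of `Z` -/
theorem conj_line {x : G} (hx : x ∈ Q) (hxZ : x ∉ Z) {w : G} (hw : w ∈ Z) : ∃ q ∈ Q, q * x * q⁻¹ = w * x := by
  obtain ⟨y, hy, hxy⟩ : ∃ y ∈ Q, x * y ≠ y * x := by
    by_contra hcon
    push Not at hcon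
    exact hxZ (F.cenZ x hx hcon)
  have hxC := F.QleC hx
  let W : Subgroup G :=
    { carrier := {w | w ∈ Z ∧ ∃ q ∈ Q, q * x * q⁻¹ = w * x}
      mul_mem' := by
        rintro a b ⟨ha, p, hp, hpa⟩ ⟨hb, q, hq, hqb⟩
        refine ⟨Z.mul_mem ha hb, p * q, Q.mul_mem hp hq, ?_⟩
        calc p * q * x * (p * q)⁻¹ = p * (q * x * q⁻¹) * p⁻¹ := by group
          _ = (p * b) * x * p⁻¹ := by rw [hqb]; group
          _ = (b * p) * x * p⁻¹ := by rw [zc F hb (F.QleC hp)]
          _ = b * (p * x * p⁻¹) := by group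
          _ = b * (a * x) := by rw [hpa]
          _ = (b * a) * x := by group
          _ = (a * b) * x := by rw [zc F hb (F.QleC (ZleQ F ha))]
      one_mem' := ⟨Z.one_mem, 1, Q.one_mem, by simp⟩
      inv_mem' := by
        rintro a ⟨ha, p, hp, hpa⟩
        refine ⟨Z.inv_mem ha, p⁻¹, Q.inv_mem hp, ?_⟩
        have h1 : x = p⁻¹ * (a * x) * p := by rw [← hpa]; group
        have h2 : p⁻¹ * (a * x) * p = a * (p⁻¹ * x * p) := by
          calc p⁻¹ * (a * x) * p = (p⁻¹ * a) * x * p := by group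
            _ = (a * p⁻¹) * x * p := by rw [zc F ha (F.QleC (Q.inv_mem hp))]
            _ = _ := by group
        rw [h2] at h1
        rw [inv_inv]
        exact (inv_mul_eq_of_eq_mul h1).symm }
  have h1 : y * x * y⁻¹ * x⁻¹ ∈ W := by
    refine ⟨F.comZ y hy x hx, y, hy, by group⟩
  have h2 : y * x * y⁻¹ * x⁻¹ ≠ 1 := by
    intro h
    apply hxy
    have h3 : y * x * y⁻¹ = x := mul_inv_eq_one.1 h
    exact (mul_inv_eq_iff_eq_mul.1 h3).symm
  have h3 : Z ≤ W := eq_of_mem_of_card_prime Nat.prime_three F.cardZ (F.comZ y hy x hx) h2 h1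
  exact (h3 hw).2

/-- a normal subgroup of `C(Z)` meeting `Q` trivially is trivial -/
theorem eq_bot_of_inf {A : Subgroup G} (hA : ∀ c ∈ Q, ∀ y ∈ A, c * y * c⁻¹ ∈ A)
    (hAC : A ≤ centralizer (Z : Set G)) (hAQ : ∀ x ∈ A, x ∈ Q → x = 1) : A = ⊥ := by
  rw [Subgroup.eq_bot_iff_forall]
  intro x hx
  have h1 : x ∈ centralizer (Q : Set G) := by
    rw [Subgroup.mem_centralizer_iff]
    intro q hq
    have h2 : q * x * q⁻¹ * x⁻¹ ∈ A := A.mul_mem (hA q hq x hx) (A.inv_mem hx)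
    have h3 : q * x * q⁻¹ * x⁻¹ ∈ Q := by
      have h4 : q * x * q⁻¹ * x⁻¹ = q * (x * q⁻¹ * x⁻¹) := by group
      rw [h4]
      exact Q.mul_mem hq (F.conjQ x (hAC hx) _ (Q.inv_mem hq))
    have h4 := hAQ _ h2 h3
    exact mul_inv_eq_iff_eq_mul.1 (mul_inv_eq_one.1 h4)
  exact hAQ x hx (F.CQ h1)

variable [Finite G]

/-- `O_{3'}(G) = 1` as soon as `Z` is not weakly closed in `Q` -/
theorem primeCore (hf : ∃ g : G, (∀ x ∈ Z, g * x * g⁻¹ ∈ Q) ∧ ¬ ∀ x ∈ Z, g * x * g⁻¹ ∈ Z) :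
    pPrimeCore 3 G = ⊥ := by
  classical
  have hp3 : Fact (Nat.Prime 3) := ⟨Nat.prime_three⟩
  obtain ⟨Y, hY⟩ : ∃ Y, Y = pPrimeCore 3 G := ⟨_, rfl⟩
  have hYn : Y.Normal := hY ▸ Cfsg.Agent.Lib.Cores.pPrimeCore_normal 3
  have hYc : (Nat.card Y).Coprime 3 := hY ▸ Cfsg.Agent.Lib.Cores.pPrimeCore_coprime 3
  rw [← hY]
  -- `C_Y(Z) = 1`
  have hCY : ∀ z ∈ Z, z ≠ 1 → ∀ y ∈ Y, z * y = y * z → y = 1 := by
    intro z hz hz1 y hy hzy
    have h1 : Y ⊓ centralizer (Z : Set G) = ⊥ := by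
      refine eq_bot_of_inf F (fun c hc y hy => ⟨hYn.conj_mem y hy.1 c, ?_⟩) inf_le_right ?_
      · exact (centralizer (Z : Set G)).mul_mem ((centralizer (Z : Set G)).mul_mem (F.QleC hc) hy.2)
          ((centralizer (Z : Set G)).inv_mem (F.QleC hc))
      · intro x hx hxQ
        have h2 : x ^ 3 = 1 := F.exp x hxQ
        have h3 : orderOf (⟨x, hx.1⟩ : Y) ∣ Nat.card Y := orderOf_dvd_natCard _
        rw [Subgroup.orderOf_mk] at h3
        have h4 : orderOf x ∣ 3 := orderOf_dvd_of_pow_eq_one h2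
        have h5 : orderOf x ∣ 1 := by
          rw [← hYc]
          exact Nat.dvd_gcd h3 h4
        exact orderOf_eq_one_iff.1 (Nat.dvd_one.1 h5)
    have h2 : Z ≤ zpowers z := eq_of_mem_of_card_prime Nat.prime_three F.cardZ hz hz1 (mem_zpowers z)
    have h3 : y ∈ Y ⊓ centralizer (Z : Set G) := by
      refine ⟨hy, ?_⟩
      refine Subgroup.mem_centralizer_iff.2 fun w hw => ?_
      obtain ⟨n, rfl⟩ := Subgroup.mem_zpowers_iff.1 (h2 hw)
      have h4 : Commute z y := hzy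
      exact (h4.zpow_left n).eq
    rw [h1] at h3
    exact Subgroup.mem_bot.1 h3
  obtain ⟨g, hgQ, hgZ⟩ := hf
  obtain ⟨z, hz, hz1, hZz⟩ := exists_gen F
  obtain ⟨t, ht⟩ : ∃ t, t = g * z * g⁻¹ := ⟨_, rfl⟩
  have htQ : t ∈ Q := ht ▸ hgQ z hz
  have htZ : t ∉ Z := by
    intro h
    apply hgZ
    intro x hx
    rw [hZz] at hx
    obtain ⟨n, rfl⟩ := Subgroup.mem_zpowers_iff.1 hx
    rw [← conj_zpow, ← ht]
    exact Z.zpow_mem h n
  have htn : ∀ x, (∃ h, ∃ w ∈ Z, w ≠ 1 ∧ x = h * w * h⁻¹) → ∀ y ∈ Y, x * y = y * x → y = 1 := by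
    rintro x ⟨h, w, hw, hw1, rfl⟩ y hy hxy
    have h1 : h⁻¹ * y * h ∈ Y := by
      have := hYn.conj_mem y hy h⁻¹
      rwa [inv_inv] at this
    have h2 := hCY w hw hw1 _ h1 (by
      calc w * (h⁻¹ * y * h) = h⁻¹ * (h * w * h⁻¹ * y) * h := by group
        _ = h⁻¹ * (y * (h * w * h⁻¹)) * h := by rw [hxy]
        _ = h⁻¹ * y * h * w := by group)
    calc y = h * (h⁻¹ * y * h) * h⁻¹ := by group
      _ = 1 := by rw [h2]; group
  -- the group of order nine
  let S : Set G := {z, t}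
  have hcomm : ∀ x ∈ S, ∀ y ∈ S, x * y = y * x := by
    have h1 : z * t = t * z := zc F hz (F.QleC htQ)
    rintro x (rfl | rfl) y (rfl | rfl)
    · rfl
    · exact h1
    · exact h1.symm
    · rfl
  have hSQ : Subgroup.closure S ≤ Q := by
    rw [Subgroup.closure_le]
    rintro x (rfl | rfl)
    · exact ZleQ F hz
    · exact htQ
  let _ : CommGroup ↥(Subgroup.closure S) := Subgroup.closureCommGroupOfComm hcomm
  let ψ : ↥(Subgroup.closure S) →* MulAut ↥Y := (MulAut.conjNormal (H := Y)).comp (Subgroup.closure S).subtype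
  let zz : ↥(Subgroup.closure S) := ⟨z, Subgroup.subset_closure (Or.inl rfl)⟩
  let tt : ↥(Subgroup.closure S) := ⟨t, Subgroup.subset_closure (Or.inr rfl)⟩
  have hfix : ∀ (c : ↥(Subgroup.closure S)) (y : ↥Y), ψ c y = y → (c : G) * y = y * c := by
    intro c y h
    have h1 : (c : G) * y * (c : G)⁻¹ = y := congrArg Subtype.val h
    exact mul_inv_eq_iff_eq_mul.1 h1
  rw [Subgroup.eq_bot_iff_forall]
  intro y hy
  have hall := Cfsg.Agent.PLocal.OffenderBound.two_gen (A := ↥(Subgroup.closure S)) (p := 3)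
    (fun a => Subtype.ext (F.exp _ (hSQ a.2))) tt zz (Nat.card Y) (Q := ↥Y) le_rfl hYc ψ
    (fun x hx c => by
      have h1 := hCY z hz hz1 x x.2 (hfix zz x hx)
      have h2 : x = 1 := Subtype.ext h1
      rw [h2, map_one])
    (fun i x hx c => by
      have h1 : ((tt * zz ^ i : ↥(Subgroup.closure S)) : G) = z ^ i * t := by
        have h3 : Commute t (z ^ i) := (show Commute t z from (zc F hz (F.QleC htQ)).symm).pow_right i
        have h4 : ((tt * zz ^ i : ↥(Subgroup.closure S)) : G) = t * z ^ i := rfl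
        rw [h4, h3.eq]
      obtain ⟨q, hq, hqt⟩ := conj_line F htQ htZ (w := z ^ i) (Z.pow_mem hz i)
      have h2 := htn (z ^ i * t) ⟨q * g, z, hz, hz1, by rw [← hqt, ht]; group⟩ x x.2 (by
        rw [← h1]; exact hfix _ x hx)
      have h3 : x = 1 := Subtype.ext h2
      rw [h3, map_one]) ⟨y, hy⟩ zz
  exact hCY z hz hz1 y hy (hfix zz ⟨y, hy⟩ hall)

end FrameL

end Cfsg.Agent.H349.T3
end
end

-- part: H341/WeakFull
section
prune_inst 0x103009200642000000000510200020d10000009000200001204005020100c32000022100002010040200220000040060010000000000000000000000000401201000000280080000000000000004000000000000000000000000000000000000000000000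
set_option linter.all false
open scoped Cfsg.Agent.FastGrp

-- part: H341/WeakLin
section
/-!
# Linear algebra on a group of order 9
-/

set_option autoImplicit false
set_option synthInstance.maxSize 4096
set_option synthInstance.maxHeartbeats 400000

namespace Cfsg.Agent.H341.Weak

theorem exists_vec {W : Type*} [Group W] (hc : ∀ a b : W, a * b = b * a)
    (h3 : ∀ a : W, a ^ 3 = 1) (h9 : Nat.card W = 9) :
    ∃ v : W → ZMod 3 × ZMod 3, Function.Bijective v ∧ ∀ a b, v (a * b) = v a + v b := by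
  classical
  letI : CommGroup W := { ‹Group W› with mul_comm := hc }
  haveI : Finite W := Nat.finite_of_card_ne_zero (by rw [h9]; norm_num)
  letI : Module (ZMod 3) (Additive W) := AddCommGroup.zmodModule (n := 3) (fun x => by
    have := h3 x.toMul
    exact this)
  haveI : Fact (Nat.Prime 3) := ⟨by norm_num⟩
  have hcard : Nat.card (Additive W) = 9 := h9
  have hfin : Module.finrank (ZMod 3) (Additive W) = 2 := by
    haveI : Fintype (Additive W) := Fintype.ofFinite _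
    have h := Module.card_eq_pow_finrank (K := ZMod 3) (V := Additive W)
    rw [← Nat.card_eq_fintype_card, hcard, ZMod.card] at h
    have : (3 : ℕ) ^ 2 = 3 ^ Module.finrank (ZMod 3) (Additive W) := by rw [← h]; norm_num
    exact (Nat.pow_right_injective (le_refl 2 |>.trans (by norm_num)) this).symm
  let b := Module.finBasisOfFinrankEq (ZMod 3) (Additive W) hfin
  let E := b.equivFun
  refine ⟨fun a => (E (Additive.ofMul a) 0, E (Additive.ofMul a) 1), ⟨?_, ?_⟩, ?_⟩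
  · intro a a' h
    have h0 := congrArg Prod.fst h
    have h1 := congrArg Prod.snd h
    have : E (Additive.ofMul a) = E (Additive.ofMul a') := by
      funext i
      fin_cases i
      · exact h0
      · exact h1
    exact Additive.ofMul.injective (E.injective this)
  · intro p
    refine ⟨Additive.toMul (E.symm ![p.1, p.2]), ?_⟩
    simp
  · intro a a'
    simp [ofMul_mul]

/-- the linear map with columns `p`, `q` -/
def lin (p q : ZMod 3 × ZMod 3) (x : ZMod 3 × ZMod 3) : ZMod 3 × ZMod 3 :=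
  (x.1 * p.1 + x.2 * q.1, x.1 * p.2 + x.2 * q.2)

theorem lin_lin (p q p' q' x) : lin p q (lin p' q' x) = lin (lin p q p') (lin p q q') x := by
  simp only [lin, Prod.ext_iff, _root_.Cfsg.Agent.H341.Weak.lin, _root_.Prod.ext_iff]; constructor <;> ring

theorem lin_unip : ∀ p q : ZMod 3 × ZMod 3,
    lin p q (lin p q (lin p q (1, 0))) = (1, 0) → lin p q (lin p q (lin p q (0, 1))) = (0, 1) →
    ¬ (p = (1, 0) ∧ q = (0, 1)) →
    ∃ r c : ZMod 3 × ZMod 3, c ≠ 0 ∧ lin p q r = c + r ∧ lin p q c = c ∧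
      ∀ u : ZMod 3 × ZMod 3, ∃ m n : Fin 3, u = (m.val * r.1 + n.val * c.1, m.val * r.2 + n.val * c.2) := by
  decide +kernel

theorem lin_nil : ∀ p q : ZMod 3 × ZMod 3,
    lin p q (lin p q (lin p q (1, 0))) = (1, 0) → lin p q (lin p q (lin p q (0, 1))) = (0, 1) →
    ∀ x : ZMod 3 × ZMod 3, lin p q (lin p q x - x) = lin p q x - x ∧
      lin p q (lin p q (lin p q x) - x) = lin p q (lin p q x) - x := by
  decide +kernel

theorem lin_comm3 : ∀ p q : ZMod 3 × ZMod 3,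
    lin p q (lin p q (lin p q (1, 0))) = (1, 0) → lin p q (lin p q (lin p q (0, 1))) = (0, 1) →
    ¬ (p = (1, 0) ∧ q = (0, 1)) → ∀ p' q' : ZMod 3 × ZMod 3,
    lin p q p' = lin p' q' p → lin p q q' = lin p' q' q →
    lin p' q' (lin p' q' p') = (1, 0) → lin p' q' (lin p' q' q') = (0, 1) →
      (p' = (1, 0) ∧ q' = (0, 1)) ∨ (lin p q p' = (1, 0) ∧ lin p q q' = (0, 1)) ∨
      (lin p q (lin p q p') = (1, 0) ∧ lin p q (lin p q q') = (0, 1)) := by
  decide +kernel

theorem lin_comm2 : ∀ p q : ZMod 3 × ZMod 3,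
    lin p q (lin p q (lin p q (1, 0))) = (1, 0) → lin p q (lin p q (lin p q (0, 1))) = (0, 1) →
    ¬ (p = (1, 0) ∧ q = (0, 1)) → ∀ p' q' : ZMod 3 × ZMod 3,
    lin p q p' = lin p' q' p → lin p q q' = lin p' q' q →
    lin p' q' p' = (1, 0) → lin p' q' q' = (0, 1) →
      (p' = (1, 0) ∧ q' = (0, 1)) ∨ (p' = (-1, 0) ∧ q' = (0, -1)) := by
  decide +kernel

end Cfsg.Agent.H341.Weak
end

-- part: H341/WeakBlk
section
/-!
# One block `3^{1+2}` and the elements acting on it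
-/

set_option autoImplicit false

namespace Cfsg.Agent.H341.Weak

variable {G : Type*} [Group G]

structure Blk (Z U : Subgroup G) : Prop where
  cardZ : Nat.card Z = 3
  cardU : Nat.card U = 27
  ZleU : Z ≤ U
  cen : ∀ z ∈ Z, ∀ x ∈ U, z * x = x * z
  com : ∀ x ∈ U, ∀ y ∈ U, x * y * x⁻¹ * y⁻¹ ∈ Z
  exp : ∀ x ∈ U, x ^ 3 = 1

/-- `y` acts on `U` and centralizes `Z`. -/
structure Act (Z U : Subgroup G) (y : G) : Prop where
  cen : ∀ z ∈ Z, y * z * y⁻¹ = z
  nor : ∀ x ∈ U, y * x * y⁻¹ ∈ U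

/-- `y` acts trivially modulo `Z`. -/
def Triv (Z U : Subgroup G) (y : G) : Prop := ∀ x ∈ U, y * x * y⁻¹ * x⁻¹ ∈ Z

structure Coord (Z U : Subgroup G) (v : G → ZMod 3 × ZMod 3) : Prop where
  add : ∀ a ∈ U, ∀ b ∈ U, v (a * b) = v a + v b
  zero : ∀ a ∈ U, v a = 0 ↔ a ∈ Z
  surj : ∀ p, ∃ a ∈ U, v a = p

namespace Act

variable {Z U : Subgroup G} {y b : G}

theorem mul (hy : Act Z U y) (hb : Act Z U b) : Act Z U (y * b) where
  cen z hz := by
    have h1 := hb.cen z hz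
    have h2 := hy.cen z hz
    calc y * b * z * (y * b)⁻¹ = y * (b * z * b⁻¹) * y⁻¹ := by group
      _ = z := by rw [h1, h2]
  nor x hx := by
    have h1 := hy.nor _ (hb.nor x hx)
    have h2 : y * b * x * (y * b)⁻¹ = y * (b * x * b⁻¹) * y⁻¹ := by group
    rw [h2]; exact h1

theorem one : Act Z U (1 : G) where
  cen z _ := by group
  nor x hx := by simpa using hx

theorem pow (hy : Act Z U y) (n : ℕ) : Act Z U (y ^ n) := by
  induction n with
  | zero => simpa using (one : Act Z U (1 : G))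
  | succ n ih => rw [pow_succ]; exact ih.mul hy

end Act

theorem Triv.mul {Z U : Subgroup G} {y b : G} (hy : Triv Z U y) (hb : Triv Z U b)
    (hb' : Act Z U b) : Triv Z U (y * b) := by
  intro x hx
  have h1 := hb x hx
  have h2 := hy _ (hb'.nor x hx)
  have h3 : y * b * x * (y * b)⁻¹ * x⁻¹ =
    (y * (b * x * b⁻¹) * y⁻¹ * (b * x * b⁻¹)⁻¹) * (b * x * b⁻¹ * x⁻¹) := by group
  rw [h3]
  exact Z.mul_mem h2 h1

namespace Blk

variable {Z U : Subgroup G}

theorem vec (B : Blk Z U) : ∃ v : G → ZMod 3 × ZMod 3, Coord Z U v := by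
  classical
  haveI hN : (Z.subgroupOf U).Normal := by
    refine ⟨fun n hn g => ?_⟩
    rw [Subgroup.mem_subgroupOf] at hn ⊢
    have h := B.cen _ hn g g.2
    have h2 : ((g * n * g⁻¹ : U) : G) = (n : G) := by
      push_cast
      rw [← h]; group
    rw [h2]; exact hn
  have hcard : Nat.card (U ⧸ Z.subgroupOf U) = 9 := by
    have h1 := Subgroup.card_eq_card_quotient_mul_card_subgroup (Z.subgroupOf U)
    have h2 : Nat.card (Z.subgroupOf U) = 3 := by
      rw [Nat.card_congr (Subgroup.subgroupOfEquivOfLe B.ZleU).toEquiv, B.cardZ]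
    rw [h2, B.cardU] at h1
    omega
  have hc : ∀ a b : U ⧸ Z.subgroupOf U, a * b = b * a := by
    intro a b
    induction a using QuotientGroup.induction_on with | _ a =>
    induction b using QuotientGroup.induction_on with | _ b =>
    rw [← QuotientGroup.mk_mul, ← QuotientGroup.mk_mul, eq_comm, QuotientGroup.eq,
      Subgroup.mem_subgroupOf]
    have h := B.com _ (inv_mem a.2) _ (inv_mem b.2)
    have h2 : (((b * a)⁻¹ * (a * b) : U) : G) = (a : G)⁻¹ * (b : G)⁻¹ * ((a : G)⁻¹)⁻¹ * ((b : G)⁻¹)⁻¹ := by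
      push_cast; group
    rw [h2]; exact h
  have h3 : ∀ a : U ⧸ Z.subgroupOf U, a ^ 3 = 1 := by
    intro a
    induction a using QuotientGroup.induction_on with | _ a =>
    rw [← QuotientGroup.mk_pow]
    have : a ^ 3 = 1 := Subtype.ext (by push_cast; exact B.exp _ a.2)
    rw [this]; rfl
  obtain ⟨v, hv, hadd⟩ := exists_vec hc h3 hcard
  have hv1 : v 1 = 0 := by
    have := hadd 1 1
    rw [mul_one] at this
    simpa using this
  refine ⟨fun g => if hg : g ∈ U then v (QuotientGroup.mk ⟨g, hg⟩) else 0, ?_, ?_, ?_⟩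
  · intro a ha b hb
    rw [dif_pos ha, dif_pos hb, dif_pos (U.mul_mem ha hb), ← hadd]
    rfl
  · intro a ha
    rw [dif_pos ha]
    constructor
    · intro h
      have h' : ((⟨a, ha⟩ : U) : U ⧸ Z.subgroupOf U) = 1 := hv.1 (by rw [h, hv1])
      rw [QuotientGroup.eq_one_iff, Subgroup.mem_subgroupOf] at h'
      exact h'
    · intro h
      have h' : ((⟨a, ha⟩ : U) : U ⧸ Z.subgroupOf U) = 1 := by
        rw [QuotientGroup.eq_one_iff, Subgroup.mem_subgroupOf]; exact h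
      rw [h', hv1]
  · intro p
    obtain ⟨w, hw⟩ := hv.2 p
    induction w using QuotientGroup.induction_on with | _ w =>
    exact ⟨w, w.2, by rw [dif_pos w.2]; exact hw⟩

end Blk

namespace Coord

variable {Z U : Subgroup G} {v : G → ZMod 3 × ZMod 3}

theorem one (C : Coord Z U v) : v 1 = 0 := (C.zero 1 U.one_mem).2 Z.one_mem

theorem inv (C : Coord Z U v) {a : G} (ha : a ∈ U) : v a⁻¹ = - v a := by
  have := C.add a⁻¹ (inv_mem ha) a ha
  rw [inv_mul_cancel, C.one] at this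
  exact (neg_eq_of_add_eq_zero_left this.symm).symm

theorem pow (C : Coord Z U v) {a : G} (ha : a ∈ U) (n : ℕ) :
    v (a ^ n) = ((n : ZMod 3) * (v a).1, (n : ZMod 3) * (v a).2) := by
  induction n with
  | zero => simp [C.one]; rfl
  | succ n ih =>
    rw [pow_succ, C.add _ (U.pow_mem ha n) _ ha, ih]
    ext <;> push_cast <;> simp <;> ring

theorem eq_of (C : Coord Z U v) {a b : G} (ha : a ∈ U) (hb : b ∈ U) (h : v a = v b) :
    a * b⁻¹ ∈ Z := by
  rw [← C.zero _ (U.mul_mem ha (inv_mem hb)), C.add _ ha _ (inv_mem hb), C.inv hb, h]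
  simp

theorem eq_of' (C : Coord Z U v) {a b : G} (ha : a ∈ U) (hb : b ∈ U) (h : v a = v b) :
    a⁻¹ * b ∈ Z := by
  rw [← C.zero _ (U.mul_mem (inv_mem ha) hb), C.add _ (inv_mem ha) _ hb, C.inv ha, h]
  simp

/-- coordinates of a conjugate -/
theorem lin (C : Coord Z U v) (hZU : Z ≤ U) {y : G} (hy : Act Z U y) : ∃ p q : ZMod 3 × ZMod 3,
    ∀ u ∈ U, v (y * u * y⁻¹) = Weak.lin p q (v u) := by
  obtain ⟨a, haU, ha⟩ := C.surj (1, 0)
  obtain ⟨b, hbU, hb⟩ := C.surj (0, 1)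
  refine ⟨v (y * a * y⁻¹), v (y * b * y⁻¹), fun u hu => ?_⟩
  have hu2 : v u = v (a ^ (v u).1.val * b ^ (v u).2.val) := by
    rw [C.add _ (U.pow_mem haU _) _ (U.pow_mem hbU _), C.pow haU, C.pow hbU, ha, hb]
    ext <;> simp
  have hmem : (a ^ (v u).1.val * b ^ (v u).2.val) ∈ U :=
    U.mul_mem (U.pow_mem haU _) (U.pow_mem hbU _)
  have hw := C.eq_of hu hmem hu2
  set w := u * (a ^ (v u).1.val * b ^ (v u).2.val)⁻¹ with hwdef
  have hu3 : u = w * (a ^ (v u).1.val * b ^ (v u).2.val) := by rw [hwdef]; group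
  have hwU := hZU hw
  have hconj : y * u * y⁻¹ = w * ((y * a * y⁻¹) ^ (v u).1.val * (y * b * y⁻¹) ^ (v u).2.val) := by
    rw [conj_pow, conj_pow]
    conv_lhs => rw [hu3]
    have h1 := hy.cen w hw
    calc y * (w * (a ^ (v u).1.val * b ^ (v u).2.val)) * y⁻¹
        = (y * w * y⁻¹) * (y * a ^ (v u).1.val * y⁻¹ * (y * b ^ (v u).2.val * y⁻¹)) := by group
      _ = _ := by rw [h1]
  have h1 := hy.nor a haU
  have h2 := hy.nor b hbU
  rw [hconj, C.add _ hwU _ (U.mul_mem (U.pow_mem h1 _) (U.pow_mem h2 _)),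
    C.add _ (U.pow_mem h1 _) _ (U.pow_mem h2 _), C.pow h1, C.pow h2, (C.zero w hwU).2 hw]
  simp only [Weak.lin, Prod.ext_iff, _root_.ZMod.natCast_val, _root_.ZMod.cast_id', _root_.id_eq, _root_.Prod.mk_add_mk, _root_.zero_add, _root_.Cfsg.Agent.H341.Weak.lin]

end Coord

/-- what an element of order 3 does on a block on which it acts nontrivially -/
structure Unip (Z U : Subgroup G) (y r c : G) : Prop where
  rU : r ∈ U
  cU : c ∈ U
  cZ : c ∉ Z
  yr : y * r * y⁻¹ = c * r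
  yc : y * c * y⁻¹ * c⁻¹ ∈ Z
  gen : ∀ u ∈ U, ∃ m n : Fin 3, ∃ w ∈ Z, u = r ^ m.val * c ^ n.val * w
  fix : ∀ u ∈ U, y * u * y⁻¹ * u⁻¹ ∈ Z → ∃ n : Fin 3, ∃ w ∈ Z, u = c ^ n.val * w
  two : ∀ u ∈ U, y * (y⁻¹ * u * y * u⁻¹) * y⁻¹ * (y⁻¹ * u * y * u⁻¹)⁻¹ ∈ Z

namespace Blk

variable {Z U : Subgroup G}

theorem conj_cube {G : Type*} [Group G] {y : G} (hy3 : y ^ 3 = 1) (u : G) :
    y * (y * (y * u * y⁻¹) * y⁻¹) * y⁻¹ = u := by
  have h1 : y * (y * (y * u * y⁻¹) * y⁻¹) * y⁻¹ = (y * y * y) * u * (y * y * y)⁻¹ := by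
    simp only [mul_inv_rev, mul_assoc]
  have h2 : y * y * y = 1 := by rw [← hy3]; simp [pow_succ]
  rw [h1, h2]; simp

theorem lin_id (p q : ZMod 3 × ZMod 3) (hp : p = (1, 0)) (hq : q = (0, 1)) (x : ZMod 3 × ZMod 3) :
    lin p q x = x := by
  subst hp hq
  simp [lin]

theorem triv_of_id (_B : Blk Z U) {v : G → ZMod 3 × ZMod 3} (C : Coord Z U v) {y : G}
    (hy : Act Z U y) (h : ∀ u ∈ U, v (y * u * y⁻¹) = v u) : Triv Z U y := by
  intro x hx
  exact C.eq_of (hy.nor x hx) hx (h x hx)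

theorem unip (B : Blk Z U) {y : G} (hy : Act Z U y) (hy3 : y ^ 3 = 1) (hn : ¬ Triv Z U y) :
    ∃ r c, Unip Z U y r c := by
  obtain ⟨v, C⟩ := B.vec
  obtain ⟨p, q, hpq⟩ := C.lin B.ZleU hy
  have hcube : ∀ x, lin p q (lin p q (lin p q x)) = x := by
    intro x
    obtain ⟨u, hu, rfl⟩ := C.surj x
    rw [← hpq u hu, ← hpq _ (hy.nor u hu), ← hpq _ (hy.nor _ (hy.nor u hu))]
    congr 1
    exact conj_cube hy3 u
  have hne : ¬ (p = (1, 0) ∧ q = (0, 1)) := by
    rintro ⟨h1, h2⟩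
    exact hn (B.triv_of_id C hy fun u hu => by rw [hpq u hu, lin_id p q h1 h2])
  obtain ⟨r', c', hc0, hr, hc, hgen⟩ := lin_unip p q (hcube _) (hcube _) hne
  obtain ⟨r, hrU, hvr⟩ := C.surj r'
  have hyrU := hy.nor r hrU
  have hcU : y * r * y⁻¹ * r⁻¹ ∈ U := U.mul_mem hyrU (inv_mem hrU)
  have hvc : v (y * r * y⁻¹ * r⁻¹) = c' := by
    rw [C.add _ hyrU _ (inv_mem hrU), C.inv hrU, hpq r hrU, hvr, hr]
    simp
  have key : ∀ u ∈ U, ∃ m n : Fin 3, ∃ w ∈ Z,
      u = r ^ m.val * (y * r * y⁻¹ * r⁻¹) ^ n.val * w := by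
    intro u hu
    obtain ⟨m, n, hmn⟩ := hgen (v u)
    have hmem : r ^ m.val * (y * r * y⁻¹ * r⁻¹) ^ n.val ∈ U :=
      U.mul_mem (U.pow_mem hrU _) (U.pow_mem hcU _)
    refine ⟨m, n, (r ^ m.val * (y * r * y⁻¹ * r⁻¹) ^ n.val)⁻¹ * u, ?_, by group⟩
    apply C.eq_of' hmem hu
    rw [C.add _ (U.pow_mem hrU _) _ (U.pow_mem hcU _), C.pow hrU, C.pow hcU, hvr, hvc, hmn]
    rfl
  refine ⟨r, y * r * y⁻¹ * r⁻¹, hrU, hcU, ?_, by group, ?_, key, ?_, ?_⟩
  · intro h
    exact hc0 (by rw [← hvc]; exact (C.zero _ hcU).2 h)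
  · apply C.eq_of (hy.nor _ hcU) hcU
    rw [hpq _ hcU, hvc, hc]
  · intro u hu hfix
    obtain ⟨m, n, w, hw, hu2⟩ := key u hu
    -- `v (y u y⁻¹) = v u + m c'`
    have h1 : v (y * u * y⁻¹) = v u := by
      have : y * u * y⁻¹ = (y * u * y⁻¹ * u⁻¹) * u := by group
      rw [this, C.add _ (B.ZleU hfix) _ hu, (C.zero _ (B.ZleU hfix)).2 hfix, zero_add]
    have hwU := B.ZleU hw
    have hvu : v u = (m.val * r'.1 + n.val * c'.1, m.val * r'.2 + n.val * c'.2) := by
      rw [hu2, C.add _ (U.mul_mem (U.pow_mem hrU _) (U.pow_mem hcU _)) _ hwU,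
        C.add _ (U.pow_mem hrU _) _ (U.pow_mem hcU _), C.pow hrU, C.pow hcU, hvr, hvc,
        (C.zero _ hwU).2 hw]
      simp only [_root_.Prod.mk_add_mk, _root_.add_zero]
    rw [hpq u hu, hvu] at h1
    have hr1 : lin p q r' = c' + r' := hr
    have h2 : lin p q (m.val * r'.1 + n.val * c'.1, m.val * r'.2 + n.val * c'.2) =
        (m.val * (c'.1 + r'.1) + n.val * c'.1, m.val * (c'.2 + r'.2) + n.val * c'.2) := by
      have e1 := congrArg Prod.fst hr
      have e2 := congrArg Prod.snd hr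
      have e3 := congrArg Prod.fst hc
      have e4 := congrArg Prod.snd hc
      simp only [lin, Prod.fst_add, Prod.snd_add] at e1 e2 e3 e4 ⊢
      refine Prod.ext ?_ ?_
      · simp only
        linear_combination (m.val : ZMod 3) * e1 + (n.val : ZMod 3) * e3
      · simp only
        linear_combination (m.val : ZMod 3) * e2 + (n.val : ZMod 3) * e4
    rw [h2] at h1
    have hm : (m.val : ZMod 3) = 0 := by
      by_contra hm
      apply hc0
      have e1 := congrArg Prod.fst h1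
      have e2 := congrArg Prod.snd h1
      simp only at e1 e2
      have f1 : (m.val : ZMod 3) * c'.1 = 0 := by linear_combination e1
      have f2 : (m.val : ZMod 3) * c'.2 = 0 := by linear_combination e2
      haveI : Fact (Nat.Prime 3) := ⟨by norm_num⟩
      exact Prod.ext ((mul_eq_zero.1 f1).resolve_left hm) ((mul_eq_zero.1 f2).resolve_left hm)
    have hm0 : m.val = 0 := by
      rw [ZMod.natCast_eq_zero_iff] at hm
      have := m.2
      omega
    refine ⟨n, w, hw, ?_⟩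
    rw [hu2, hm0]; group
  · intro u hu
    have hinv : y⁻¹ * u * y = y * (y * u * y⁻¹) * y⁻¹ := by
      have h := conj_cube hy3 u
      calc y⁻¹ * u * y = y⁻¹ * (y * (y * (y * u * y⁻¹) * y⁻¹) * y⁻¹) * y := by rw [h]
        _ = _ := by group
    have h1U : y⁻¹ * u * y ∈ U := by rw [hinv]; exact hy.nor _ (hy.nor _ hu)
    have h2U : y⁻¹ * u * y * u⁻¹ ∈ U := U.mul_mem h1U (inv_mem hu)
    have hv : v (y⁻¹ * u * y * u⁻¹) = lin p q (lin p q (v u)) - v u := by
      rw [C.add _ h1U _ (inv_mem hu), C.inv hu, hinv, hpq _ (hy.nor _ hu), hpq u hu,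
        ← sub_eq_add_neg]
    apply C.eq_of (hy.nor _ h2U) h2U
    rw [hpq _ h2U, hv]
    exact (lin_nil p q (hcube _) (hcube _) (v u)).2

/-- the centralizer in `SL₂(3)` of an element of order 3, elements of order 3 -/
theorem comm3 (B : Blk Z U) {y b : G} (hy : Act Z U y) (hy3 : y ^ 3 = 1) (hn : ¬ Triv Z U y)
    (hb : Act Z U b) (hb3 : b ^ 3 = 1) (hyb : y * b = b * y) :
    ∃ m : Fin 3, Triv Z U (y ^ m.val * b) := by
  obtain ⟨v, C⟩ := B.vec
  obtain ⟨p, q, hpq⟩ := C.lin B.ZleU hy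
  obtain ⟨p', q', hpq'⟩ := C.lin B.ZleU hb
  have hcube : ∀ x, lin p q (lin p q (lin p q x)) = x := by
    intro x
    obtain ⟨u, hu, rfl⟩ := C.surj x
    rw [← hpq u hu, ← hpq _ (hy.nor u hu), ← hpq _ (hy.nor _ (hy.nor u hu)), conj_cube hy3 u]
  have hcube' : ∀ x, lin p' q' (lin p' q' (lin p' q' x)) = x := by
    intro x
    obtain ⟨u, hu, rfl⟩ := C.surj x
    rw [← hpq' u hu, ← hpq' _ (hb.nor u hu), ← hpq' _ (hb.nor _ (hb.nor u hu)), conj_cube hb3 u]
  have hcomm : ∀ x, lin p q (lin p' q' x) = lin p' q' (lin p q x) := by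
    intro x
    obtain ⟨u, hu, rfl⟩ := C.surj x
    rw [← hpq u hu, ← hpq' _ (hy.nor u hu), ← hpq' u hu, ← hpq _ (hb.nor u hu)]
    congr 1
    calc y * (b * u * b⁻¹) * y⁻¹ = (y * b) * u * (y * b)⁻¹ := by group
      _ = (b * y) * u * (b * y)⁻¹ := by rw [hyb]
      _ = _ := by group
  have hne : ¬ (p = (1, 0) ∧ q = (0, 1)) := by
    rintro ⟨h1, h2⟩
    exact hn (B.triv_of_id C hy fun u hu => by rw [hpq u hu, lin_id p q h1 h2])
  have l10 : ∀ a b : ZMod 3 × ZMod 3, lin a b (1, 0) = a := fun a b => by simp [lin]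
  have l01 : ∀ a b : ZMod 3 × ZMod 3, lin a b (0, 1) = b := fun a b => by simp [lin]
  have c1 := hcomm (1, 0)
  have c2 := hcomm (0, 1)
  have d1 := hcube' (1, 0)
  have d2 := hcube' (0, 1)
  rw [l10, l10] at c1
  rw [l01, l01] at c2
  rw [l10] at d1
  rw [l01] at d2
  rcases lin_comm3 p q (hcube _) (hcube _) hne p' q' c1 c2 d1 d2 with h | h | h
  · refine ⟨0, ?_⟩
    have : y ^ (0 : Fin 3).val * b = b := by simp
    rw [this]
    exact B.triv_of_id C hb fun u hu => by rw [hpq' u hu, lin_id p' q' h.1 h.2]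
  · refine ⟨1, ?_⟩
    have : y ^ (1 : Fin 3).val * b = y * b := by simp
    rw [this]
    refine B.triv_of_id C (hy.mul hb) fun u hu => ?_
    have e1 : y * b * u * (y * b)⁻¹ = y * (b * u * b⁻¹) * y⁻¹ := by group
    rw [e1, hpq _ (hb.nor u hu), hpq' u hu, lin_lin, lin_id _ _ h.1 h.2]
  · refine ⟨2, ?_⟩
    have : y ^ (2 : Fin 3).val * b = y * (y * b) := by
      show y ^ 2 * b = _
      rw [pow_two, mul_assoc]
    rw [this]
    refine B.triv_of_id C (hy.mul (hy.mul hb)) fun u hu => ?_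
    have e1 : y * (y * b) * u * (y * (y * b))⁻¹ = y * (y * (b * u * b⁻¹) * y⁻¹) * y⁻¹ := by group
    rw [e1, hpq _ (hy.nor _ (hb.nor u hu)), hpq _ (hb.nor u hu), hpq' u hu, lin_lin p q p' q',
      lin_lin p q (lin p q p') (lin p q q'), lin_id _ _ h.1 h.2]

/-- the centralizer in `SL₂(3)` of an element of order 3, involutions -/
theorem comm2 (B : Blk Z U) {y b : G} (hy : Act Z U y) (hy3 : y ^ 3 = 1) (hn : ¬ Triv Z U y)
    (hb : Act Z U b) (hb2 : b * b = 1) (hyb : y * b = b * y) :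
    Triv Z U b ∨ ∀ x ∈ U, b * x * b⁻¹ * x ∈ Z := by
  obtain ⟨v, C⟩ := B.vec
  obtain ⟨p, q, hpq⟩ := C.lin B.ZleU hy
  obtain ⟨p', q', hpq'⟩ := C.lin B.ZleU hb
  have hcube : ∀ x, lin p q (lin p q (lin p q x)) = x := by
    intro x
    obtain ⟨u, hu, rfl⟩ := C.surj x
    rw [← hpq u hu, ← hpq _ (hy.nor u hu), ← hpq _ (hy.nor _ (hy.nor u hu)), conj_cube hy3 u]
  have hsq' : ∀ x, lin p' q' (lin p' q' x) = x := by
    intro x
    obtain ⟨u, hu, rfl⟩ := C.surj x
    rw [← hpq' u hu, ← hpq' _ (hb.nor u hu)]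
    congr 1
    calc b * (b * u * b⁻¹) * b⁻¹ = (b * b) * u * (b * b)⁻¹ := by group
      _ = u := by rw [hb2]; group
  have hcomm : ∀ x, lin p q (lin p' q' x) = lin p' q' (lin p q x) := by
    intro x
    obtain ⟨u, hu, rfl⟩ := C.surj x
    rw [← hpq u hu, ← hpq' _ (hy.nor u hu), ← hpq' u hu, ← hpq _ (hb.nor u hu)]
    congr 1
    calc y * (b * u * b⁻¹) * y⁻¹ = (y * b) * u * (y * b)⁻¹ := by group
      _ = (b * y) * u * (b * y)⁻¹ := by rw [hyb]
      _ = _ := by group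
  have hne : ¬ (p = (1, 0) ∧ q = (0, 1)) := by
    rintro ⟨h1, h2⟩
    exact hn (B.triv_of_id C hy fun u hu => by rw [hpq u hu, lin_id p q h1 h2])
  have l10 : ∀ a b : ZMod 3 × ZMod 3, lin a b (1, 0) = a := fun a b => by simp [lin]
  have l01 : ∀ a b : ZMod 3 × ZMod 3, lin a b (0, 1) = b := fun a b => by simp [lin]
  have c1 := hcomm (1, 0)
  have c2 := hcomm (0, 1)
  have d1 := hsq' (1, 0)
  have d2 := hsq' (0, 1)
  rw [l10, l10] at c1
  rw [l01, l01] at c2
  rw [l10] at d1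
  rw [l01] at d2
  rcases lin_comm2 p q (hcube _) (hcube _) hne p' q' c1 c2 d1 d2 with h | h
  · left
    exact B.triv_of_id C hb fun u hu => by rw [hpq' u hu, lin_id p' q' h.1 h.2]
  · right
    intro x hx
    rw [← C.zero _ (U.mul_mem (hb.nor x hx) hx), C.add _ (hb.nor x hx) _ hx, hpq' x hx, h.1, h.2]
    simp only [lin, Prod.ext_iff, _root_.Cfsg.Agent.H341.Weak.lin, _root_.mul_neg, _root_.mul_one, _root_.MulZeroClass.mul_zero, _root_.add_zero, _root_.zero_add, _root_.Prod.ext_iff, _root_.Prod.fst_add, _root_.neg_add_cancel, _root_.Prod.fst_zero, _root_.Prod.snd_add, _root_.Prod.snd_zero, _root_.and_self]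

/-- an element acting trivially and commuting with `y` centralizes the fixed space of `y`. -/
theorem comm_of_triv (B : Blk Z U) {y r c : G} (H : Unip Z U y r c) {h : G}
    (hy : Act Z U y)
    (ht : Triv Z U h) (hyh : y * h = h * y) : h * c = c * h := by
  have h1 := ht r H.rU
  set w := h * r * h⁻¹ * r⁻¹ with hw
  have h2 : h * r * h⁻¹ = w * r := by rw [hw]; group
  have h3 : c = y * r * y⁻¹ * r⁻¹ := by rw [H.yr]; group
  have h4 : h * c * h⁻¹ = c := by
    calc h * c * h⁻¹ = (h * y) * r * (h * y)⁻¹ * (h * r * h⁻¹)⁻¹ := by rw [h3]; group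
      _ = (y * h) * r * (y * h)⁻¹ * (h * r * h⁻¹)⁻¹ := by rw [hyh]
      _ = y * (h * r * h⁻¹) * y⁻¹ * (h * r * h⁻¹)⁻¹ := by group
      _ = (y * w * y⁻¹) * (y * r * y⁻¹) * r⁻¹ * w⁻¹ := by rw [h2]; group
      _ = w * (y * r * y⁻¹ * r⁻¹) * w⁻¹ := by rw [hy.cen w h1]; group
      _ = w * c * w⁻¹ := by rw [← h3]
      _ = c := by rw [B.cen w h1 c H.cU]; group
  calc h * c = (h * c * h⁻¹) * h := by group
    _ = c * h := by rw [h4]

end Blk

end Cfsg.Agent.H341.Weak
end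

-- part: H341/WeakFrame
section
/-!
# Elementary facts on frames
-/

set_option autoImplicit false

namespace Cfsg.Agent.H341.Weak

theorem cov3 : ∀ i j k : Fin 3, i ≠ j → i ≠ k → j ≠ k → ∀ l : Fin 3, l = i ∨ l = j ∨ l = k := by
  decide

theorem exists_jk : ∀ i : Fin 3, ∃ j k : Fin 3, i ≠ j ∧ i ≠ k ∧ j ≠ k := by decide

namespace Blk

variable {G : Type*} [Group G] {Z U : Subgroup G}

theorem gens (B : Blk Z U) : ∃ a ∈ U, ∃ b ∈ U,
    ∀ u ∈ U, ∃ m n : Fin 3, ∃ w ∈ Z, u = a ^ m.val * b ^ n.val * w := by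
  obtain ⟨v, C⟩ := B.vec
  obtain ⟨a, haU, ha⟩ := C.surj (1, 0)
  obtain ⟨b, hbU, hb⟩ := C.surj (0, 1)
  refine ⟨a, haU, b, hbU, fun u hu => ?_⟩
  have hmem : (a ^ (v u).1.val * b ^ (v u).2.val) ∈ U :=
    U.mul_mem (U.pow_mem haU _) (U.pow_mem hbU _)
  refine ⟨⟨(v u).1.val, ZMod.val_lt _⟩, ⟨(v u).2.val, ZMod.val_lt _⟩,
    (a ^ (v u).1.val * b ^ (v u).2.val)⁻¹ * u, ?_, by group⟩
  apply C.eq_of' hmem hu
  rw [C.add _ (U.pow_mem haU _) _ (U.pow_mem hbU _), C.pow haU, C.pow hbU, ha, hb]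
  ext <;> simp

/-- powers of a nontrivial element of `Z` -/
theorem powZ (B : Blk Z U) {w : G} (hw : w ∈ Z) (hw1 : w ≠ 1) {z : G} (hz : z ∈ Z) :
    ∃ m : Fin 3, z = w ^ m.val := by
  classical
  haveI : Fact (Nat.Prime 3) := ⟨by norm_num⟩
  have h1 : (⟨w, hw⟩ : Z) ≠ 1 := fun h => hw1 (congrArg Subtype.val h)
  have h2 := mem_zpowers_of_prime_card (G := Z) (p := 3) B.cardZ (g := ⟨w, hw⟩) (g' := ⟨z, hz⟩) h1
  have hfin : Finite Z := Nat.finite_of_card_ne_zero (by rw [B.cardZ]; norm_num)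
  rw [mem_zpowers_iff_mem_range_orderOf] at h2
  simp only [Finset.mem_image, Finset.mem_range] at h2
  obtain ⟨m, hm, hm2⟩ := h2
  have ho : orderOf (⟨w, hw⟩ : Z) ∣ 3 := by rw [← B.cardZ]; exact orderOf_dvd_natCard _
  have ho3 : orderOf (⟨w, hw⟩ : Z) ≤ 3 := Nat.le_of_dvd (by norm_num) ho
  exact ⟨⟨m, by omega⟩, (congrArg Subtype.val hm2).symm⟩

/-- an automorphism trivial modulo `Z` is inner -/
theorem inner (B : Blk Z U) (hna : ∃ x ∈ U, ∃ y ∈ U, x * y ≠ y * x) {h : G}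
    (ht : Triv Z U h) (hA : Act Z U h) : ∃ q ∈ U, ∀ x ∈ U, q * x * q⁻¹ = h * x * h⁻¹ := by
  obtain ⟨a, haU, b, hbU, hgen⟩ := B.gens
  have hw0Z := B.com a haU b hbU
  set w0 := a * b * a⁻¹ * b⁻¹ with hw0
  have hab : a * b = w0 * b * a := by rw [hw0]; group
  have hw01 : w0 ≠ 1 := by
    intro h1
    obtain ⟨x, hx, y, hy, hxy⟩ := hna
    apply hxy
    have hab' : Commute a b := by show a * b = b * a; rw [hab, h1, one_mul]
    obtain ⟨m, n, w, hw, rfl⟩ := hgen x hx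
    obtain ⟨m', n', w', hw', rfl⟩ := hgen y hy
    have cw : ∀ u ∈ U, Commute w u := fun u hu => B.cen w hw u hu
    have cw' : ∀ u ∈ U, Commute w' u := fun u hu => B.cen w' hw' u hu
    have h2 : Commute (a ^ m.val * b ^ n.val) (a ^ m'.val * b ^ n'.val) :=
      ((Commute.refl a).pow_pow _ _ |>.mul_right (hab'.pow_pow _ _)).mul_left
        ((hab'.symm.pow_pow _ _).mul_right ((Commute.refl b).pow_pow _ _))
    have h3 : Commute w (a ^ m'.val * b ^ n'.val * w') := cw _ hy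
    have h4 : Commute w' (a ^ m.val * b ^ n.val) := cw' _
      (U.mul_mem (U.pow_mem haU _) (U.pow_mem hbU _))
    exact (h2.mul_right h4.symm).mul_left h3
  obtain ⟨i, hi⟩ := B.powZ hw0Z hw01 (ht b hbU)
  obtain ⟨j, hj⟩ := B.powZ hw0Z hw01 (inv_mem (ht a haU))
  have cw0 : ∀ u ∈ U, Commute w0 u := fun u hu => B.cen w0 hw0Z u hu
  have hi2 : h * b * h⁻¹ = w0 ^ i.val * b := by rw [← hi]; group
  have hj2 : h * a * h⁻¹ = (w0 ^ j.val)⁻¹ * a := by rw [← hj]; group
  -- conjugation by powers of `a`, `b`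
  have hA1 : ∀ n : ℕ, a ^ n * b * (a ^ n)⁻¹ = w0 ^ n * b := by
    intro n
    induction n with
    | zero => simp
    | succ n ih =>
      have e1 : a ^ (n + 1) * b * (a ^ (n + 1))⁻¹ = a * (a ^ n * b * (a ^ n)⁻¹) * a⁻¹ := by
        rw [pow_succ']; group
      have e2 : a * w0 ^ n = w0 ^ n * a := ((cw0 a haU).pow_left n).symm.eq
      rw [e1, ih]
      calc a * (w0 ^ n * b) * a⁻¹ = (a * w0 ^ n) * b * a⁻¹ := by group
        _ = w0 ^ n * (a * b) * a⁻¹ := by rw [e2]; group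
        _ = w0 ^ (n + 1) * b := by rw [hab, pow_succ]; group
  have hba : b * a = w0⁻¹ * a * b := by
    have e3 : w0 * b = b * w0 := (cw0 b hbU).eq
    have e4 : w0⁻¹ * a * b = w0⁻¹ * (a * b) := by group
    rw [e4, hab]; group
  have hB1 : ∀ n : ℕ, b ^ n * a * (b ^ n)⁻¹ = (w0 ^ n)⁻¹ * a := by
    intro n
    induction n with
    | zero => simp
    | succ n ih =>
      have e1 : b ^ (n + 1) * a * (b ^ (n + 1))⁻¹ = b * (b ^ n * a * (b ^ n)⁻¹) * b⁻¹ := by
        rw [pow_succ']; group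
      have e2 : b * (w0 ^ n)⁻¹ = (w0 ^ n)⁻¹ * b := (((cw0 b hbU).pow_left n).inv_left).symm.eq
      rw [e1, ih]
      calc b * ((w0 ^ n)⁻¹ * a) * b⁻¹ = (b * (w0 ^ n)⁻¹) * a * b⁻¹ := by group
        _ = (w0 ^ n)⁻¹ * (b * a) * b⁻¹ := by rw [e2]; group
        _ = (w0 ^ (n + 1))⁻¹ * a := by rw [hba, pow_succ']; group
  have hqU : a ^ i.val * b ^ j.val ∈ U := U.mul_mem (U.pow_mem haU _) (U.pow_mem hbU _)
  refine ⟨a ^ i.val * b ^ j.val, hqU, ?_⟩
  have hqa : (a ^ i.val * b ^ j.val) * a * (a ^ i.val * b ^ j.val)⁻¹ = h * a * h⁻¹ := by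
    calc (a ^ i.val * b ^ j.val) * a * (a ^ i.val * b ^ j.val)⁻¹
        = a ^ i.val * (b ^ j.val * a * (b ^ j.val)⁻¹) * (a ^ i.val)⁻¹ := by group
      _ = a ^ i.val * ((w0 ^ j.val)⁻¹ * a) * (a ^ i.val)⁻¹ := by rw [hB1]
      _ = (w0 ^ j.val)⁻¹ * (a ^ i.val * a * (a ^ i.val)⁻¹) := by
          have := (((cw0 a haU).pow_pow j.val i.val).inv_left).eq
          calc a ^ i.val * ((w0 ^ j.val)⁻¹ * a) * (a ^ i.val)⁻¹
              = (a ^ i.val * (w0 ^ j.val)⁻¹) * a * (a ^ i.val)⁻¹ := by group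
            _ = ((w0 ^ j.val)⁻¹ * a ^ i.val) * a * (a ^ i.val)⁻¹ := by rw [this]
            _ = _ := by group
      _ = (w0 ^ j.val)⁻¹ * a := by congr 1; rw [← pow_succ, pow_succ']; group
      _ = h * a * h⁻¹ := hj2.symm
  have hqb : (a ^ i.val * b ^ j.val) * b * (a ^ i.val * b ^ j.val)⁻¹ = h * b * h⁻¹ := by
    calc (a ^ i.val * b ^ j.val) * b * (a ^ i.val * b ^ j.val)⁻¹
        = a ^ i.val * (b ^ j.val * b * (b ^ j.val)⁻¹) * (a ^ i.val)⁻¹ := by group
      _ = a ^ i.val * b * (a ^ i.val)⁻¹ := by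
          congr 2; rw [← pow_succ, pow_succ']; group
      _ = w0 ^ i.val * b := hA1 _
      _ = h * b * h⁻¹ := hi2.symm
  intro x hx
  obtain ⟨m, n, w, hw, rfl⟩ := hgen x hx
  set q := a ^ i.val * b ^ j.val with hq
  have e1 : ∀ g : G, g * (a ^ m.val * b ^ n.val * w) * g⁻¹ =
      (g * a * g⁻¹) ^ m.val * (g * b * g⁻¹) ^ n.val * (g * w * g⁻¹) := by
    intro g
    rw [conj_pow, conj_pow]; group
  rw [e1 q, e1 h, hqa, hqb, hA.cen w hw]
  congr 1
  rw [← B.cen w hw q hqU]; group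

end Blk

namespace Frame

variable {G : Type*} [Group G] {Z Q : Subgroup G} {U : Fin 3 → Subgroup G} {e : Fin 3 → G}

theorem ZleQ (F : Frame Z Q U e) : Z ≤ Q := (F.ZleU 0).trans (F.UleQ 0)

theorem zc (F : Frame Z Q U e) {z x : G} (hz : z ∈ Z) (hx : x ∈ Q) : z * x = x * z :=
  Subgroup.mem_centralizer_iff.1 (F.QleC hx) z hz

theorem cz {c z : G} (hc : c ∈ Subgroup.centralizer (Z : Set G)) (hz : z ∈ Z) :
    c * z * c⁻¹ = z := by
  have := Subgroup.mem_centralizer_iff.1 hc z hz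
  rw [← this]; group

theorem blk (F : Frame Z Q U e) (i : Fin 3) : Blk Z (U i) where
  cardZ := F.cardZ
  cardU := F.cardU i
  ZleU := F.ZleU i
  cen z hz x hx := F.zc hz (F.UleQ i hx)
  com x hx y hy := F.comZ x (F.UleQ i hx) y (F.UleQ i hy)
  exp x hx := F.exp x (F.UleQ i hx)

theorem mul3 (F : Frame Z Q U e) {i j k : Fin 3} (hij : i ≠ j) (hik : i ≠ k) (hjk : j ≠ k) :
    ∀ x ∈ Q, ∃ u ∈ U i, ∃ v ∈ U j, ∃ w ∈ U k, x = u * v * w := by
  let S : Subgroup G :=
    { carrier := {x | ∃ u ∈ U i, ∃ v ∈ U j, ∃ w ∈ U k, x = u * v * w}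
      one_mem' := ⟨1, one_mem _, 1, one_mem _, 1, one_mem _, by simp⟩
      mul_mem' := by
        rintro _ _ ⟨u, hu, v, hv, w, hw, rfl⟩ ⟨u', hu', v', hv', w', hw', rfl⟩
        refine ⟨u * u', mul_mem hu hu', v * v', mul_mem hv hv', w * w', mul_mem hw hw', ?_⟩
        have h1 := F.comm i j hij u' hu' v hv
        have h2 := F.comm i k hik u' hu' w hw
        have h3 := F.comm j k hjk v' hv' w hw
        calc u * v * w * (u' * v' * w') = u * v * (w * u') * v' * w' := by group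
          _ = u * (v * u') * w * v' * w' := by rw [← h2]; group
          _ = u * u' * v * (w * v') * w' := by rw [← h1]; group
          _ = u * u' * (v * v') * (w * w') := by rw [← h3]; group
      inv_mem' := by
        rintro _ ⟨u, hu, v, hv, w, hw, rfl⟩
        refine ⟨u⁻¹, inv_mem hu, v⁻¹, inv_mem hv, w⁻¹, inv_mem hw, ?_⟩
        have h1 := F.comm i j hij u⁻¹ (inv_mem hu) v⁻¹ (inv_mem hv)
        have h2 := F.comm i k hik u⁻¹ (inv_mem hu) w⁻¹ (inv_mem hw)
        have h3 := F.comm j k hjk v⁻¹ (inv_mem hv) w⁻¹ (inv_mem hw)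
        calc (u * v * w)⁻¹ = w⁻¹ * v⁻¹ * u⁻¹ := by group
          _ = v⁻¹ * (w⁻¹ * u⁻¹) := by rw [← h3]; group
          _ = v⁻¹ * u⁻¹ * w⁻¹ := by rw [← h2]; group
          _ = u⁻¹ * v⁻¹ * w⁻¹ := by rw [← h1] }
  have hU : ∀ l, U l ≤ S := by
    intro l x hx
    rcases cov3 i j k hij hik hjk l with rfl | rfl | rfl
    · exact ⟨x, hx, 1, one_mem _, 1, one_mem _, by simp⟩
    · exact ⟨1, one_mem _, x, hx, 1, one_mem _, by simp⟩
    · exact ⟨1, one_mem _, 1, one_mem _, x, hx, by simp⟩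
  intro x hx
  rw [F.sup] at hx
  exact (sup_le (sup_le (hU 0) (hU 1)) (hU 2)) hx

theorem commQ (F : Frame Z Q U e) {g : G} (h : ∀ i, ∀ u ∈ U i, g * u = u * g) :
    ∀ x ∈ Q, g * x = x * g := by
  intro x hx
  obtain ⟨u, hu, v, hv, w, hw, rfl⟩ := F.mul3 (i := 0) (j := 1) (k := 2) (by decide) (by decide)
    (by decide) x hx
  have c1 : Commute g u := h 0 u hu
  have c2 : Commute g v := h 1 v hv
  have c3 : Commute g w := h 2 w hw
  exact (c1.mul_right c2).mul_right c3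

theorem cenU (F : Frame Z Q U e) {i : Fin 3} {x : G} (hx : x ∈ U i)
    (h : ∀ u ∈ U i, x * u = u * x) : x ∈ Z := by
  apply F.cenZ x (F.UleQ i hx)
  apply F.commQ
  intro j u hu
  by_cases hij : i = j
  · subst hij; exact h u hu
  · exact F.comm i j hij x hx u hu

theorem inter (F : Frame Z Q U e) {i j : Fin 3} (hij : i ≠ j) {x : G} (hx : x ∈ U i)
    (hx' : x ∈ U j) : x ∈ Z :=
  F.cenU hx' fun u hu => F.comm i j hij x hx u hu

theorem indep1 (F : Frame Z Q U e) {i j k : Fin 3} (hij : i ≠ j) (hik : i ≠ k)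
    {u v w : G} (hu : u ∈ U i) (hv : v ∈ U j) (hw : w ∈ U k) (h : u * v * w ∈ Z) : u ∈ Z := by
  apply F.cenU hu
  intro x hx
  have h1 : Commute v x := (F.comm i j hij x hx v hv).symm
  have h2 : Commute w x := (F.comm i k hik x hx w hw).symm
  have h3 : Commute (u * v * w) x := F.zc h (F.UleQ i hx)
  have h4 : u = (u * v * w) * w⁻¹ * v⁻¹ := by group
  have h5 : Commute ((u * v * w) * w⁻¹ * v⁻¹) x :=
    (h3.mul_left h2.inv_left).mul_left h1.inv_left
  rw [h4]; exact h5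

theorem indep (F : Frame Z Q U e) {i j k : Fin 3} (hij : i ≠ j) (hik : i ≠ k) (hjk : j ≠ k)
    {u v w : G} (hu : u ∈ U i) (hv : v ∈ U j) (hw : w ∈ U k) (h : u * v * w ∈ Z) :
    u ∈ Z ∧ v ∈ Z ∧ w ∈ Z := by
  have h1 := F.indep1 hij hik hu hv hw h
  have h2 : v * u * w ∈ Z := by rw [← F.comm i j hij u hu v hv]; exact h
  have h3 := F.indep1 hij.symm hjk hv hu hw h2
  refine ⟨h1, h3, ?_⟩
  have h4 : w = (u * v)⁻¹ * (u * v * w) := by group
  rw [h4]
  exact mul_mem (inv_mem (mul_mem h1 h3)) h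

theorem nab (F : Frame Z Q U e) (i : Fin 3) : ∃ x ∈ U i, ∃ y ∈ U i, x * y ≠ y * x := by
  by_contra hcon
  push Not at hcon
  have h1 : U i ≤ Z := fun x hx => F.cenU hx fun u hu => hcon x hx u hu
  have h2 : U i = Z := le_antisymm h1 (F.ZleU i)
  have h3 := F.cardU i
  rw [h2, F.cardZ] at h3
  norm_num at h3

/-- the kernel of the action of `C(Z)` on `Q / Z` is `Q` -/
theorem mem_Q (F : Frame Z Q U e) {h : G} (hc : h ∈ Subgroup.centralizer (Z : Set G))
    (ht : ∀ i, Triv Z (U i) h) : h ∈ Q := by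
  have hA : ∀ i, Act Z (U i) h := fun i =>
    ⟨fun z hz => cz hc hz, fun x hx => by
      have h1 := ht i x hx
      have h2 : h * x * h⁻¹ = (h * x * h⁻¹ * x⁻¹) * x := by group
      rw [h2]; exact mul_mem (F.ZleU i h1) hx⟩
  choose q hqU hq using fun i => (F.blk i).inner (F.nab i) (ht i) (hA i)
  have hqq : ∀ i j, i ≠ j → ∀ x ∈ U j, q i * x * (q i)⁻¹ = x := by
    intro i j hij x hx
    rw [F.comm i j hij _ (hqU i) x hx]; group
  set p := q 0 * q 1 * q 2 with hp
  have hpQ : p ∈ Q := mul_mem (mul_mem (F.UleQ 0 (hqU 0)) (F.UleQ 1 (hqU 1))) (F.UleQ 2 (hqU 2))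
  have hpx : ∀ i, ∀ x ∈ U i, p * x * p⁻¹ = h * x * h⁻¹ := by
    intro i x hx
    have e1 : p * x * p⁻¹ = q 0 * (q 1 * (q 2 * x * (q 2)⁻¹) * (q 1)⁻¹) * (q 0)⁻¹ := by
      rw [hp]; group
    have hi : i = 0 ∨ i = 1 ∨ i = 2 := by (revert i; simp only [_root_.Fin.forall_fin_succ, Fin.isValue, _root_.zero_ne_one, Fin.reduceEq, _root_.or_self, _root_.or_false, _root_.implies_true, _root_.Fin.succ_ne_zero, _root_.false_or, _root_.Fin.succ_zero_eq_one, _root_.Fin.succ_one_eq_two, _root_.or_true, _root_.IsEmpty.forall_iff, _root_.and_self])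
    rcases hi with rfl | rfl | rfl
    · rw [e1, hqq 2 0 (by decide) x hx, hqq 1 0 (by decide) x hx, hq 0 x hx]
    · rw [e1, hqq 2 1 (by decide) x hx, hq 1 x hx, hqq 0 1 (by decide) _ ((hA 1).nor x hx)]
    · rw [e1, hq 2 x hx, hqq 1 2 (by decide) _ ((hA 2).nor x hx),
        hqq 0 2 (by decide) _ ((hA 2).nor x hx)]
  have hcen : p⁻¹ * h ∈ Subgroup.centralizer (Q : Set G) := by
    rw [Subgroup.mem_centralizer_iff]
    intro x hx
    refine (F.commQ (g := p⁻¹ * h) ?_ x hx).symm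
    intro i u hu
    have e2 := hpx i u hu
    have e3 : (p⁻¹ * h) * u * (p⁻¹ * h)⁻¹ = u := by
      calc (p⁻¹ * h) * u * (p⁻¹ * h)⁻¹ = p⁻¹ * (h * u * h⁻¹) * p := by group
        _ = p⁻¹ * (p * u * p⁻¹) * p := by rw [e2]
        _ = u := by group
    calc p⁻¹ * h * u = (p⁻¹ * h) * u * (p⁻¹ * h)⁻¹ * (p⁻¹ * h) := by group
      _ = u * (p⁻¹ * h) := by rw [e3]
  have := F.CQ hcen
  have h5 : h = p * (p⁻¹ * h) := by group
  rw [h5]
  exact mul_mem hpQ this

/-- the permutation of the blocks induced by `c` -/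
noncomputable def sg (F : Frame Z Q U e) (c : G) : Equiv.Perm (Fin 3) := by
  classical
  exact if h : c ∈ Subgroup.centralizer (Z : Set G) then (F.perm c h).choose else 1

theorem sg_spec (F : Frame Z Q U e) {c : G} (hc : c ∈ Subgroup.centralizer (Z : Set G))
    (i : Fin 3) {x : G} (hx : x ∈ U i) : c * x * c⁻¹ ∈ U (F.sg c i) := by
  unfold sg
  rw [dif_pos hc]
  exact (F.perm c hc).choose_spec i x hx

theorem conj_mem_Z {c x : G} (hc : c ∈ Subgroup.centralizer (Z : Set G)) (h : c * x * c⁻¹ ∈ Z) :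
    x ∈ Z := by
  have h1 := cz (inv_mem hc) h
  have h2 : c⁻¹ * (c * x * c⁻¹) * c⁻¹⁻¹ = x := by group
  rw [h2] at h1
  rw [h1]; exact h

theorem sg_eq (F : Frame Z Q U e) {c : G} (hc : c ∈ Subgroup.centralizer (Z : Set G))
    {i j : Fin 3} {x : G} (hx : x ∈ U i) (hxZ : x ∉ Z) (h : c * x * c⁻¹ ∈ U j) :
    F.sg c i = j := by
  by_contra hne
  exact hxZ (conj_mem_Z hc (F.inter hne (F.sg_spec hc i hx) h))

theorem exists_notZ (F : Frame Z Q U e) (i : Fin 3) : ∃ x ∈ U i, x ∉ Z := by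
  obtain ⟨x, hx, y, hy, hxy⟩ := F.nab i
  refine ⟨x, hx, fun h => hxy (F.zc h (F.UleQ i hy))⟩

theorem sg_mul (F : Frame Z Q U e) {c d : G} (hc : c ∈ Subgroup.centralizer (Z : Set G))
    (hd : d ∈ Subgroup.centralizer (Z : Set G)) : F.sg (c * d) = F.sg c * F.sg d := by
  ext1 i
  obtain ⟨x, hx, hxZ⟩ := F.exists_notZ i
  apply F.sg_eq (mul_mem hc hd) hx hxZ
  have h1 := F.sg_spec hc _ (F.sg_spec hd i hx)
  have h2 : c * d * x * (c * d)⁻¹ = c * (d * x * d⁻¹) * c⁻¹ := by group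
  rw [h2]; exact h1

theorem sg_one (F : Frame Z Q U e) : F.sg (1 : G) = 1 := by
  ext1 i
  obtain ⟨x, hx, hxZ⟩ := F.exists_notZ i
  apply F.sg_eq (one_mem _) hx hxZ
  simpa using hx

theorem sg_pow (F : Frame Z Q U e) {c : G} (hc : c ∈ Subgroup.centralizer (Z : Set G)) (n : ℕ) :
    F.sg (c ^ n) = F.sg c ^ n := by
  induction n with
  | zero => rw [pow_zero, pow_zero, F.sg_one]
  | succ n ih => rw [pow_succ, pow_succ, F.sg_mul (pow_mem hc n) hc, ih]

theorem sg_inv (F : Frame Z Q U e) {c : G} (hc : c ∈ Subgroup.centralizer (Z : Set G)) :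
    F.sg c⁻¹ = (F.sg c)⁻¹ := by
  rw [eq_inv_iff_mul_eq_one, ← F.sg_mul (inv_mem hc) hc, inv_mul_cancel, F.sg_one]

theorem sg_cube (F : Frame Z Q U e) {c : G} (hc : c ∈ Subgroup.centralizer (Z : Set G))
    (h3 : c ^ 3 = 1) : F.sg c ^ 3 = 1 := by
  rw [← F.sg_pow hc, h3, F.sg_one]

theorem sg_Q (F : Frame Z Q U e) {q : G} (hq : q ∈ Q) : F.sg q = 1 := by
  ext1 i
  obtain ⟨x, hx, hxZ⟩ := F.exists_notZ i
  apply F.sg_eq (F.QleC hq) hx hxZ
  have h1 := F.comZ q hq x (F.UleQ i hx)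
  have h2 : q * x * q⁻¹ = (q * x * q⁻¹ * x⁻¹) * x := by group
  rw [h2]
  exact mul_mem (F.ZleU i h1) hx

theorem sg_e (F : Frame Z Q U e) (j : Fin 3) : F.sg (e j) = 1 := by
  ext1 i
  obtain ⟨x, hx, hxZ⟩ := F.exists_notZ i
  apply F.sg_eq (F.eC j) hx hxZ
  by_cases hij : i = j
  · subst hij
    have h1 := F.einv i x hx
    have h2 : e i * x * (e i)⁻¹ = (e i * x * (e i)⁻¹ * x) * x⁻¹ := by group
    rw [h2]
    exact mul_mem (F.ZleU i h1) (inv_mem hx)
  · rw [F.eU j i hij x hx]; exact hx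

theorem act_of_sg (F : Frame Z Q U e) {c : G} (hc : c ∈ Subgroup.centralizer (Z : Set G))
    {i : Fin 3} (h : F.sg c i = i) : Act Z (U i) c where
  cen z hz := cz hc hz
  nor x hx := by
    have := F.sg_spec hc i hx
    rwa [h] at this

theorem act_e (F : Frame Z Q U e) (i j : Fin 3) : Act Z (U i) (e j) :=
  F.act_of_sg (F.eC j) (by rw [F.sg_e]; rfl)

/-- surjectivity of conjugation onto a block -/
theorem conj_inv_mem (F : Frame Z Q U e) {c : G} (hc : c ∈ Subgroup.centralizer (Z : Set G))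
    {i : Fin 3} {x : G} (hx : x ∈ U (F.sg c i)) : c⁻¹ * x * c ∈ U i := by
  have h := F.sg_spec (inv_mem hc) _ hx
  rw [F.sg_inv hc] at h
  simpa using h

/-- `c e_i c⁻¹ e_{c i} ∈ Q` -/
theorem conj_e (F : Frame Z Q U e) {c : G} (hc : c ∈ Subgroup.centralizer (Z : Set G))
    (i : Fin 3) : c * e i * c⁻¹ * e (F.sg c i) ∈ Q := by
  have hC : c * e i * c⁻¹ * e (F.sg c i) ∈ Subgroup.centralizer (Z : Set G) :=
    mul_mem (mul_mem (mul_mem hc (F.eC i)) (inv_mem hc)) (F.eC _)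
  apply F.mem_Q hC
  intro j x hx
  obtain ⟨k, rfl⟩ : ∃ k, j = F.sg c k := ⟨(F.sg c)⁻¹ j, by simp⟩
  by_cases hki : k = i
  · subst hki
    -- both invert modulo `Z`
    have h1 := F.einv _ x hx
    set w := e (F.sg c k) * x * (e (F.sg c k))⁻¹ * x with hw
    have h2 : e (F.sg c k) * x * (e (F.sg c k))⁻¹ = w * x⁻¹ := by rw [hw]; group
    have hx' : c⁻¹ * x⁻¹ * c ∈ U k := F.conj_inv_mem hc (inv_mem hx)
    have h3 := F.einv _ _ hx'
    set w' := e k * (c⁻¹ * x⁻¹ * c) * (e k)⁻¹ * (c⁻¹ * x⁻¹ * c) with hw'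
    have h4 : e k * (c⁻¹ * x⁻¹ * c) * (e k)⁻¹ = w' * (c⁻¹ * x * c) := by rw [hw']; group
    have h5 : c * e k * c⁻¹ * e (F.sg c k) * x * (c * e k * c⁻¹ * e (F.sg c k))⁻¹ * x⁻¹ =
        w * (c * w' * c⁻¹) := by
      calc c * e k * c⁻¹ * e (F.sg c k) * x * (c * e k * c⁻¹ * e (F.sg c k))⁻¹ * x⁻¹
          = c * e k * c⁻¹ * (e (F.sg c k) * x * (e (F.sg c k))⁻¹) * (c * e k * c⁻¹)⁻¹ * x⁻¹ := by
            group
        _ = (c * e k * c⁻¹ * w * (c * e k * c⁻¹)⁻¹) *
              (c * (e k * (c⁻¹ * x⁻¹ * c) * (e k)⁻¹) * c⁻¹) * x⁻¹ := by rw [h2]; group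
        _ = w * (c * w' * c⁻¹) := by
            rw [h4, cz (mul_mem (mul_mem hc (F.eC k)) (inv_mem hc)) h1]; group
    rw [h5]
    exact mul_mem h1 (by rw [cz hc h3]; exact h3)
  · have hne : F.sg c k ≠ F.sg c i := fun h => hki ((F.sg c).injective h)
    have h1 := F.eU (F.sg c i) (F.sg c k) hne x hx
    have h2 := F.eU i k hki _ (F.conj_inv_mem hc hx)
    have h5 : c * e i * c⁻¹ * e (F.sg c i) * x * (c * e i * c⁻¹ * e (F.sg c i))⁻¹ * x⁻¹ = 1 := by
      calc c * e i * c⁻¹ * e (F.sg c i) * x * (c * e i * c⁻¹ * e (F.sg c i))⁻¹ * x⁻¹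
          = c * e i * c⁻¹ * (e (F.sg c i) * x * (e (F.sg c i))⁻¹) * (c * e i * c⁻¹)⁻¹ * x⁻¹ := by
            group
        _ = c * (e i * (c⁻¹ * x * c) * (e i)⁻¹) * c⁻¹ * x⁻¹ := by rw [h1]; group
        _ = 1 := by rw [h2]; group
    rw [h5]; exact one_mem _

/-- an element of `Q` inverted by `e i` lies in `U i` -/
theorem mem_U_of_inv (F : Frame Z Q U e) {i : Fin 3} {x : G} (hx : x ∈ Q)
    (h : e i * x * (e i)⁻¹ = x⁻¹) : x ∈ U i := by
  obtain ⟨j, k, hij, hik, hjk⟩ := exists_jk i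
  obtain ⟨u, hu, v, hv, w, hw, rfl⟩ := F.mul3 hij hik hjk x hx
  have h1 := F.eU i j hij.symm v hv
  have h2 := F.eU i k hik.symm w hw
  have h3 := F.einv i u hu
  have cuv : Commute u v := F.comm i j hij u hu v hv
  have cuw : Commute u w := F.comm i k hik u hu w hw
  have cvw : Commute v w := F.comm j k hjk v hv w hw
  have e1 : e i * (u * v * w) * (e i)⁻¹ = (e i * u * (e i)⁻¹) * v * w := by
    calc e i * (u * v * w) * (e i)⁻¹
        = (e i * u * (e i)⁻¹) * (e i * v * (e i)⁻¹) * (e i * w * (e i)⁻¹) := by group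
      _ = _ := by rw [h1, h2]
  rw [e1] at h
  have e2 : (u * v * w)⁻¹ = u⁻¹ * (v⁻¹ * w⁻¹) := by
    calc (u * v * w)⁻¹ = w⁻¹ * (v⁻¹ * u⁻¹) := by group
      _ = w⁻¹ * (u⁻¹ * v⁻¹) := by rw [cuv.inv_inv.eq]
      _ = (w⁻¹ * u⁻¹) * v⁻¹ := by group
      _ = (u⁻¹ * w⁻¹) * v⁻¹ := by rw [cuw.inv_inv.eq]
      _ = u⁻¹ * (w⁻¹ * v⁻¹) := by group
      _ = u⁻¹ * (v⁻¹ * w⁻¹) := by rw [cvw.inv_inv.eq]
  rw [e2] at h
  -- `(v w)² ∈ Z`
  have e3 : v * v * (w * w) ∈ Z := by
    have h4 : e i * u * (e i)⁻¹ * u * (v * v * (w * w)) = 1 := by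
      have h5 : e i * u * (e i)⁻¹ = u⁻¹ * (v⁻¹ * w⁻¹) * w⁻¹ * v⁻¹ := by rw [← h]; group
      rw [h5]
      have c1 : Commute u (v⁻¹ * w⁻¹ * w⁻¹ * v⁻¹) :=
        (((cuv.inv_right).mul_right cuw.inv_right).mul_right cuw.inv_right).mul_right cuv.inv_right
      calc u⁻¹ * (v⁻¹ * w⁻¹) * w⁻¹ * v⁻¹ * u * (v * v * (w * w))
          = u⁻¹ * ((v⁻¹ * w⁻¹ * w⁻¹ * v⁻¹) * u) * (v * v * (w * w)) := by group
        _ = (v⁻¹ * w⁻¹ * w⁻¹ * v⁻¹) * (v * v * (w * w)) := by rw [← c1.eq]; group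
        _ = v⁻¹ * w⁻¹ * (w⁻¹ * v) * (w * w) := by group
        _ = v⁻¹ * w⁻¹ * (v * w⁻¹) * (w * w) := by rw [← (cvw.inv_right).eq]
        _ = v⁻¹ * (w⁻¹ * v) * w := by group
        _ = v⁻¹ * (v * w⁻¹) * w := by rw [← (cvw.inv_right).eq]
        _ = 1 := by group
    have h6 : v * v * (w * w) = (e i * u * (e i)⁻¹ * u)⁻¹ := by
      rw [eq_comm, inv_eq_iff_mul_eq_one]; exact h4
    rw [h6]; exact inv_mem h3
  have e4 := F.indep (i := j) (j := k) (k := i) hjk hij.symm hik.symm (mul_mem hv hv)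
    (mul_mem hw hw) (one_mem (U i)) (by rw [mul_one]; exact e3)
  have sq : ∀ a : G, a ∈ Q → a * a ∈ Z → a ∈ Z := by
    intro a ha haa
    have h3 := F.exp a ha
    have h4 : a = (a * a) * (a * a) := by
      calc a = a ^ 3 * a := by rw [h3, one_mul]
        _ = (a * a) * (a * a) := by simp only [pow_succ, pow_zero, one_mul, mul_assoc]
    rw [h4]; exact mul_mem haa haa
  have hvZ := sq v (F.UleQ j hv) e4.1
  have hwZ := sq w (F.UleQ k hw) e4.2.1
  exact mul_mem (mul_mem hu (F.ZleU i hvZ)) (F.ZleU i hwZ)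

end Frame

end Cfsg.Agent.H341.Weak
end

-- part: H341/WeakFull
section
/-!
# Elements of order 3 acting on a frame
-/

set_option autoImplicit false

namespace Cfsg.Agent.H341.Weak

variable {G : Type*} [Group G]

/-- the orbit of `y` under a subgroup `Q` -/
theorem orb [Finite G] (Q : Subgroup G) (y : G) (W : Set G)
    (hW : ∀ r ∈ Q, y⁻¹ * r * y * r⁻¹ ∈ W) :
    Nat.card Q ≤ Nat.card W * Nat.card (Q ⊓ Subgroup.centralizer {y} : Subgroup G) ∧
    (Nat.card W * Nat.card (Q ⊓ Subgroup.centralizer {y} : Subgroup G) ≤ Nat.card Q →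
      ∀ w ∈ W, ∃ r ∈ Q, y⁻¹ * r * y * r⁻¹ = w) := by
  classical
  set A : Subgroup G := Q ⊓ Subgroup.centralizer {y} with hA
  let f : Q ⧸ A.subgroupOf Q → W := Quotient.lift
    (fun r : Q => (⟨y⁻¹ * r * y * (r : G)⁻¹, hW r r.2⟩ : W)) (by
      intro a b hab
      have h1 : (a⁻¹ * b : Q) ∈ A.subgroupOf Q := QuotientGroup.leftRel_apply.1 hab
      rw [Subgroup.mem_subgroupOf] at h1
      have h2 := Subgroup.mem_centralizer_iff.1 h1.2 y rfl
      push_cast at h2
      apply Subtype.ext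
      show y⁻¹ * a * y * (a : G)⁻¹ = y⁻¹ * b * y * (b : G)⁻¹
      calc y⁻¹ * a * y * (a : G)⁻¹ = y⁻¹ * a * (y * ((a : G)⁻¹ * b)) * (b : G)⁻¹ := by group
        _ = y⁻¹ * a * ((a : G)⁻¹ * b * y) * (b : G)⁻¹ := by rw [h2]
        _ = _ := by group)
  have hinj : Function.Injective f := by
    intro a b hab
    induction a using QuotientGroup.induction_on with | _ a =>
    induction b using QuotientGroup.induction_on with | _ b =>
    have h1 : y⁻¹ * a * y * (a : G)⁻¹ = y⁻¹ * b * y * (b : G)⁻¹ := congrArg Subtype.val hab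
    rw [QuotientGroup.eq, Subgroup.mem_subgroupOf]
    refine Subgroup.mem_inf.2 ⟨(a⁻¹ * b).2, ?_⟩
    rw [Subgroup.mem_centralizer_iff]
    intro y' hy'
    rw [Set.mem_singleton_iff.1 hy']
    push_cast
    calc y * ((a : G)⁻¹ * b) = (a : G)⁻¹ * (y * (y⁻¹ * a * y * (a : G)⁻¹)) * b := by group
      _ = (a : G)⁻¹ * (y * (y⁻¹ * b * y * (b : G)⁻¹)) * b := by rw [h1]
      _ = _ := by group
  have hcard := Subgroup.card_eq_card_quotient_mul_card_subgroup (A.subgroupOf Q)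
  have hA2 : Nat.card (A.subgroupOf Q) = Nat.card A :=
    Nat.card_congr (Subgroup.subgroupOfEquivOfLe inf_le_left).toEquiv
  rw [hA2] at hcard
  have hle : Nat.card (Q ⧸ A.subgroupOf Q) ≤ Nat.card W := Nat.card_le_card_of_injective f hinj
  have hApos : 0 < Nat.card A := Nat.card_pos
  constructor
  · rw [hcard]; exact Nat.mul_le_mul_right _ hle
  · intro h w hw
    rw [hcard] at h
    have h2 : Nat.card W ≤ Nat.card (Q ⧸ A.subgroupOf Q) := Nat.le_of_mul_le_mul_right h hApos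
    have hsurj : Function.Surjective f :=
      ((Nat.bijective_iff_injective_and_card f).2 ⟨hinj, le_antisymm hle h2⟩).2
    obtain ⟨r, hr⟩ := hsurj ⟨w, hw⟩
    induction r using QuotientGroup.induction_on with | _ r =>
    exact ⟨r, r.2, congrArg Subtype.val hr⟩

/-- `{x ∈ L : [y, x] ∈ Z}` -/
def CZ (Z L : Subgroup G) (hL : L ≤ Subgroup.centralizer (Z : Set G)) (y : G) : Subgroup G where
  carrier := {x | x ∈ L ∧ y * x * y⁻¹ * x⁻¹ ∈ Z}
  one_mem' := ⟨one_mem _, by simp⟩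
  mul_mem' := by
    rintro a b ⟨ha, ha'⟩ ⟨hb, hb'⟩
    refine ⟨mul_mem ha hb, ?_⟩
    have h1 := Frame.cz (hL ha) hb'
    have h2 : y * (a * b) * y⁻¹ * (a * b)⁻¹ =
      (y * a * y⁻¹ * a⁻¹) * (a * (y * b * y⁻¹ * b⁻¹) * a⁻¹) := by group
    rw [h2, h1]; exact mul_mem ha' hb'
  inv_mem' := by
    rintro a ⟨ha, ha'⟩
    refine ⟨inv_mem ha, ?_⟩
    have h1 := Frame.cz (inv_mem (hL ha)) (inv_mem ha')
    have h2 : y * a⁻¹ * y⁻¹ * a⁻¹⁻¹ = a⁻¹ * (y * a * y⁻¹ * a⁻¹)⁻¹ * a⁻¹⁻¹ := by group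
    rw [h2, h1]; exact inv_mem ha'

namespace Frame

variable {Z Q : Subgroup G} {U : Fin 3 → Subgroup G} {e : Fin 3 → G}

/-- conjugating the involutions by an element of `Q` -/
theorem conjE (F : Frame Z Q U e) {q : G} (hq : q ∈ Q) :
    Frame Z Q U (fun i => q * e i * q⁻¹) where
  cardZ := F.cardZ
  cardQ := F.cardQ
  cardU := F.cardU
  QleC := F.QleC
  conjQ := F.conjQ
  CQ := F.CQ
  exp := F.exp
  ZleU := F.ZleU
  UleQ := F.UleQ
  comm := F.comm
  comZ := F.comZ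
  cenZ := F.cenZ
  sup := F.sup
  perm := F.perm
  eC i := mul_mem (mul_mem (F.QleC hq) (F.eC i)) (inv_mem (F.QleC hq))
  e2 i := by
    calc q * e i * q⁻¹ * (q * e i * q⁻¹) = q * (e i * e i) * q⁻¹ := by group
      _ = 1 := by rw [F.e2]; group
  ee i j := by
    calc q * e i * q⁻¹ * (q * e j * q⁻¹) = q * (e i * e j) * q⁻¹ := by group
      _ = q * (e j * e i) * q⁻¹ := by rw [F.ee]
      _ = _ := by group
  eU i j hij x hx := by
    have h1 : q⁻¹ * x * q ∈ U j := by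
      have := F.sg_spec (F.QleC (inv_mem hq)) j hx
      rw [F.sg_Q (inv_mem hq)] at this
      simpa using this
    have h2 := F.eU i j hij _ h1
    calc q * e i * q⁻¹ * x * (q * e i * q⁻¹)⁻¹ = q * (e i * (q⁻¹ * x * q) * (e i)⁻¹) * q⁻¹ := by
          group
      _ = x := by rw [h2]; group
  einv i x hx := by
    have h1 : q⁻¹ * x * q ∈ U i := by
      have := F.sg_spec (F.QleC (inv_mem hq)) i hx
      rw [F.sg_Q (inv_mem hq)] at this
      simpa using this
    have h2 := F.einv i _ h1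
    have h3 : q * e i * q⁻¹ * x * (q * e i * q⁻¹)⁻¹ * x =
        q * (e i * (q⁻¹ * x * q) * (e i)⁻¹ * (q⁻¹ * x * q)) * q⁻¹ := by group
    rw [h3, cz (F.QleC hq) h2]; exact h2

/-- transport by an automorphism -/
theorem map (F : Frame Z Q U e) (φ : G ≃* G) :
    Frame (Z.map φ.toMonoidHom) (Q.map φ.toMonoidHom) (fun i => (U i).map φ.toMonoidHom)
      (fun i => φ (e i)) := by
  have hm : ∀ (K : Subgroup G) (x : G), x ∈ K.map φ.toMonoidHom ↔ φ.symm x ∈ K := fun K x =>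
    Subgroup.mem_map_equiv
  have hc : ∀ (K : Subgroup G) (x : G), x ∈ Subgroup.centralizer
      ((K.map φ.toMonoidHom : Subgroup G) : Set G) ↔
      φ.symm x ∈ Subgroup.centralizer (K : Set G) := by
    intro K x
    rw [Subgroup.mem_centralizer_iff, Subgroup.mem_centralizer_iff]
    constructor
    · intro h k hk
      have h1 := h (φ k) ((hm K _).2 (by simpa using hk))
      apply φ.injective
      simpa only [_root_.map_mul, _root_.MulEquiv.apply_symm_apply] using h1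
    · intro h k hk
      have h1 := h (φ.symm k) ((hm K _).1 hk)
      apply φ.symm.injective
      simpa only [_root_.map_mul] using h1
  have hcard : ∀ K : Subgroup G, Nat.card (K.map φ.toMonoidHom) = Nat.card K := fun K =>
    (Nat.card_congr (K.equivMapOfInjective φ.toMonoidHom φ.injective).toEquiv).symm
  refine
    { cardZ := by rw [hcard, F.cardZ]
      cardQ := by rw [hcard, F.cardQ]
      cardU := fun i => by rw [hcard, F.cardU]
      QleC := fun x hx => (hc _ _).2 (F.QleC ((hm _ _).1 hx))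
      conjQ := fun c h x hx => (hm _ _).2 (by
        have := F.conjQ _ ((hc _ _).1 h) _ ((hm _ _).1 hx)
        simpa only [_root_.map_mul, _root_.map_inv] using this)
      CQ := fun x hx => (hm _ _).2 (F.CQ ((hc _ _).1 hx))
      exp := fun x hx => by
        have := F.exp _ ((hm _ _).1 hx)
        apply φ.symm.injective
        simpa only [_root_.map_pow, _root_.map_one] using this
      ZleU := fun i => Subgroup.map_mono (F.ZleU i)
      UleQ := fun i => Subgroup.map_mono (F.UleQ i)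
      comm := fun i j hij x hx y hy => by
        have := F.comm i j hij _ ((hm _ _).1 hx) _ ((hm _ _).1 hy)
        apply φ.symm.injective
        simpa only [_root_.map_mul] using this
      comZ := fun x hx y hy => (hm _ _).2 (by
        have := F.comZ _ ((hm _ _).1 hx) _ ((hm _ _).1 hy)
        simpa only [_root_.map_mul, _root_.map_inv] using this)
      cenZ := fun x hx h => (hm _ _).2 (F.cenZ _ ((hm _ _).1 hx) (fun y hy => by
        have h1 := h (φ y) ((hm _ _).2 (by simpa using hy))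
        apply φ.injective
        simpa using h1))
      sup := by
        conv_lhs => rw [F.sup]
        rw [Subgroup.map_sup, Subgroup.map_sup]
      perm := fun c h => by
        obtain ⟨s, hs⟩ := F.perm _ ((hc _ _).1 h)
        refine ⟨s, fun i x hx => (hm _ _).2 ?_⟩
        have := hs i _ ((hm _ _).1 hx)
        simpa only [_root_.map_mul, _root_.map_inv] using this
      eC := fun i => (hc _ _).2 (by simpa using F.eC i)
      e2 := fun i => by rw [← map_mul, F.e2, map_one]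
      ee := fun i j => by rw [← map_mul, F.ee, map_mul]
      eU := fun i j hij x hx => by
        have := F.eU i j hij _ ((hm _ _).1 hx)
        apply φ.symm.injective
        simpa only [_root_.map_mul, _root_.MulEquiv.symm_apply_apply, _root_.map_inv] using this
      einv := fun i x hx => (hm _ _).2 (by
        have := F.einv i _ ((hm _ _).1 hx)
        simpa only [_root_.map_mul, _root_.MulEquiv.symm_apply_apply, _root_.map_inv] using this) }

/-- an element of order 3 acting nontrivially on each block -/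
structure Full (Z : Subgroup G) (U : Fin 3 → Subgroup G) (y : G) (r c : Fin 3 → G) : Prop where
  cen : y ∈ Subgroup.centralizer (Z : Set G)
  y3 : y ^ 3 = 1
  act : ∀ i, Act Z (U i) y
  H : ∀ i, Unip Z (U i) y (r i) (c i)

theorem exists_full (F : Frame Z Q U e) {y : G} (hy : y ∈ Subgroup.centralizer (Z : Set G))
    (hy3 : y ^ 3 = 1) (hs : F.sg y = 1) (hn : ∀ i, ¬ Triv Z (U i) y) :
    ∃ r c, Full Z U y r c := by
  have hA : ∀ i, Act Z (U i) y := fun i => F.act_of_sg hy (by rw [hs]; rfl)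
  choose r c H using fun i => (F.blk i).unip (hA i) hy3 (hn i)
  exact ⟨r, c, hy, hy3, hA, H⟩

/-- component of a relation -/
theorem comp (F : Frame Z Q U e) {y : G} {i j k : Fin 3} (hij : i ≠ j) (hik : i ≠ k)
    (hjk : j ≠ k) (hA : ∀ i, Act Z (U i) y)
    {u v w : G} (hu : u ∈ U i) (hv : v ∈ U j) (hw : w ∈ U k)
    (h : y * (u * v * w) * y⁻¹ * (u * v * w)⁻¹ ∈ Z) :
    y * u * y⁻¹ * u⁻¹ ∈ Z ∧ y * v * y⁻¹ * v⁻¹ ∈ Z ∧ y * w * y⁻¹ * w⁻¹ ∈ Z := by
  have hu' := (hA i).nor u hu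
  have hv' := (hA j).nor v hv
  have hw' := (hA k).nor w hw
  apply F.indep hij hik hjk (mul_mem hu' (inv_mem hu)) (mul_mem hv' (inv_mem hv))
    (mul_mem hw' (inv_mem hw))
  have h1 : y * (u * v * w) * y⁻¹ * (u * v * w)⁻¹ =
      y * u * y⁻¹ * u⁻¹ * (y * v * y⁻¹ * v⁻¹) * (y * w * y⁻¹ * w⁻¹) := by
    have c1 : Commute (y * v * y⁻¹) u⁻¹ := (F.comm i j hij _ (inv_mem hu) _ hv').symm
    have c2 : Commute (y * w * y⁻¹ * w⁻¹) u⁻¹ :=
      (F.comm i k hik _ (inv_mem hu) _ (mul_mem hw' (inv_mem hw))).symm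
    have c3 : Commute (y * w * y⁻¹ * w⁻¹) v⁻¹ :=
      (F.comm j k hjk _ (inv_mem hv) _ (mul_mem hw' (inv_mem hw))).symm
    calc y * (u * v * w) * y⁻¹ * (u * v * w)⁻¹
        = (y * u * y⁻¹) * (y * v * y⁻¹) * ((y * w * y⁻¹ * w⁻¹) * v⁻¹) * u⁻¹ := by group
      _ = (y * u * y⁻¹) * (y * v * y⁻¹) * (v⁻¹ * (y * w * y⁻¹ * w⁻¹)) * u⁻¹ := by rw [c3.eq]
      _ = (y * u * y⁻¹) * (y * v * y⁻¹) * v⁻¹ * ((y * w * y⁻¹ * w⁻¹) * u⁻¹) := by group
      _ = (y * u * y⁻¹) * (y * v * y⁻¹) * v⁻¹ * (u⁻¹ * (y * w * y⁻¹ * w⁻¹)) := by rw [c2.eq]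
      _ = (y * u * y⁻¹) * (y * v * y⁻¹) * (v⁻¹ * u⁻¹) * (y * w * y⁻¹ * w⁻¹) := by group
      _ = (y * u * y⁻¹) * (y * v * y⁻¹) * (u⁻¹ * v⁻¹) * (y * w * y⁻¹ * w⁻¹) := by
          rw [(F.comm i j hij _ (inv_mem hu) _ (inv_mem hv))]
      _ = (y * u * y⁻¹) * ((y * v * y⁻¹) * u⁻¹) * v⁻¹ * (y * w * y⁻¹ * w⁻¹) := by group
      _ = (y * u * y⁻¹) * (u⁻¹ * (y * v * y⁻¹)) * v⁻¹ * (y * w * y⁻¹ * w⁻¹) := by rw [c1.eq]
      _ = _ := by group
  rw [← h1]; exact h

namespace Full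

variable {y : G} {r c : Fin 3 → G}

theorem c_mem (F : Frame Z Q U e) (H : Full Z U y r c) (i : Fin 3) : c i ∈ Q :=
  F.UleQ i (H.H i).cU

/-- elements of `CZ` -/
theorem mem (F : Frame Z Q U e) (H : Full Z U y r c) {x : G} (hx : x ∈ CZ Z Q F.QleC y) :
    ∃ n : Fin 3 → Fin 3, ∃ w ∈ Z, x = c 0 ^ (n 0).val * c 1 ^ (n 1).val * c 2 ^ (n 2).val * w := by
  obtain ⟨hxQ, hx2⟩ := hx
  obtain ⟨u, hu, v, hv, w, hw, rfl⟩ := F.mul3 (i := 0) (j := 1) (k := 2) (by decide) (by decide)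
    (by decide) x hxQ
  obtain ⟨h1, h2, h3⟩ := F.comp (i := 0) (j := 1) (k := 2) (by decide) (by decide)
    (by decide) H.act hu hv hw hx2
  obtain ⟨n0, w0, hw0, e0⟩ := (H.H 0).fix u hu h1
  obtain ⟨n1, w1, hw1, e1⟩ := (H.H 1).fix v hv h2
  obtain ⟨n2, w2, hw2, e2⟩ := (H.H 2).fix w hw h3
  refine ⟨![n0, n1, n2], w0 * w1 * w2, mul_mem (mul_mem hw0 hw1) hw2, ?_⟩
  have c1 : w0 * (c 1 ^ n1.val) = c 1 ^ n1.val * w0 :=
    F.zc hw0 (pow_mem (H.c_mem F 1) _)
  have c2 : (w0 * w1) * (c 2 ^ n2.val) = c 2 ^ n2.val * (w0 * w1) :=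
    F.zc (mul_mem hw0 hw1) (pow_mem (H.c_mem F 2) _)
  rw [e0, e1, e2]
  show c 0 ^ n0.val * w0 * (c 1 ^ n1.val * w1) * (c 2 ^ n2.val * w2) =
    c 0 ^ n0.val * c 1 ^ n1.val * c 2 ^ n2.val * (w0 * w1 * w2)
  calc c 0 ^ n0.val * w0 * (c 1 ^ n1.val * w1) * (c 2 ^ n2.val * w2)
      = c 0 ^ n0.val * (w0 * c 1 ^ n1.val) * w1 * (c 2 ^ n2.val * w2) := by group
    _ = c 0 ^ n0.val * c 1 ^ n1.val * ((w0 * w1) * c 2 ^ n2.val) * w2 := by rw [c1]; group
    _ = _ := by rw [c2]; group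

theorem card_le (F : Frame Z Q U e) [Finite G] (H : Full Z U y r c) :
    Nat.card (CZ Z Q F.QleC y) ≤ 81 := by
  have hsurj : Set.SurjOn (fun p : (Fin 3 × Fin 3 × Fin 3) × Z =>
      c 0 ^ p.1.1.val * c 1 ^ p.1.2.1.val * c 2 ^ p.1.2.2.val * (p.2 : G)) Set.univ
      (CZ Z Q F.QleC y : Set G) := by
    intro x hx
    obtain ⟨n, w, hw, rfl⟩ := H.mem F hx
    exact ⟨((n 0, n 1, n 2), ⟨w, hw⟩), Set.mem_univ _, rfl⟩
  have h1 := Set.ncard_le_ncard_of_injOn (s := (CZ Z Q F.QleC y : Set G))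
    (t := Set.univ) (fun x => Classical.epsilon (fun p : (Fin 3 × Fin 3 × Fin 3) × Z =>
      c 0 ^ p.1.1.val * c 1 ^ p.1.2.1.val * c 2 ^ p.1.2.2.val * (p.2 : G) = x))
      (fun _ _ => Set.mem_univ _) (by
        intro a ha b hb hab
        obtain ⟨pa, _, hpa⟩ := hsurj ha
        obtain ⟨pb, _, hpb⟩ := hsurj hb
        have ea := Classical.epsilon_spec (p := fun p : (Fin 3 × Fin 3 × Fin 3) × Z =>
          c 0 ^ p.1.1.val * c 1 ^ p.1.2.1.val * c 2 ^ p.1.2.2.val * (p.2 : G) = a) ⟨pa, hpa⟩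
        have eb := Classical.epsilon_spec (p := fun p : (Fin 3 × Fin 3 × Fin 3) × Z =>
          c 0 ^ p.1.1.val * c 1 ^ p.1.2.1.val * c 2 ^ p.1.2.2.val * (p.2 : G) = b) ⟨pb, hpb⟩
        simp only at hab
        rw [← ea, ← eb, hab])
  rw [Set.ncard_univ] at h1
  have h2 : Nat.card ((Fin 3 × Fin 3 × Fin 3) × Z) = 81 := by
    rw [Nat.card_prod, Nat.card_prod, Nat.card_prod, F.cardZ]; simp
  rw [h2] at h1
  exact h1

theorem comm (F : Frame Z Q U e) (H : Full Z U y r c) {a b : G}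
    (ha : a ∈ CZ Z Q F.QleC y) (hb : b ∈ CZ Z Q F.QleC y) : a * b = b * a := by
  obtain ⟨n, w, hw, rfl⟩ := H.mem F ha
  obtain ⟨n', w', hw', rfl⟩ := H.mem F hb
  have cc : ∀ i j, Commute (c i) (c j) := by
    intro i j
    by_cases hij : i = j
    · subst hij; exact Commute.refl _
    · exact F.comm i j hij _ (H.H i).cU _ (H.H j).cU
  have cw : ∀ i, ∀ v ∈ Z, Commute v (c i) := fun i v hv => F.zc hv (H.c_mem F i)
  have cww : Commute w w' := F.zc hw (F.ZleQ hw')
  have key : ∀ (n : Fin 3 → Fin 3) (g : G), (∀ i, Commute g (c i)) →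
      Commute g (c 0 ^ (n 0).val * c 1 ^ (n 1).val * c 2 ^ (n 2).val) := fun n g hg =>
    (((hg 0).pow_right _).mul_right ((hg 1).pow_right _)).mul_right ((hg 2).pow_right _)
  have k1 : Commute (c 0 ^ (n 0).val * c 1 ^ (n 1).val * c 2 ^ (n 2).val)
      (c 0 ^ (n' 0).val * c 1 ^ (n' 1).val * c 2 ^ (n' 2).val) :=
    key n' _ fun i => (key n (c i) fun j => cc i j).symm
  have k2 : Commute w (c 0 ^ (n' 0).val * c 1 ^ (n' 1).val * c 2 ^ (n' 2).val) :=
    key n' w fun i => cw i w hw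
  have k3 : Commute w' (c 0 ^ (n 0).val * c 1 ^ (n 1).val * c 2 ^ (n 2).val) :=
    key n w' fun i => cw i w' hw'
  exact ((k1.mul_right k3.symm).mul_left (k2.mul_right cww))

theorem orbit_mem (F : Frame Z Q U e) (H : Full Z U y r c) {x : G} (hx : x ∈ Q) :
    y⁻¹ * x * y * x⁻¹ ∈ CZ Z Q F.QleC y := by
  have hUi : ∀ i, ∀ u ∈ U i, y⁻¹ * u * y * u⁻¹ ∈ U i ∧ y⁻¹ * u * y * u⁻¹ ∈ CZ Z Q F.QleC y := by
    intro i u hu
    have hyu : y⁻¹ * u * y ∈ U i := by
      have h1 := (H.act i).nor _ ((H.act i).nor u hu)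
      have h2 := Blk.conj_cube H.y3 u
      have h3 : y⁻¹ * u * y = y * (y * u * y⁻¹) * y⁻¹ := by
        calc y⁻¹ * u * y = y⁻¹ * (y * (y * (y * u * y⁻¹) * y⁻¹) * y⁻¹) * y := by rw [h2]
          _ = _ := by group
      rw [h3]; exact h1
    have h4 : y⁻¹ * u * y * u⁻¹ ∈ U i := mul_mem hyu (inv_mem hu)
    exact ⟨h4, F.UleQ i h4, (H.H i).two u hu⟩
  obtain ⟨u, hu, v, hv, w, hw, rfl⟩ := F.mul3 (i := 0) (j := 1) (k := 2) (by decide) (by decide)
    (by decide) x hx
  obtain ⟨hu1, hu2⟩ := hUi 0 u hu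
  obtain ⟨hv1, hv2⟩ := hUi 1 v hv
  obtain ⟨hw1, hw2⟩ := hUi 2 w hw
  have h1 : y⁻¹ * (u * v * w) * y * (u * v * w)⁻¹ =
      (y⁻¹ * u * y * u⁻¹) * (y⁻¹ * v * y * v⁻¹) * (y⁻¹ * w * y * w⁻¹) := by
    have c1 : Commute (y⁻¹ * v * y) u⁻¹ := (F.comm 0 1 (by decide) _ (inv_mem hu) _ (by
      have : y⁻¹ * v * y = (y⁻¹ * v * y * v⁻¹) * v := by group
      rw [this]; exact mul_mem hv1 hv)).symm
    have c2 : Commute (y⁻¹ * w * y * w⁻¹) u⁻¹ :=
      (F.comm 0 2 (by decide) _ (inv_mem hu) _ hw1).symm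
    have c3 : Commute (y⁻¹ * w * y * w⁻¹) v⁻¹ :=
      (F.comm 1 2 (by decide) _ (inv_mem hv) _ hw1).symm
    calc y⁻¹ * (u * v * w) * y * (u * v * w)⁻¹
        = (y⁻¹ * u * y) * (y⁻¹ * v * y) * ((y⁻¹ * w * y * w⁻¹) * v⁻¹) * u⁻¹ := by group
      _ = (y⁻¹ * u * y) * (y⁻¹ * v * y) * (v⁻¹ * (y⁻¹ * w * y * w⁻¹)) * u⁻¹ := by rw [c3.eq]
      _ = (y⁻¹ * u * y) * (y⁻¹ * v * y) * v⁻¹ * ((y⁻¹ * w * y * w⁻¹) * u⁻¹) := by group
      _ = (y⁻¹ * u * y) * (y⁻¹ * v * y) * v⁻¹ * (u⁻¹ * (y⁻¹ * w * y * w⁻¹)) := by rw [c2.eq]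
      _ = (y⁻¹ * u * y) * (y⁻¹ * v * y) * (v⁻¹ * u⁻¹) * (y⁻¹ * w * y * w⁻¹) := by group
      _ = (y⁻¹ * u * y) * (y⁻¹ * v * y) * (u⁻¹ * v⁻¹) * (y⁻¹ * w * y * w⁻¹) := by
          rw [(F.comm 0 1 (by decide) _ (inv_mem hu) _ (inv_mem hv))]
      _ = (y⁻¹ * u * y) * ((y⁻¹ * v * y) * u⁻¹) * v⁻¹ * (y⁻¹ * w * y * w⁻¹) := by group
      _ = (y⁻¹ * u * y) * (u⁻¹ * (y⁻¹ * v * y)) * v⁻¹ * (y⁻¹ * w * y * w⁻¹) := by rw [c1.eq]
      _ = _ := by group
  rw [h1]
  exact mul_mem (mul_mem hu2 hv2) hw2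

theorem A_le (F : Frame Z Q U e) (y : G) :
    Q ⊓ Subgroup.centralizer {y} ≤ CZ Z Q F.QleC y := by
  intro x hx
  obtain ⟨h1, h2⟩ := Subgroup.mem_inf.1 hx
  have h3 := Subgroup.mem_centralizer_iff.1 h2 y rfl
  refine ⟨h1, ?_⟩
  rw [h3]
  simp

theorem card3 (F : Frame Z Q U e) [Finite G] (K : Subgroup G) (hK : K ≤ Q) :
    ∃ n ≤ 7, Nat.card K = 3 ^ n := by
  have h1 : Nat.card K ∣ 3 ^ 7 := by rw [← F.cardQ]; exact Subgroup.card_dvd_of_le hK
  obtain ⟨n, hn, h2⟩ := (Nat.dvd_prime_pow (by norm_num)).1 h1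
  exact ⟨n, hn, h2⟩

/-- cardinalities -/
theorem cards (F : Frame Z Q U e) [Finite G] (H : Full Z U y r c) :
    Nat.card (CZ Z Q F.QleC y) = 81 ∧
    27 ≤ Nat.card (Q ⊓ Subgroup.centralizer {y} : Subgroup G) ∧
    (Nat.card (Q ⊓ Subgroup.centralizer {y} : Subgroup G) ≤ 27 →
      ∀ w ∈ CZ Z Q F.QleC y, ∃ x ∈ Q, y⁻¹ * x * y * x⁻¹ = w) ∧
    (¬ (CZ Z Q F.QleC y ≤ Subgroup.centralizer {y}) →
      Nat.card (Q ⊓ Subgroup.centralizer {y} : Subgroup G) ≤ 27) := by
  obtain ⟨h1, h2⟩ := orb Q y (CZ Z Q F.QleC y : Set G) (fun x hx => H.orbit_mem F hx)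
  have h3 := H.card_le F
  have hC : Nat.card ((CZ Z Q F.QleC y : Subgroup G) : Set G) = Nat.card (CZ Z Q F.QleC y) := rfl
  rw [hC, F.cardQ] at h1 h2
  have hle : Nat.card (Q ⊓ Subgroup.centralizer {y} : Subgroup G) ≤ Nat.card (CZ Z Q F.QleC y) :=
    Subgroup.card_le_of_le (A_le F y)
  obtain ⟨n, _, hn⟩ := card3 F (CZ Z Q F.QleC y) (fun x hx => hx.1)
  obtain ⟨m, _, hm⟩ := card3 F (Q ⊓ Subgroup.centralizer {y}) inf_le_left
  rw [hn] at h1 h2 h3 hle
  rw [hm] at h1 h2 hle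
  have hn4 : n ≤ 4 := by
    by_contra hcon
    have : 3 ^ 5 ≤ 3 ^ n := Nat.pow_le_pow_right (by norm_num) (by omega)
    omega
  have hmn : m ≤ n := by
    by_contra hcon
    have : 3 ^ (n + 1) ≤ 3 ^ m := Nat.pow_le_pow_right (by norm_num) (by omega)
    rw [pow_succ] at this
    have : 0 < 3 ^ n := by positivity
    omega
  have h7 : 7 ≤ n + m := by
    rw [← pow_add] at h1
    by_contra hcon
    have : 3 ^ (n + m + 1) ≤ 3 ^ 7 := Nat.pow_le_pow_right (by norm_num) (by omega)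
    rw [pow_succ] at this
    have : 0 < 3 ^ (n + m) := by positivity
    omega
  have hn' : n = 4 := by omega
  subst hn'
  refine ⟨by rw [hn]; norm_num, ?_, ?_, ?_⟩
  · rw [hm]
    calc 27 = 3 ^ 3 := by norm_num
      _ ≤ 3 ^ m := Nat.pow_le_pow_right (by norm_num) (by omega)
  · intro h
    rw [hm] at h
    apply h2
    calc 3 ^ 4 * 3 ^ m ≤ 3 ^ 4 * 27 := Nat.mul_le_mul_left _ h
      _ = 3 ^ 7 := by norm_num
  · intro h
    rw [hm]
    have hm3 : m ≤ 3 := by
      by_contra hcon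
      have hm4 : m = 4 := by omega
      apply h
      have heq : Q ⊓ Subgroup.centralizer {y} = CZ Z Q F.QleC y := by
        apply Subgroup.eq_of_le_of_card_ge (A_le F y)
        rw [hn, hm, hm4]
      rw [← heq]; exact inf_le_right
    calc 3 ^ m ≤ 3 ^ 3 := Nat.pow_le_pow_right (by norm_num) hm3
      _ = 27 := by norm_num

end Full

end Frame

end Cfsg.Agent.H341.Weak
end

private theorem dce_99160d81b17d : _root_.True := by
  try have : _root_.True := by simp only [_root_.Cfsg.Agent.H341.Weak.Frame.sg.congr_simp]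
  try have : _root_.True := by simp only [_root_.Cfsg.Agent.H341.Weak.lin.eq_1]
  exact _root_.True.intro
end

-- part: H349/T3/Wc
section
prune_inst 0x1200c20434000000000059031002091500001900063000171400702024cc3208002270000201304020822000004006002000040401000000000000040000120102a00028008000021000000b084000000000000000000000000000000000004000000000
set_option linter.all false
open scoped Cfsg.Agent.FastGrp

-- part: H341/WeakAb
section
/-!
# Abelian 3-subgroups meeting `Q` trivially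
-/

set_option autoImplicit false

namespace Cfsg.Agent.H341.Weak

variable {G : Type*} [Group G]

theorem relIndex_le3 [Finite G] (K B : Subgroup G) {b0 : G} (hb0 : b0 ∈ B)
    (h : ∀ b ∈ B, ∃ m : Fin 3, b0 ^ m.val * b ∈ K) : K.relIndex B ≤ 3 := by
  rw [Subgroup.relIndex, Subgroup.index]
  have hs : Function.Surjective (fun m : Fin 3 =>
      (QuotientGroup.mk ((⟨b0, hb0⟩ : B) ^ m.val)⁻¹ : B ⧸ K.subgroupOf B)) := by
    intro x
    induction x using QuotientGroup.induction_on with | _ b =>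
    obtain ⟨m, hm⟩ := h b b.2
    refine ⟨m, ?_⟩
    rw [QuotientGroup.eq, Subgroup.mem_subgroupOf]
    push_cast
    simpa using hm
  have := Nat.card_le_card_of_surjective _ hs
  simpa only [_root_.ge_iff_le, _root_.Nat.card_eq_fintype_card, _root_.Fintype.card_fin] using this

theorem perm_cube : ∀ s t : Equiv.Perm (Fin 3), s ^ 3 = 1 → s ≠ 1 → t ^ 3 = 1 →
    ∃ m : Fin 3, s ^ m.val * t = 1 := by
  decide +kernel

theorem perm_cyc : ∀ s : Equiv.Perm (Fin 3), s ^ 3 = 1 → s ≠ 1 →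
    ∀ i, s i ≠ i ∧ s (s i) ≠ i ∧ s (s i) ≠ s i := by
  decide +kernel

theorem perm_comm : ∀ s t : Equiv.Perm (Fin 3), s ^ 3 = 1 → t ^ 3 = 1 → s * t = t * s := by
  decide +kernel

namespace Frame

variable {Z Q : Subgroup G} {U : Fin 3 → Subgroup G} {e : Fin 3 → G}

/-- the elements of `C(Z)` fixing every block -/
noncomputable def N0 (F : Frame Z Q U e) : Subgroup G where
  carrier := {h | h ∈ Subgroup.centralizer (Z : Set G) ∧ F.sg h = 1}
  one_mem' := ⟨one_mem _, F.sg_one⟩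
  mul_mem' := by
    rintro a b ⟨ha, ha'⟩ ⟨hb, hb'⟩
    exact ⟨mul_mem ha hb, by rw [F.sg_mul ha hb, ha', hb', one_mul]⟩
  inv_mem' := by
    rintro a ⟨ha, ha'⟩
    exact ⟨inv_mem ha, by rw [F.sg_inv ha, ha', inv_one]⟩

theorem N0_act (F : Frame Z Q U e) {h : G} (hh : h ∈ F.N0) (i : Fin 3) : Act Z (U i) h :=
  F.act_of_sg hh.1 (by rw [hh.2]; rfl)

/-- the elements acting trivially on `U i / Z` -/
noncomputable def KK (F : Frame Z Q U e) (i : Fin 3) : Subgroup G where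
  carrier := {h | h ∈ F.N0 ∧ Triv Z (U i) h}
  one_mem' := ⟨one_mem _, fun x _ => by simp⟩
  mul_mem' := by
    rintro a b ⟨ha, ha'⟩ ⟨hb, hb'⟩
    exact ⟨mul_mem ha hb, ha'.mul hb' (F.N0_act hb i)⟩
  inv_mem' := by
    rintro a ⟨ha, ha'⟩
    refine ⟨inv_mem ha, fun x hx => ?_⟩
    have h1 := (F.N0_act (inv_mem ha) i).nor x hx
    have h2 := inv_mem (ha' _ h1)
    have h3 : a⁻¹ * x * a⁻¹⁻¹ * x⁻¹ = (a * (a⁻¹ * x * a⁻¹⁻¹) * a⁻¹ * (a⁻¹ * x * a⁻¹⁻¹)⁻¹)⁻¹ := by
      group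
    rw [h3]; exact h2

theorem KK_le (F : Frame Z Q U e) (i : Fin 3) : F.KK i ≤ F.N0 := fun _ h => h.1

theorem KK_inf (F : Frame Z Q U e) : F.KK 0 ⊓ F.KK 1 ⊓ F.KK 2 ≤ Q := by
  intro h hh
  obtain ⟨h01, h2⟩ := Subgroup.mem_inf.1 hh
  obtain ⟨h0, h1⟩ := Subgroup.mem_inf.1 h01
  apply F.mem_Q h0.1.1
  intro i
  fin_cases i
  · exact h0.2
  · exact h1.2
  · exact h2.2

/-- abelian, exponent 3, meeting `Q` trivially -/
structure Ab (F : Frame Z Q U e) (B : Subgroup G) : Prop where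
  cen : B ≤ Subgroup.centralizer (Z : Set G)
  comm : ∀ a ∈ B, ∀ b ∈ B, a * b = b * a
  exp : ∀ b ∈ B, b ^ 3 = 1
  bot : B ⊓ Q = ⊥

namespace Ab

variable {B : Subgroup G}

theorem KK_relIndex [Finite G] (F : Frame Z Q U e) (hB : F.Ab B) (B' : Subgroup G)
    (hB' : B' ≤ B) (h : B' ≤ F.N0) (i : Fin 3) : (F.KK i).relIndex B' ≤ 3 := by
  by_cases hall : ∀ b ∈ B', Triv Z (U i) b
  · apply relIndex_le3 _ _ (one_mem B')
    intro b hb
    exact ⟨0, by simpa using ⟨h hb, hall b hb⟩⟩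
  · push Not at hall
    obtain ⟨b0, hb0, hn⟩ := hall
    apply relIndex_le3 _ _ hb0
    intro b hb
    obtain ⟨m, hm⟩ := (F.blk i).comm3 (F.N0_act (h hb0) i) (hB.exp b0 (hB' hb0)) hn
      (F.N0_act (h hb) i) (hB.exp b (hB' hb)) (hB.comm _ (hB' hb0) _ (hB' hb))
    exact ⟨m, mul_mem (pow_mem (h hb0) _) (h hb), hm⟩

theorem card_of_le [Finite G] (F : Frame Z Q U e) (hB : F.Ab B) (h : B ≤ F.N0) :
    Nat.card B ≤ 27 := by
  have h1 : (F.KK 0 ⊓ F.KK 1 ⊓ F.KK 2).relIndex B = Nat.card B := by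
    rw [← Subgroup.inf_relIndex_right]
    have : F.KK 0 ⊓ F.KK 1 ⊓ F.KK 2 ⊓ B = ⊥ := by
      rw [eq_bot_iff, ← hB.bot]
      exact le_inf inf_le_right (inf_le_left.trans F.KK_inf)
    rw [this, Subgroup.relIndex_bot_left]
  have h2 : (F.KK 0 ⊓ F.KK 1 ⊓ F.KK 2).relIndex B ≤
      (F.KK 0 ⊓ F.KK 1).relIndex B * (F.KK 2).relIndex B := Subgroup.relIndex_inf_le
  have h3 : (F.KK 0 ⊓ F.KK 1).relIndex B ≤ (F.KK 0).relIndex B * (F.KK 1).relIndex B :=
    Subgroup.relIndex_inf_le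
  have k0 := hB.KK_relIndex F B le_rfl h 0
  have k1 := hB.KK_relIndex F B le_rfl h 1
  have k2 := hB.KK_relIndex F B le_rfl h 2
  rw [← h1]
  calc _ ≤ (F.KK 0 ⊓ F.KK 1).relIndex B * (F.KK 2).relIndex B := h2
    _ ≤ ((F.KK 0).relIndex B * (F.KK 1).relIndex B) * (F.KK 2).relIndex B :=
        Nat.mul_le_mul_right _ h3
    _ ≤ (3 * 3) * 3 := Nat.mul_le_mul (Nat.mul_le_mul k0 k1) k2

/-- an element commuting with a permuting element and trivial on one block is in `Q` -/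
theorem triv_all (F : Frame Z Q U e) {b0 b : G} (hb0 : b0 ∈ Subgroup.centralizer (Z : Set G))
    (h3 : F.sg b0 ^ 3 = 1) (hs : F.sg b0 ≠ 1) (_hb : b ∈ F.N0) (hcomm : b0 * b = b * b0)
    {i : Fin 3} (ht : Triv Z (U i) b) : ∀ j, Triv Z (U j) b := by
  have step : ∀ k, Triv Z (U k) b → Triv Z (U (F.sg b0 k)) b := by
    intro k hk x hx
    have h1 := hk _ (F.conj_inv_mem hb0 hx)
    have h2 : b * x * b⁻¹ * x⁻¹ =
        b0 * (b * (b0⁻¹ * x * b0) * b⁻¹ * (b0⁻¹ * x * b0)⁻¹) * b0⁻¹ := by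
      have e1 : b0 * b * b0⁻¹ = b := by rw [hcomm]; group
      calc b * x * b⁻¹ * x⁻¹ = (b0 * b * b0⁻¹) * x * (b0 * b * b0⁻¹)⁻¹ * x⁻¹ := by rw [e1]
        _ = _ := by group
    rw [h2, cz hb0 h1]; exact h1
  obtain ⟨c1, c2, c3⟩ := perm_cyc _ h3 hs i
  intro j
  rcases cov3 i (F.sg b0 i) (F.sg b0 (F.sg b0 i)) c1.symm c2.symm c3.symm j with rfl | rfl | rfl
  · exact ht
  · exact step _ ht
  · exact step _ (step _ ht)

theorem card_perm [Finite G] (F : Frame Z Q U e) (hB : F.Ab B) {b0 : G} (hb0 : b0 ∈ B)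
    (hs : F.sg b0 ≠ 1) : Nat.card B ≤ 9 := by
  have h3 : F.sg b0 ^ 3 = 1 := F.sg_cube (hB.cen hb0) (hB.exp b0 hb0)
  have h1 : F.N0.relIndex B ≤ 3 := by
    apply relIndex_le3 _ _ hb0
    intro b hb
    obtain ⟨m, hm⟩ := perm_cube _ (F.sg b) h3 hs (F.sg_cube (hB.cen hb) (hB.exp b hb))
    refine ⟨m, mul_mem (pow_mem (hB.cen hb0) _) (hB.cen hb), ?_⟩
    rw [F.sg_mul (pow_mem (hB.cen hb0) _) (hB.cen hb), F.sg_pow (hB.cen hb0), hm]
  have h2 := hB.KK_relIndex F (F.N0 ⊓ B) inf_le_right inf_le_left 0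
  have h4 : (F.KK 0 ⊓ B).relIndex (F.N0 ⊓ B) * (F.N0 ⊓ B).relIndex B = (F.KK 0 ⊓ B).relIndex B :=
    Subgroup.relIndex_mul_relIndex _ _ _ (inf_le_inf_right _ (F.KK_le 0)) inf_le_right
  have h5 : F.KK 0 ⊓ B = ⊥ := by
    rw [eq_bot_iff]
    intro b hb
    obtain ⟨hb1, hb2⟩ := Subgroup.mem_inf.1 hb
    rw [← hB.bot]
    refine Subgroup.mem_inf.2 ⟨hb2, F.mem_Q hb1.1.1 ?_⟩
    exact triv_all F (hB.cen hb0) h3 hs hb1.1 (hB.comm _ hb0 _ hb2) hb1.2
  have h6 : (F.KK 0 ⊓ B).relIndex (F.N0 ⊓ B) = (F.KK 0).relIndex (F.N0 ⊓ B) := by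
    rw [← Subgroup.inf_relIndex_right (F.KK 0) (F.N0 ⊓ B),
      ← Subgroup.inf_relIndex_right (F.KK 0 ⊓ B) (F.N0 ⊓ B)]
    congr 1
    ext x
    simp only [Subgroup.mem_inf]
    (clear * -; tauto)
  rw [Subgroup.inf_relIndex_right, h6, h5, Subgroup.relIndex_bot_left] at h4
  rw [← h4]
  calc _ ≤ 3 * 3 := Nat.mul_le_mul h2 h1

theorem card_le [Finite G] (F : Frame Z Q U e) (hB : F.Ab B) : Nat.card B ≤ 27 := by
  by_cases h : B ≤ F.N0
  · exact hB.card_of_le F h
  · obtain ⟨b, hb, hbn⟩ := Set.not_subset.1 h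
    have : F.sg b ≠ 1 := fun h1 => hbn ⟨hB.cen hb, h1⟩
    exact (hB.card_perm F hb this).trans (by norm_num)

theorem le_N0 [Finite G] (F : Frame Z Q U e) (hB : F.Ab B) (h27 : 27 ≤ Nat.card B) :
    B ≤ F.N0 := by
  intro b hb
  by_contra hbn
  have : F.sg b ≠ 1 := fun h1 => hbn ⟨hB.cen hb, h1⟩
  have := hB.card_perm F hb this
  omega

/-- elements acting on one block only -/
theorem exists_single [Finite G] (F : Frame Z Q U e) (hB : F.Ab B) (h27 : 27 ≤ Nat.card B)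
    (i : Fin 3) : ∃ b ∈ B, b ∈ F.N0 ∧ (∀ j, j ≠ i → Triv Z (U j) b) ∧ ¬ Triv Z (U i) b := by
  have hle := hB.le_N0 F h27
  obtain ⟨j, k, hij, hik, hjk⟩ := exists_jk i
  have hne : F.KK j ⊓ F.KK k ⊓ B ≠ ⊥ := by
    intro hbot
    have h1 : (F.KK j ⊓ F.KK k).relIndex B = Nat.card B := by
      rw [← Subgroup.inf_relIndex_right, hbot, Subgroup.relIndex_bot_left]
    have h3 : (F.KK j ⊓ F.KK k).relIndex B ≤ (F.KK j).relIndex B * (F.KK k).relIndex B :=
      Subgroup.relIndex_inf_le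
    have k0 := hB.KK_relIndex F B le_rfl hle j
    have k1 := hB.KK_relIndex F B le_rfl hle k
    have : (F.KK j).relIndex B * (F.KK k).relIndex B ≤ 3 * 3 := Nat.mul_le_mul k0 k1
    omega
  obtain ⟨⟨b, hb⟩, hb1⟩ := Subgroup.ne_bot_iff_exists_ne_one.1 hne
  obtain ⟨hjk', hbB⟩ := Subgroup.mem_inf.1 hb
  obtain ⟨hj, hk⟩ := Subgroup.mem_inf.1 hjk'
  have hoth : ∀ l, l ≠ i → Triv Z (U l) b := by
    intro l hl
    rcases cov3 i j k hij hik hjk l with rfl | rfl | rfl
    · exact absurd rfl hl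
    · exact hj.2
    · exact hk.2
  refine ⟨b, hbB, hle hbB, hoth, fun hi => hb1 ?_⟩
  have : (b : G) ∈ B ⊓ Q := by
    refine Subgroup.mem_inf.2 ⟨hbB, F.mem_Q (hle hbB).1 fun l => ?_⟩
    by_cases hl : l = i
    · subst hl; exact hi
    · exact hoth l hl
  rw [hB.bot, Subgroup.mem_bot] at this
  exact Subtype.ext this

/-- an element acting on all blocks -/
theorem exists_full' [Finite G] (F : Frame Z Q U e) (hB : F.Ab B) (h27 : 27 ≤ Nat.card B) :
    ∃ b ∈ B, b ∈ F.N0 ∧ ∀ i, ¬ Triv Z (U i) b := by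
  obtain ⟨b0, hb0, hN0, ht0, hn0⟩ := hB.exists_single F h27 0
  obtain ⟨b1, hb1, hN1, ht1, hn1⟩ := hB.exists_single F h27 1
  obtain ⟨b2, hb2, hN2, ht2, hn2⟩ := hB.exists_single F h27 2
  have key : ∀ i (a b : G), a ∈ F.N0 → b ∈ F.N0 → Triv Z (U i) b →
      (Triv Z (U i) (a * b) → Triv Z (U i) a) := by
    intro i a b ha hb h1 h2
    have hb' : b⁻¹ ∈ F.KK i := inv_mem (show b ∈ F.KK i from ⟨hb, h1⟩)
    have hab : a * b ∈ F.KK i := ⟨mul_mem ha hb, h2⟩
    have := mul_mem hab hb'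
    rw [mul_inv_cancel_right] at this
    exact this.2
  have key2 : ∀ i (a b : G), a ∈ F.N0 → b ∈ F.N0 → Triv Z (U i) a →
      (Triv Z (U i) (a * b) → Triv Z (U i) b) := by
    intro i a b ha hb h1 h2
    have ha' : a⁻¹ ∈ F.KK i := inv_mem (show a ∈ F.KK i from ⟨ha, h1⟩)
    have hab : a * b ∈ F.KK i := ⟨mul_mem ha hb, h2⟩
    have := mul_mem ha' hab
    rw [inv_mul_cancel_left] at this
    exact this.2
  refine ⟨b0 * b1 * b2, mul_mem (mul_mem hb0 hb1) hb2, mul_mem (mul_mem hN0 hN1) hN2, ?_⟩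
  intro i
  have hi : i = 0 ∨ i = 1 ∨ i = 2 := by (revert i; simp only [_root_.Fin.forall_fin_succ, Fin.isValue, _root_.zero_ne_one, Fin.reduceEq, _root_.or_self, _root_.or_false, _root_.Fin.succ_ne_zero, _root_.false_or, _root_.Fin.succ_zero_eq_one, _root_.Fin.succ_one_eq_two, _root_.or_true, _root_.IsEmpty.forall_iff, _root_.and_self])
  rcases hi with rfl | rfl | rfl
  · intro h
    exact hn0 (key 0 b0 b1 hN0 hN1 (ht1 0 (by decide))
      (key 0 (b0 * b1) b2 (mul_mem hN0 hN1) hN2 (ht2 0 (by decide)) h))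
  · intro h
    exact hn1 (key2 1 b0 b1 hN0 hN1 (ht0 1 (by decide))
      (key 1 (b0 * b1) b2 (mul_mem hN0 hN1) hN2 (ht2 1 (by decide)) h))
  · intro h
    refine hn2 (key2 2 (b0 * b1) b2 (mul_mem hN0 hN1) hN2 ?_ h)
    exact (ht0 2 (by decide)).mul (ht1 2 (by decide)) (F.N0_act hN1 2)

end Ab

end Frame

end Cfsg.Agent.H341.Weak
end

-- part: H341/WeakInv
section
/-!
# Involutions commuting with an element of order 3, and permuting elements
-/

set_option autoImplicit false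

namespace Cfsg.Agent.H341.Weak

variable {G : Type*} [Group G]

namespace Frame

variable {Z Q : Subgroup G} {U : Fin 3 → Subgroup G} {e : Fin 3 → G}

theorem e_inv (F : Frame Z Q U e) (i : Fin 3) : (e i)⁻¹ = e i :=
  inv_eq_of_mul_eq_one_left (F.e2 i)

/-- the element `x = y⁻¹ e y e⁻¹` -/
theorem xi_mem (F : Frame Z Q U e) {y : G} (hy : y ∈ Subgroup.centralizer (Z : Set G))
    {i : Fin 3} (hs : F.sg y i = i) :
    y⁻¹ * e i * y * (e i)⁻¹ ∈ U i ∧
    e i * (y⁻¹ * e i * y * (e i)⁻¹) * (e i)⁻¹ = (y⁻¹ * e i * y * (e i)⁻¹)⁻¹ := by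
  have h1 : e i * (y⁻¹ * e i * y * (e i)⁻¹) * (e i)⁻¹ = (y⁻¹ * e i * y * (e i)⁻¹)⁻¹ := by
    have he := F.e_inv i
    have h2 := F.e2 i
    calc e i * (y⁻¹ * e i * y * (e i)⁻¹) * (e i)⁻¹
        = e i * y⁻¹ * e i * y * (e i * e i)⁻¹ := by group
      _ = e i * y⁻¹ * e i * y := by rw [h2]; group
      _ = e i * y⁻¹ * (e i)⁻¹ * y := by rw [he]
      _ = _ := by group
  refine ⟨F.mem_U_of_inv ?_ h1, h1⟩
  have h3 := F.conj_e (inv_mem hy) i
  have hs' : F.sg y⁻¹ i = i := by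
    rw [F.sg_inv hy, Equiv.Perm.inv_eq_iff_eq, hs]
  rw [hs', inv_inv] at h3
  rw [F.e_inv i]; exact h3

theorem cube_inv {x : G} (h : x ^ 3 = 1) : x * x = x⁻¹ := by
  rw [eq_inv_iff_mul_eq_one, ← h]
  simp only [pow_succ, pow_zero, one_mul]

/-- `y x⁻¹` commutes with `e i` -/
theorem y1_comm {y ei x : G} (hx3 : x ^ 3 = 1) (hx : x = y⁻¹ * ei * y * ei⁻¹)
    (hinv : ei * x * ei⁻¹ = x⁻¹) : ei * (y * x⁻¹) * ei⁻¹ = y * x⁻¹ := by
  have h1 : ei * y * ei⁻¹ = y * x := by rw [hx]; group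
  have h2 : ei * x⁻¹ * ei⁻¹ = x := by
    calc ei * x⁻¹ * ei⁻¹ = (ei * x * ei⁻¹)⁻¹ := by group
      _ = x := by rw [hinv, inv_inv]
  calc ei * (y * x⁻¹) * ei⁻¹ = (ei * y * ei⁻¹) * (ei * x⁻¹ * ei⁻¹) := by group
    _ = y * (x * x) := by rw [h1, h2]; group
    _ = y * x⁻¹ := by rw [cube_inv hx3]

theorem Unip.cen_c (F : Frame Z Q U e) {i : Fin 3} {y r c : G} (H : Unip Z (U i) y r c)
    {x : G} (hx : x ∈ U i) (hxc : x * c = c * x) : ∃ n : Fin 3, ∃ w ∈ Z, x = c ^ n.val * w := by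
  obtain ⟨m, n, w, hw, rfl⟩ := H.gen x hx
  have cwc : Commute w c := F.zc hw (F.UleQ i H.cU)
  have hrm : Commute (r ^ m.val) c := by
    have h1 : r ^ m.val = (r ^ m.val * c ^ n.val * w) * w⁻¹ * (c ^ n.val)⁻¹ := by group
    rw [h1]
    have h2 : Commute (r ^ m.val * c ^ n.val * w) c := hxc
    exact (h2.mul_left cwc.inv_left).mul_left (((Commute.refl c).pow_left _).inv_left)
  by_cases hm : m = 0
  · subst hm
    exact ⟨n, w, hw, by simp⟩
  · exfalso
    have hr3 : r ^ 3 = 1 := F.exp r (F.UleQ i H.rU)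
    have hr : Commute r c := by
      have hm' : m = 1 ∨ m = 2 := by fin_cases m <;> simp_all only [_root_.pow_zero, _root_.one_mul, _root_.Commute.one_left, _root_.Fin.zero_eta, _root_.Fin.isValue, _root_.not_true_eq_false, _root_.pow_one, _root_.Fin.mk_one, _root_.one_ne_zero, _root_.not_false_eq_true, _root_.Fin.reduceEq, _root_.or_false, _root_.Fin.reduceFinMk, _root_.or_true]
      rcases hm' with rfl | rfl
      · simpa using hrm
      · have h4 : r = (r ^ 2) ^ 2 := by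
          calc r = r ^ 3 * r := by rw [hr3, one_mul]
            _ = (r ^ 2) ^ 2 := by rw [← pow_succ, ← pow_mul]
        rw [h4]; exact hrm.pow_left 2
    apply H.cZ
    apply F.cenU H.cU
    intro u hu
    obtain ⟨m', n', w', hw', rfl⟩ := H.gen u hu
    exact ((hr.symm.pow_right _).mul_right ((Commute.refl c).pow_right _)).mul_right
      (F.zc hw' (F.UleQ i H.cU)).symm

/-- an involution of the block commuting with `y` -/
theorem exists_e1 (F : Frame Z Q U e) {i : Fin 3} {y r c : G}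
    (hy : y ∈ Subgroup.centralizer (Z : Set G)) (hs : F.sg y i = i)
    (H : Unip Z (U i) y r c) (hyc : y * c = c * y) :
    ∃ q ∈ U i, y * (q * e i * q⁻¹) = (q * e i * q⁻¹) * y := by
  obtain ⟨hxU, hxinv⟩ := F.xi_mem hy hs
  set x := y⁻¹ * e i * y * (e i)⁻¹ with hx
  have hx3 : x ^ 3 = 1 := F.exp x (F.UleQ i hxU)
  have hy1 := y1_comm hx3 hx hxinv
  have heye : e i * y * (e i)⁻¹ = y * x := by rw [hx]; group
  -- `x` commutes with `c`
  have hxc : x * c = c * x := by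
    have h1 := F.einv i c H.cU
    set w := e i * c * (e i)⁻¹ * c with hw
    have h2 : e i * c * (e i)⁻¹ = w * c⁻¹ := by rw [hw]; group
    have h3 : Commute (y * x) (w * c⁻¹) := by
      rw [← heye, ← h2]
      show (e i * y * (e i)⁻¹) * (e i * c * (e i)⁻¹) = (e i * c * (e i)⁻¹) * (e i * y * (e i)⁻¹)
      calc (e i * y * (e i)⁻¹) * (e i * c * (e i)⁻¹) = e i * (y * c) * (e i)⁻¹ := by group
        _ = e i * (c * y) * (e i)⁻¹ := by rw [hyc]
        _ = _ := by group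
    have h4 : Commute (y * x) w := by
      have a1 : Commute y w := by
        show y * w = w * y
        exact (Subgroup.mem_centralizer_iff.1 hy w h1).symm
      have a2 : Commute x w := (F.zc h1 (F.UleQ i hxU)).symm
      exact a1.mul_left a2
    have h5 : Commute (y * x) c := by
      have h6 : c = (w * c⁻¹)⁻¹ * w := by
        rw [mul_inv_rev, inv_inv, mul_assoc, inv_mul_cancel, mul_one]
      rw [h6]
      exact h3.inv_right.mul_right h4
    have h7 : x = y⁻¹ * (y * x) := by group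
    have h8 : Commute y c := hyc
    show Commute x c
    rw [h7]
    exact h8.inv_left.mul_left h5
  obtain ⟨n, w, hw, hxn⟩ := Unip.cen_c F H hxU hxc
  have hrU := H.rU
  -- `y⁻¹ r y = c⁻¹ r`
  have hyr : y⁻¹ * r * y = c⁻¹ * r := by
    have h1 : y * (c⁻¹ * r) * y⁻¹ = r := by
      calc y * (c⁻¹ * r) * y⁻¹ = (y * c⁻¹) * r * y⁻¹ := by group
        _ = (c⁻¹ * y) * r * y⁻¹ := by rw [(Commute.inv_right hyc : Commute y c⁻¹).eq]
        _ = c⁻¹ * (y * r * y⁻¹) := by group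
        _ = r := by rw [H.yr]; group
    calc y⁻¹ * r * y = y⁻¹ * (y * (c⁻¹ * r) * y⁻¹) * y := by rw [h1]
      _ = _ := by group
  have hc3 : c ^ 3 = 1 := F.exp c (F.UleQ i H.cU)
  -- find `q`
  obtain ⟨q, hqU, w2, hw2, hq⟩ : ∃ q ∈ U i, ∃ w2 ∈ Z, y⁻¹ * q * y * q⁻¹ = x * w2 := by
    have hn : n = 0 ∨ n = 1 ∨ n = 2 := by fin_cases n <;> simp
    rcases hn with rfl | rfl | rfl
    · refine ⟨1, one_mem _, w⁻¹, inv_mem hw, ?_⟩
      rw [hxn]; simp
    · -- `q = r⁻¹`
      have h1 : y⁻¹ * r⁻¹ * y * r⁻¹⁻¹ = r⁻¹ * c * r := by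
        calc y⁻¹ * r⁻¹ * y * r⁻¹⁻¹ = (y⁻¹ * r * y)⁻¹ * r := by group
          _ = r⁻¹ * c * r := by rw [hyr]; group
      have h2 := F.comZ r⁻¹ (F.UleQ i (inv_mem hrU)) c (F.UleQ i H.cU)
      set w3 := r⁻¹ * c * r⁻¹⁻¹ * c⁻¹ with hw3
      refine ⟨r⁻¹, inv_mem hrU, w3 * w⁻¹, mul_mem h2 (inv_mem hw), ?_⟩
      have h4 : r⁻¹ * c * r = w3 * c := by rw [hw3]; group
      rw [h1, h4, hxn]
      have c1 : w3 * c = c * w3 := F.zc h2 (F.UleQ i H.cU)
      have c2 : w * w3 = w3 * w := F.zc hw (F.ZleQ h2)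
      rw [c1]
      show c * w3 = c ^ 1 * w * (w3 * w⁻¹)
      calc c * w3 = c * (w3 * w) * w⁻¹ := by group
        _ = c * (w * w3) * w⁻¹ := by rw [c2]
        _ = _ := by group
    · -- `q = r`
      refine ⟨r, hrU, w⁻¹, inv_mem hw, ?_⟩
      rw [hyr, hxn]
      show c⁻¹ * r * r⁻¹ = c ^ 2 * w * w⁻¹
      have : c⁻¹ = c * c := (cube_inv hc3).symm
      rw [this, pow_two]; group
  refine ⟨q, hqU, ?_⟩
  -- `q y₁ q⁻¹ = y w'`
  have hqy : ∃ w' ∈ Z, q * (y * x⁻¹) * q⁻¹ = y * w' := by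
    have h2 := F.comZ q (F.UleQ i hqU) x⁻¹ (F.UleQ i (inv_mem hxU))
    set w3 := q * x⁻¹ * q⁻¹ * x⁻¹⁻¹ with hw3
    refine ⟨w2 * w3, mul_mem hw2 h2, ?_⟩
    have h4 : q * x⁻¹ * q⁻¹ = w3 * x⁻¹ := by rw [hw3]; group
    have h5 : q * y * q⁻¹ = y * (x * w2) := by rw [← hq]; group
    have c1 : w3 * x⁻¹ = x⁻¹ * w3 := F.zc h2 (F.UleQ i (inv_mem hxU))
    have c2 : w2 * x⁻¹ = x⁻¹ * w2 := F.zc hw2 (F.UleQ i (inv_mem hxU))
    calc q * (y * x⁻¹) * q⁻¹ = (q * y * q⁻¹) * (q * x⁻¹ * q⁻¹) := by group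
      _ = y * (x * w2) * (x⁻¹ * w3) := by rw [h5, h4, c1]
      _ = y * x * (w2 * x⁻¹) * w3 := by group
      _ = y * x * (x⁻¹ * w2) * w3 := by rw [c2]
      _ = _ := by group
  obtain ⟨w', hw', hqy⟩ := hqy
  have hy2 : y = (q * (y * x⁻¹) * q⁻¹) * w'⁻¹ := by rw [hqy]; group
  have k1 : Commute (q * (y * x⁻¹) * q⁻¹) (q * e i * q⁻¹) := by
    show (q * (y * x⁻¹) * q⁻¹) * (q * e i * q⁻¹) = (q * e i * q⁻¹) * (q * (y * x⁻¹) * q⁻¹)
    have h1 : e i * (y * x⁻¹) = (y * x⁻¹) * e i := by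
      calc e i * (y * x⁻¹) = (e i * (y * x⁻¹) * (e i)⁻¹) * e i := by group
        _ = _ := by rw [hy1]
    calc (q * (y * x⁻¹) * q⁻¹) * (q * e i * q⁻¹) = q * ((y * x⁻¹) * e i) * q⁻¹ := by group
      _ = q * (e i * (y * x⁻¹)) * q⁻¹ := by rw [h1]
      _ = _ := by group
  have k2 : Commute w'⁻¹ (q * e i * q⁻¹) := by
    have hC : q * e i * q⁻¹ ∈ Subgroup.centralizer (Z : Set G) :=
      mul_mem (mul_mem (F.QleC (F.UleQ i hqU)) (F.eC i)) (inv_mem (F.QleC (F.UleQ i hqU)))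
    exact Subgroup.mem_centralizer_iff.1 hC _ (inv_mem hw')
  have k3 : Commute y (q * e i * q⁻¹) := by
    rw [hy2]; exact k1.mul_left k2
  exact k3

/-- simultaneous version -/
theorem Full.exists_conj {y : G} {r c : Fin 3 → G} (F : Frame Z Q U e) (H : Full Z U y r c)
    (I : Fin 3 → Prop) (hI : ∀ i, I i → y * c i = c i * y) :
    ∃ q ∈ Q, ∀ i, I i → y * (q * e i * q⁻¹) = (q * e i * q⁻¹) * y := by
  classical
  have hsg : ∀ i, F.sg y i = i := by
    intro i
    obtain ⟨x, hx, hxZ⟩ := F.exists_notZ i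
    exact F.sg_eq H.cen hx hxZ ((H.act i).nor x hx)
  have h1 : ∀ i, ∃ q ∈ U i, I i → y * (q * e i * q⁻¹) = (q * e i * q⁻¹) * y := by
    intro i
    by_cases hi : I i
    · obtain ⟨q, hq, hq2⟩ := F.exists_e1 H.cen (hsg i) (H.H i) (hI i hi)
      exact ⟨q, hq, fun _ => hq2⟩
    · exact ⟨1, one_mem _, fun h => absurd h hi⟩
  choose q hqU hq using h1
  refine ⟨q 0 * q 1 * q 2, mul_mem (mul_mem (F.UleQ 0 (hqU 0)) (F.UleQ 1 (hqU 1)))
    (F.UleQ 2 (hqU 2)), ?_⟩
  intro i hi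
  have key : (q 0 * q 1 * q 2) * e i * (q 0 * q 1 * q 2)⁻¹ = q i * e i * (q i)⁻¹ := by
    have hqe : ∀ j, j ≠ i → q j * e i * (q j)⁻¹ = e i := by
      intro j hj
      have h1 := F.eU i j hj _ (hqU j)
      have h2 : e i * q j = q j * e i := by
        calc e i * q j = (e i * q j * (e i)⁻¹) * e i := by group
          _ = _ := by rw [h1]
      rw [← h2]; group
    have hqq : ∀ j, j ≠ i → q j * q i * (q j)⁻¹ = q i := by
      intro j hj
      rw [F.comm j i hj _ (hqU j) _ (hqU i)]; group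
    have hqei : ∀ j, j ≠ i → q j * (q i * e i * (q i)⁻¹) * (q j)⁻¹ = q i * e i * (q i)⁻¹ := by
      intro j hj
      calc q j * (q i * e i * (q i)⁻¹) * (q j)⁻¹
          = (q j * q i * (q j)⁻¹) * (q j * e i * (q j)⁻¹) * (q j * q i * (q j)⁻¹)⁻¹ := by group
        _ = _ := by rw [hqq j hj, hqe j hj]
    have hi3 : i = 0 ∨ i = 1 ∨ i = 2 := by fin_cases i <;> simp
    rcases hi3 with rfl | rfl | rfl
    · calc (q 0 * q 1 * q 2) * e 0 * (q 0 * q 1 * q 2)⁻¹
          = q 0 * (q 1 * (q 2 * e 0 * (q 2)⁻¹) * (q 1)⁻¹) * (q 0)⁻¹ := by group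
        _ = _ := by rw [hqe 2 (by decide), hqe 1 (by decide)]
    · calc (q 0 * q 1 * q 2) * e 1 * (q 0 * q 1 * q 2)⁻¹
          = q 0 * (q 1 * (q 2 * e 1 * (q 2)⁻¹) * (q 1)⁻¹) * (q 0)⁻¹ := by group
        _ = _ := by rw [hqe 2 (by decide), hqei 0 (by decide)]
    · calc (q 0 * q 1 * q 2) * e 2 * (q 0 * q 1 * q 2)⁻¹
          = q 0 * (q 1 * (q 2 * e 2 * (q 2)⁻¹) * (q 1)⁻¹) * (q 0)⁻¹ := by group
        _ = _ := by rw [hqei 1 (by decide), hqei 0 (by decide)]
  rw [key]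
  exact hq i hi

end Frame

end Cfsg.Agent.H341.Weak
end

-- part: H341/WeakPerm
section
/-!
# Elements permuting the blocks
-/

set_option autoImplicit false

namespace Cfsg.Agent.H341.Weak

variable {G : Type*} [Group G]

/-- norm -/
def Nm (y u : G) : G := u * (y * u * y⁻¹) * (y * (y * u * y⁻¹) * y⁻¹)

namespace Frame

variable {Z Q : Subgroup G} {U : Fin 3 → Subgroup G} {e : Fin 3 → G}

/-- an element of order 3 permuting the blocks -/
structure Cyc (F : Frame Z Q U e) (y : G) : Prop where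
  cen : y ∈ Subgroup.centralizer (Z : Set G)
  y3 : y ^ 3 = 1
  ne : F.sg y ≠ 1

namespace Cyc

variable {y : G}

theorem s3 (F : Frame Z Q U e) (H : F.Cyc y) : F.sg y ^ 3 = 1 := F.sg_cube H.cen H.y3

theorem data (F : Frame Z Q U e) (H : F.Cyc y) {i : Fin 3} {u : G} (hu : u ∈ U i) :
    y * u * y⁻¹ ∈ U (F.sg y i) ∧ y * (y * u * y⁻¹) * y⁻¹ ∈ U (F.sg y (F.sg y i)) :=
  ⟨F.sg_spec H.cen i hu, F.sg_spec H.cen _ (F.sg_spec H.cen i hu)⟩

theorem dist (F : Frame Z Q U e) (H : F.Cyc y) (i : Fin 3) :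
    i ≠ F.sg y i ∧ i ≠ F.sg y (F.sg y i) ∧ F.sg y i ≠ F.sg y (F.sg y i) := by
  obtain ⟨h1, h2, h3⟩ := perm_cyc _ (H.s3 F) H.ne i
  exact ⟨h1.symm, h2.symm, h3.symm⟩

theorem comms (F : Frame Z Q U e) (H : F.Cyc y) {i : Fin 3} {u v : G} (hu : u ∈ U i)
    (hv : v ∈ U i) : Commute u (y * v * y⁻¹) ∧ Commute u (y * (y * v * y⁻¹) * y⁻¹) ∧
    Commute (y * u * y⁻¹) (y * (y * v * y⁻¹) * y⁻¹) := by
  obtain ⟨h1, h2, h3⟩ := H.dist F i
  obtain ⟨a1, a2⟩ := H.data F hu
  obtain ⟨b1, b2⟩ := H.data F hv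
  exact ⟨F.comm _ _ h1 _ hu _ b1, F.comm _ _ h2 _ hu _ b2, F.comm _ _ h3 _ a1 _ b2⟩

theorem Nm_mul (F : Frame Z Q U e) (H : F.Cyc y) {i : Fin 3} {u v : G} (hu : u ∈ U i)
    (hv : v ∈ U i) : Nm y (u * v) = Nm y u * Nm y v := by
  obtain ⟨h1, h2, h3⟩ := H.comms F hu hv
  obtain ⟨g1, g2, g3⟩ := H.comms F hv hu
  unfold Nm
  set u1 := y * u * y⁻¹ with hu1
  set v1 := y * v * y⁻¹ with hv1
  set u2 := y * u1 * y⁻¹ with hu2
  set v2 := y * v1 * y⁻¹ with hv2
  have e1 : y * (u * v) * y⁻¹ = u1 * v1 := by rw [hu1, hv1]; group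
  have e2 : y * (u1 * v1) * y⁻¹ = u2 * v2 := by rw [hu2, hv2]; group
  rw [e1, e2]
  calc u * v * (u1 * v1) * (u2 * v2) = u * (v * u1) * (v1 * u2) * v2 := by group
    _ = u * (u1 * v) * (u2 * v1) * v2 := by rw [g1.eq, g3.eq]
    _ = u * u1 * (v * u2) * v1 * v2 := by group
    _ = u * u1 * (u2 * v) * v1 * v2 := by rw [g2.eq]
    _ = _ := by group

theorem Nm_Z (F : Frame Z Q U e) (H : F.Cyc y) {u : G} (hu : u ∈ Z) : Nm y u = 1 := by
  unfold Nm
  rw [cz H.cen hu, cz H.cen hu]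
  have := F.exp u (F.ZleQ hu)
  calc u * u * u = u ^ 3 := by simp only [pow_succ, pow_zero, one_mul]
    _ = 1 := this

theorem mem_Z_of_Nm (F : Frame Z Q U e) (H : F.Cyc y) {i : Fin 3} {u : G} (hu : u ∈ U i)
    (h : Nm y u ∈ Z) : u ∈ Z := by
  obtain ⟨h1, h2, h3⟩ := H.dist F i
  obtain ⟨a1, a2⟩ := H.data F hu
  exact F.indep1 h1 h2 hu a1 a2 h

theorem Nm_comm (F : Frame Z Q U e) (H : F.Cyc y) {i : Fin 3} {u : G} (hu : u ∈ U i) :
    y * Nm y u * y⁻¹ = Nm y u := by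
  obtain ⟨h1, h2, h3⟩ := H.comms F hu hu
  have h4 := Blk.conj_cube H.y3 u
  unfold Nm
  set u1 := y * u * y⁻¹ with hu1
  set u2 := y * u1 * y⁻¹ with hu2
  calc y * (u * u1 * u2) * y⁻¹ = (y * u * y⁻¹) * (y * u1 * y⁻¹) * (y * u2 * y⁻¹) := by group
    _ = u1 * u2 * u := by rw [← hu1, ← hu2, h4]
    _ = u1 * (u2 * u) := by group
    _ = u1 * (u * u2) := by rw [h2.eq]
    _ = (u1 * u) * u2 := by group
    _ = _ := by rw [h1.eq]

theorem Nm_mem (F : Frame Z Q U e) (H : F.Cyc y) {i : Fin 3} {u : G} (hu : u ∈ U i) :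
    Nm y u ∈ Q ⊓ Subgroup.centralizer {y} := by
  obtain ⟨a1, a2⟩ := H.data F hu
  refine Subgroup.mem_inf.2 ⟨mul_mem (mul_mem (F.UleQ _ hu) (F.UleQ _ a1)) (F.UleQ _ a2), ?_⟩
  rw [Subgroup.mem_centralizer_iff]
  intro y' hy'
  rw [Set.mem_singleton_iff.1 hy']
  calc y * Nm y u = (y * Nm y u * y⁻¹) * y := by group
    _ = _ := by rw [H.Nm_comm F hu]

/-- the norm as a homomorphism -/
def nmHom (F : Frame Z Q U e) (H : F.Cyc y) (i : Fin 3) : U i →* G where
  toFun u := Nm y u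
  map_one' := by simp [Nm]
  map_mul' u v := H.Nm_mul F u.2 v.2

theorem card_cen [Finite G] (F : Frame Z Q U e) (H : F.Cyc y) :
    27 ≤ Nat.card (Q ⊓ Subgroup.centralizer {y} : Subgroup G) := by
  set f := nmHom F H 0 with hf
  have hker : ∀ u : U 0, u ∈ f.ker ↔ (u : G) ∈ Z := by
    intro u
    rw [MonoidHom.mem_ker]
    constructor
    · intro h
      exact H.mem_Z_of_Nm F u.2 (by
        have : Nm y (u : G) = 1 := h
        rw [this]; exact one_mem _)
    · intro h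
      exact H.Nm_Z F h
  have hker2 : f.ker = Z.subgroupOf (U 0) := by
    ext u; rw [hker u, Subgroup.mem_subgroupOf]
  have hkc : Nat.card f.ker = 3 := by
    rw [hker2, Nat.card_congr (Subgroup.subgroupOfEquivOfLe (F.ZleU 0)).toEquiv, F.cardZ]
  have hrange : Nat.card f.range = 9 := by
    have h1 := Subgroup.card_eq_card_quotient_mul_card_subgroup f.ker
    rw [Nat.card_congr (QuotientGroup.quotientKerEquivRange f).toEquiv, hkc, F.cardU 0] at h1
    omega
  have hdisj : Disjoint f.range Z := by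
    rw [Subgroup.disjoint_def]
    rintro x ⟨u, rfl⟩ hx
    have h1 := H.mem_Z_of_Nm F u.2 hx
    exact H.Nm_Z F h1
  have hinj := Subgroup.mul_injective_of_disjoint hdisj
  have hle1 : f.range ≤ Q ⊓ Subgroup.centralizer {y} := by
    rintro x ⟨u, rfl⟩
    exact H.Nm_mem F u.2
  have hle2 : Z ≤ Q ⊓ Subgroup.centralizer {y} := by
    intro z hz
    refine Subgroup.mem_inf.2 ⟨F.ZleQ hz, ?_⟩
    rw [Subgroup.mem_centralizer_iff]
    intro y' hy'
    rw [Set.mem_singleton_iff.1 hy']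
    exact (Subgroup.mem_centralizer_iff.1 H.cen z hz).symm
  have h2 := Nat.card_le_card_of_injective
    (fun p : f.range × Z => (⟨(p.1 : G) * p.2, mul_mem (hle1 p.1.2) (hle2 p.2.2)⟩ :
      (Q ⊓ Subgroup.centralizer {y} : Subgroup G))) (by
    intro p q h
    exact hinj (congrArg Subtype.val h))
  rw [Nat.card_prod, hrange, F.cardZ] at h2
  exact h2

end Cyc

end Frame

end Cfsg.Agent.H341.Weak
end

-- part: H341/WeakPair
section
/-!
# Two commuting conjugates of `Z`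
-/

set_option autoImplicit false

namespace Cfsg.Agent.H341.Weak

variable {G : Type*} [Group G]

theorem sq_one_of {w : G} (h3 : w ^ 3 = 1) (h2 : w * w = 1) : w = 1 := by
  calc w = w ^ 3 * (w * w)⁻¹ := by group
    _ = 1 := by rw [h3, h2]; simp

namespace Frame

variable {Z Q : Subgroup G} {U : Fin 3 → Subgroup G} {e : Fin 3 → G}

end Frame

structure Pair (Z Q : Subgroup G) (U : Fin 3 → Subgroup G) (e : Fin 3 → G)
    (Y Q' : Subgroup G) (U' : Fin 3 → Subgroup G) (e' : Fin 3 → G) : Prop where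
  F : Frame Z Q U e
  F' : Frame Y Q' U' e'
  comm : ∀ z ∈ Z, ∀ y ∈ Y, z * y = y * z
  YQ : Y ⊓ Q = ⊥
  ZQ' : Z ⊓ Q' = ⊥
  wc : ∀ g : G, (∀ z ∈ Z, g * z * g⁻¹ ∈ Q) → ∀ z ∈ Z, g * z * g⁻¹ ∈ Z
  wc' : ∀ g : G, (∀ y ∈ Y, g * y * g⁻¹ ∈ Q') → ∀ y ∈ Y, g * y * g⁻¹ ∈ Y

namespace Pair

variable {Z Q : Subgroup G} {U : Fin 3 → Subgroup G} {e : Fin 3 → G}
  {Y Q' : Subgroup G} {U' : Fin 3 → Subgroup G} {e' : Fin 3 → G}

theorem symm (P : Pair Z Q U e Y Q' U' e') : Pair Y Q' U' e' Z Q U e where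
  F := P.F'
  F' := P.F
  comm y hy z hz := (P.comm z hz y hy).symm
  YQ := P.ZQ'
  ZQ' := P.YQ
  wc := P.wc'
  wc' := P.wc

/-- change of involutions -/
theorem conjE (P : Pair Z Q U e Y Q' U' e') {q : G} (hq : q ∈ Q) :
    Pair Z Q U (fun i => q * e i * q⁻¹) Y Q' U' e' :=
  { P with F := P.F.conjE hq }

theorem ZC (P : Pair Z Q U e Y Q' U' e') {z : G} (hz : z ∈ Z) :
    z ∈ Subgroup.centralizer (Y : Set G) :=
  Subgroup.mem_centralizer_iff.2 fun y hy => (P.comm z hz y hy).symm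

/-- key consequence of weak closure -/
theorem W1 (P : Pair Z Q U e Y Q' U' e') {y d g : G} (hy : y ∈ Y) (hy1 : y ≠ 1) (hdQ : d ∈ Q)
    (hdQ' : d ∈ Q') (hg : g * y * g⁻¹ = y * d) : d = 1 := by
  have h1 : ∀ y' ∈ Y, g * y' * g⁻¹ ∈ Q' := by
    intro y' hy'
    obtain ⟨m, rfl⟩ := (P.F'.blk 0).powZ hy hy1 hy'
    rw [← conj_pow, hg]
    exact pow_mem (mul_mem (P.F'.ZleQ hy) hdQ') _
  have h2 := P.wc' g h1 y hy
  rw [hg] at h2
  have h3 : d ∈ Y := by
    have := mul_mem (inv_mem hy) h2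
    rwa [inv_mul_cancel_left] at this
  have h4 : d ∈ Y ⊓ Q := Subgroup.mem_inf.2 ⟨h3, hdQ⟩
  rw [P.YQ] at h4
  exact Subgroup.mem_bot.1 h4

theorem W1' (P : Pair Z Q U e Y Q' U' e') {y d x : G} (hy : y ∈ Y) (hy1 : y ≠ 1) (hdQ : d ∈ Q)
    (hdQ' : d ∈ Q') (hg : y⁻¹ * x * y * x⁻¹ = d) : d = 1 := by
  apply P.W1 hy hy1 hdQ hdQ' (g := x)
  rw [← hg]; group

theorem cent_eq (F' : Frame Y Q' U' e') {y : G} (hy : y ∈ Y) (hy1 : y ≠ 1) :
    Subgroup.centralizer {y} = Subgroup.centralizer (Y : Set G) := by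
  ext x
  rw [Subgroup.mem_centralizer_iff, Subgroup.mem_centralizer_iff]
  constructor
  · intro h y' hy'
    obtain ⟨m, rfl⟩ := (F'.blk 0).powZ hy hy1 hy'
    have : Commute y x := h y rfl
    exact this.pow_left _
  · intro h y' hy'
    rw [Set.mem_singleton_iff.1 hy']
    exact h y hy

theorem D_le (P : Pair Z Q U e Y Q' U' e') : Q ⊓ Q' ≤ Q ⊓ Subgroup.centralizer (Y : Set G) :=
  inf_le_inf_left _ P.F'.QleC

theorem P3 (P : Pair Z Q U e Y Q' U' e') {a b : G}
    (ha : a ∈ Q ⊓ Subgroup.centralizer (Y : Set G))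
    (hb : b ∈ Q' ⊓ Subgroup.centralizer (Z : Set G)) : a * b * a⁻¹ * b⁻¹ ∈ Q ⊓ Q' := by
  obtain ⟨ha1, ha2⟩ := Subgroup.mem_inf.1 ha
  obtain ⟨hb1, hb2⟩ := Subgroup.mem_inf.1 hb
  refine Subgroup.mem_inf.2 ⟨?_, ?_⟩
  · have h1 := P.F.conjQ b hb2 a⁻¹ (inv_mem ha1)
    have h2 : a * b * a⁻¹ * b⁻¹ = a * (b * a⁻¹ * b⁻¹) := by group
    rw [h2]; exact mul_mem ha1 h1
  · exact mul_mem (P.F'.conjQ a ha2 b hb1) (inv_mem hb1)

theorem comm_of_bot (P : Pair Z Q U e Y Q' U' e') (hD : Q ⊓ Q' = ⊥) {a b : G}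
    (ha : a ∈ Q ⊓ Subgroup.centralizer (Y : Set G))
    (hb : b ∈ Q' ⊓ Subgroup.centralizer (Z : Set G)) : a * b = b * a := by
  have h := P.P3 ha hb
  rw [hD, Subgroup.mem_bot] at h
  calc a * b = (a * b * a⁻¹ * b⁻¹) * (b * a) := by group
    _ = b * a := by rw [h, one_mul]

theorem ab (P : Pair Z Q U e Y Q' U' e') (hD : Q ⊓ Q' = ⊥)
    (hA : ∀ a ∈ Q ⊓ Subgroup.centralizer (Y : Set G),
      ∀ b ∈ Q ⊓ Subgroup.centralizer (Y : Set G), a * b = b * a) :
    P.F'.Ab (Q ⊓ Subgroup.centralizer (Y : Set G)) where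
  cen := inf_le_right
  comm := hA
  exp b hb := P.F.exp b (Subgroup.mem_inf.1 hb).1
  bot := by
    rw [eq_bot_iff, ← hD]
    exact le_inf (inf_le_left.trans inf_le_left) inf_le_right

/-- the involutions `e' i` commuting with `Z` act on `A` -/
theorem X (P : Pair Z Q U e Y Q' U' e') {i : Fin 3}
    (ht : e' i ∈ Subgroup.centralizer (Z : Set G)) {a : G}
    (ha : a ∈ Q ⊓ Subgroup.centralizer (Y : Set G)) :
    P.F'.sg a i = i ∧ e' i * a * (e' i)⁻¹ * a⁻¹ ∈ Q ⊓ Q' := by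
  obtain ⟨ha1, ha2⟩ := Subgroup.mem_inf.1 ha
  set t := e' i with htdef
  have htY : t ∈ Subgroup.centralizer (Y : Set G) := P.F'.eC i
  have ht2 : t * t = 1 := P.F'.e2 i
  have hti : t⁻¹ = t := P.F'.e_inv i
  have hx := P.F'.conj_e ha2 i
  have hga : t * a * t⁻¹ * a⁻¹ ∈ Q := mul_mem (P.F.conjQ t ht a ha1) (inv_mem ha1)
  have hgC : t * a * t⁻¹ * a⁻¹ ∈ Subgroup.centralizer (Y : Set G) :=
    mul_mem (mul_mem (mul_mem htY ha2) (inv_mem htY)) (inv_mem ha2)
  by_cases hs : P.F'.sg a i = i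
  · refine ⟨hs, Subgroup.mem_inf.2 ⟨hga, ?_⟩⟩
    rw [hs, ← htdef] at hx
    have h1 : t * a * t⁻¹ * a⁻¹ = (a * t * a⁻¹ * t)⁻¹ := by
      calc t * a * t⁻¹ * a⁻¹ = t⁻¹ * a * t⁻¹ * a⁻¹ := by rw [hti]
        _ = _ := by group
    rw [h1]; exact inv_mem hx
  · exfalso
    set x := a * t * a⁻¹ * e' (P.F'.sg a i) with hxdef
    -- `g = t a t⁻¹ a⁻¹ = t x⁻¹`-like
    set g := t * a * t⁻¹ * a⁻¹ with hg
    have hg3 : g ^ 3 = 1 := P.F.exp g hga
    have hgx : g = t * (e' (P.F'.sg a i) * x⁻¹) := by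
      have h1 : a * t⁻¹ * a⁻¹ = e' (P.F'.sg a i) * x⁻¹ := by rw [hxdef]; group
      rw [← h1, hg]; group
    have hinv : ∀ u ∈ U' i, g * u * g⁻¹ * u ∈ Y := by
      intro u hu
      have h1 := P.F'.comZ x⁻¹ (inv_mem hx) u (P.F'.UleQ i hu)
      set w := x⁻¹ * u * x⁻¹⁻¹ * u⁻¹ with hw
      have h2 : x⁻¹ * u * x⁻¹⁻¹ = w * u := by rw [hw]; group
      have h3 := P.F'.eU (P.F'.sg a i) i (fun h => hs h.symm) u hu
      have h4 := P.F'.einv i u hu
      have hwe : ∀ k, e' k * w * (e' k)⁻¹ = w := fun k => Frame.cz (P.F'.eC k) h1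
      have h5 : g * u * g⁻¹ = w * (t * u * t⁻¹) := by
        calc g * u * g⁻¹ = t * (e' (P.F'.sg a i) * (x⁻¹ * u * x⁻¹⁻¹) * (e' (P.F'.sg a i))⁻¹) * t⁻¹ := by
              rw [hgx]; group
          _ = t * ((e' (P.F'.sg a i) * w * (e' (P.F'.sg a i))⁻¹) *
                (e' (P.F'.sg a i) * u * (e' (P.F'.sg a i))⁻¹)) * t⁻¹ := by rw [h2]; group
          _ = (t * w * t⁻¹) * (t * u * t⁻¹) := by rw [hwe, h3]; group
          _ = _ := by rw [htdef, hwe]
      have h6 : g * u * g⁻¹ * u = w * (t * u * t⁻¹ * u) := by rw [h5]; group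
      rw [h6]
      exact mul_mem h1 h4
    have hgact : ∀ u ∈ U' i, g * u * g⁻¹ ∈ U' i := by
      intro u hu
      have h1 : g * u * g⁻¹ = (g * u * g⁻¹ * u) * u⁻¹ := by group
      rw [h1]
      exact mul_mem (P.F'.ZleU i (hinv u hu)) (inv_mem hu)
    obtain ⟨u, hu, huZ⟩ := P.F'.exists_notZ i
    apply huZ
    -- `g u g⁻¹ = w₁ u⁻¹` etc.
    have k1 := hinv u hu
    have k2 := hinv _ (hgact u hu)
    have k3 := hinv _ (hgact _ (hgact u hu))
    have hc := Blk.conj_cube hg3 u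
    rw [hc] at k3
    -- k3 : u * (g (g u g⁻¹) g⁻¹) ∈ Y,  k2 : g(gug⁻¹)g⁻¹ * (gug⁻¹) ∈ Y, k1 : gug⁻¹ * u ∈ Y
    set v := g * u * g⁻¹ with hv
    set v2 := g * v * g⁻¹ with hv2
    -- u v2 = y3, v2 v = y2, v u = y1
    have hvU := hgact u hu
    have hcent : ∀ y ∈ Y, ∀ q ∈ Q', y * q = q * y := fun y hy q hq => P.F'.zc hy hq
    have e1 : u * u = (u * v2) * (v2 * v)⁻¹ * (v * u) := by
      have hv2v : v2 = (v2 * v) * v⁻¹ := by group
      have : (u * v2) * (v2 * v)⁻¹ * (v * u) = u * (v2 * v⁻¹ * v2⁻¹) * (v * u) := by group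
      rw [this]
      -- v2 commutes with v modulo: use v2 = y2 v⁻¹
      have h1 : v2 * v⁻¹ * v2⁻¹ = v⁻¹ := by
        have hcm : v2 * v = v * v2 := by
          rw [hv2v]
          calc (v2 * v) * v⁻¹ * v = (v2 * v) := by group
            _ = v * (v2 * v) * v⁻¹ := by
                rw [← hcent _ k2 v (P.F'.UleQ i hvU)]; group
            _ = v * ((v2 * v) * v⁻¹) := by group
        calc v2 * v⁻¹ * v2⁻¹ = (v2 * v * v2⁻¹)⁻¹ := by group
          _ = (v * v2 * v2⁻¹)⁻¹ := by rw [hcm]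
          _ = v⁻¹ := by group
      rw [h1]; group
    have h7 : u * u ∈ Y := by
      rw [e1]
      exact mul_mem (mul_mem k3 (inv_mem k2)) k1
    have h5 := P.F'.exp u (P.F'.UleQ i hu)
    have h6 : u = (u * u) * (u * u) := by
      calc u = u ^ 3 * u := by rw [h5, one_mul]
        _ = (u * u) * (u * u) := by simp only [pow_succ, pow_zero, one_mul, mul_assoc]
    rw [h6]; exact mul_mem h7 h7

end Pair

end Cfsg.Agent.H341.Weak
end

-- part: H341/WeakOne
section
/-!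
# `C_Q(Y)` is abelian
-/

set_option autoImplicit false

namespace Cfsg.Agent.H341.Weak

variable {G : Type*} [Group G]

namespace Pair

variable {Z Q : Subgroup G} {U : Fin 3 → Subgroup G} {e : Fin 3 → G}
  {Y Q' : Subgroup G} {U' : Fin 3 → Subgroup G} {e' : Fin 3 → G}

/-- if a full element `z ∈ Z` does not centralize all of its fixed space, `Q ⊓ Q' = ⊥`. -/
theorem bot_of_not (P : Pair Z Q U e Y Q' U' e') [Finite G] {z : G} (hz : z ∈ Z) (hz1 : z ≠ 1)
    {r c : Fin 3 → G} (H : Frame.Full Y U' z r c) {i : Fin 3} (hi : z * c i ≠ c i * z) :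
    Q ⊓ Q' = ⊥ := by
  obtain ⟨hC, h27, hsurj, hle⟩ := H.cards P.F'
  have hnot : ¬ (CZ Y Q' P.F'.QleC z ≤ Subgroup.centralizer {z}) := by
    intro h
    apply hi
    have h1 : c i ∈ CZ Y Q' P.F'.QleC z := ⟨P.F'.UleQ i (H.H i).cU, (H.H i).yc⟩
    exact Subgroup.mem_centralizer_iff.1 (h h1) z rfl
  have hsurj' := hsurj (hle hnot)
  rw [eq_bot_iff]
  intro d hd
  obtain ⟨hdQ, hdQ'⟩ := Subgroup.mem_inf.1 hd
  rw [Subgroup.mem_bot]
  have h2 : d ∈ Q' ⊓ Subgroup.centralizer {z} := by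
    refine Subgroup.mem_inf.2 ⟨hdQ', ?_⟩
    rw [cent_eq P.F hz hz1]
    exact P.F.QleC hdQ
  obtain ⟨x, _, hx2⟩ := hsurj' d (Frame.Full.A_le P.F' z h2)
  exact P.symm.W1' hz hz1 hdQ' hdQ hx2

/-- if a full element `z ∈ Z` centralizes all of its fixed space, `A` fixes the blocks. -/
theorem sg_of_all (P : Pair Z Q U e Y Q' U' e') {z : G} (hz : z ∈ Z) (hz1 : z ≠ 1)
    {r c : Fin 3 → G} (H : Frame.Full Y U' z r c) (hall : ∀ i, z * c i = c i * z) {a : G}
    (ha : a ∈ Q ⊓ Subgroup.centralizer (Y : Set G)) : P.F'.sg a = 1 := by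
  obtain ⟨q, hqQ, hq⟩ := H.exists_conj P.F' (fun _ => True) (fun i _ => hall i)
  have P' : Pair Z Q U e Y Q' U' (fun i => q * e' i * q⁻¹) := (P.symm.conjE hqQ).symm
  ext1 i
  have hte : q * e' i * q⁻¹ ∈ Subgroup.centralizer (Z : Set G) := by
    rw [← cent_eq P.F hz hz1, Subgroup.mem_centralizer_iff]
    intro z' hz'
    rw [Set.mem_singleton_iff.1 hz']
    exact hq i trivial
  have h1 := (P'.X (i := i) hte ha).1
  have haY := (Subgroup.mem_inf.1 ha).2
  obtain ⟨x, hx, hxZ⟩ := P.F'.exists_notZ i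
  apply P.F'.sg_eq haY hx hxZ
  have h2 := P'.F'.sg_spec haY i hx
  rw [h1] at h2
  exact h2

theorem mem_CZ_of_comm (F : Frame Z Q U e) {a b : G} (ha : a ∈ Q) (hab : a * b = b * a) :
    a ∈ CZ Z Q F.QleC b := by
  refine ⟨ha, ?_⟩
  have : b * a * b⁻¹ * a⁻¹ = 1 := by rw [← hab]; group
  rw [this]; exact one_mem _

theorem A_comm (P : Pair Z Q U e Y Q' U' e') [Finite G] :
    ∀ a ∈ Q ⊓ Subgroup.centralizer (Y : Set G),
      ∀ b ∈ Q ⊓ Subgroup.centralizer (Y : Set G), a * b = b * a := by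
  by_contra hcon
  push Not at hcon
  obtain ⟨a, ha, b, hb, hab⟩ := hcon
  obtain ⟨haQ, haY⟩ := Subgroup.mem_inf.1 ha
  obtain ⟨hbQ, hbY⟩ := Subgroup.mem_inf.1 hb
  have hw0Z := P.F.comZ a haQ b hbQ
  set w0 := a * b * a⁻¹ * b⁻¹ with hw0
  have hw01 : w0 ≠ 1 := by
    intro h
    apply hab
    calc a * b = w0 * (b * a) := by rw [hw0]; group
      _ = b * a := by rw [h, one_mul]
  have hw0C : w0 ∈ Subgroup.centralizer (Y : Set G) := P.ZC hw0Z
  have hw03 : w0 ^ 3 = 1 := P.F.exp w0 (P.F.ZleQ hw0Z)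
  have hsa := P.F'.sg_cube haY (P.F.exp a haQ)
  have hsb := P.F'.sg_cube hbY (P.F.exp b hbQ)
  have hs0 : P.F'.sg w0 = 1 := by
    rw [hw0, P.F'.sg_mul (mul_mem (mul_mem haY hbY) (inv_mem haY)) (inv_mem hbY),
      P.F'.sg_mul (mul_mem haY hbY) (inv_mem haY), P.F'.sg_mul haY hbY, P.F'.sg_inv haY,
      P.F'.sg_inv hbY, perm_comm _ _ hsa hsb]
    group
  have hnQ : w0 ∉ Q' := by
    intro h
    have : w0 ∈ Z ⊓ Q' := Subgroup.mem_inf.2 ⟨hw0Z, h⟩
    rw [P.ZQ'] at this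
    exact hw01 (Subgroup.mem_bot.1 this)
  have cwa : w0 * a = a * w0 := P.F.zc hw0Z haQ
  have cwb : w0 * b = b * w0 := P.F.zc hw0Z hbQ
  have hN0 : w0 ∈ P.F'.N0 := ⟨hw0C, hs0⟩
  -- an element of `A` permuting the blocks
  obtain ⟨c0, hc0, hc0s⟩ : ∃ c0 ∈ Q ⊓ Subgroup.centralizer (Y : Set G), P.F'.sg c0 ≠ 1 := by
    by_contra hno
    push Not at hno
    have haN : a ∈ P.F'.N0 := ⟨haY, hno a ha⟩
    have hbN : b ∈ P.F'.N0 := ⟨hbY, hno b hb⟩
    apply hnQ
    apply P.F'.mem_Q hw0C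
    intro i
    by_contra hni
    obtain ⟨m, hm⟩ := (P.F'.blk i).comm3 (P.F'.N0_act hN0 i) hw03 hni (P.F'.N0_act haN i)
      (P.F.exp a haQ) cwa
    obtain ⟨n, hn⟩ := (P.F'.blk i).comm3 (P.F'.N0_act hN0 i) hw03 hni (P.F'.N0_act hbN i)
      (P.F.exp b hbQ) cwb
    have k1 : w0 ^ m.val * a ∈ P.F'.KK i := ⟨mul_mem (pow_mem hN0 _) haN, hm⟩
    have k2 : w0 ^ n.val * b ∈ P.F'.KK i := ⟨mul_mem (pow_mem hN0 _) hbN, hn⟩
    have k3 := mul_mem (mul_mem (mul_mem k1 k2) (inv_mem k1)) (inv_mem k2)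
    have c1 : Commute (w0 ^ m.val) a := (show Commute w0 a from cwa).pow_left _
    have c2 : Commute (w0 ^ m.val) b := (show Commute w0 b from cwb).pow_left _
    have c3 : Commute (w0 ^ n.val) a := (show Commute w0 a from cwa).pow_left _
    have c4 : Commute (w0 ^ n.val) b := (show Commute w0 b from cwb).pow_left _
    have c5 : Commute (w0 ^ m.val) (w0 ^ n.val) := (Commute.refl w0).pow_pow _ _
    have k4 : w0 ^ m.val * a * (w0 ^ n.val * b) * (w0 ^ m.val * a)⁻¹ * (w0 ^ n.val * b)⁻¹ = w0 := by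
      have d1 : Commute (w0 ^ m.val) (w0 ^ n.val * b) := c5.mul_right c2
      have d2 : Commute (w0 ^ n.val) (b * a⁻¹) := c4.mul_right c3.inv_right
      calc w0 ^ m.val * a * (w0 ^ n.val * b) * (w0 ^ m.val * a)⁻¹ * (w0 ^ n.val * b)⁻¹
          = w0 ^ m.val * a * ((w0 ^ n.val * b) * a⁻¹ * (w0 ^ m.val)⁻¹) * (w0 ^ n.val * b)⁻¹ := by
            group
        _ = a * w0 ^ m.val * ((w0 ^ n.val * b) * a⁻¹ * (w0 ^ m.val)⁻¹) * (w0 ^ n.val * b)⁻¹ := by
            rw [c1.eq]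
        _ = a * (w0 ^ m.val * (w0 ^ n.val * b)) * a⁻¹ * (w0 ^ m.val)⁻¹ * (w0 ^ n.val * b)⁻¹ := by
            group
        _ = a * ((w0 ^ n.val * b) * w0 ^ m.val) * a⁻¹ * (w0 ^ m.val)⁻¹ * (w0 ^ n.val * b)⁻¹ := by
            rw [d1.eq]
        _ = a * (w0 ^ n.val * b) * (w0 ^ m.val * a⁻¹) * (w0 ^ m.val)⁻¹ * (w0 ^ n.val * b)⁻¹ := by
            group
        _ = a * (w0 ^ n.val * b) * (a⁻¹ * w0 ^ m.val) * (w0 ^ m.val)⁻¹ * (w0 ^ n.val * b)⁻¹ := by
            rw [c1.inv_right.eq]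
        _ = a * (w0 ^ n.val * (b * a⁻¹)) * (w0 ^ n.val * b)⁻¹ := by group
        _ = a * ((b * a⁻¹) * w0 ^ n.val) * (w0 ^ n.val * b)⁻¹ := by rw [d2.eq]
        _ = a * b * a⁻¹ * (w0 ^ n.val * b⁻¹ * (w0 ^ n.val)⁻¹) := by group
        _ = a * b * a⁻¹ * (b⁻¹ * w0 ^ n.val * (w0 ^ n.val)⁻¹) := by rw [c4.inv_right.eq]
        _ = w0 := by rw [hw0]; group
    rw [k4] at k3
    exact hni k3.2
  obtain ⟨hc0Q, hc0Y⟩ := Subgroup.mem_inf.1 hc0
  have hfull : ∀ i, ¬ Triv Y (U' i) w0 := by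
    intro i hi
    apply hnQ
    exact P.F'.mem_Q hw0C (Frame.Ab.triv_all P.F' hc0Y
      (P.F'.sg_cube hc0Y (P.F.exp c0 hc0Q)) hc0s hN0 (P.F.zc hw0Z hc0Q).symm hi)
  obtain ⟨r', c', H'⟩ := P.F'.exists_full hw0C hw03 hs0 hfull
  by_cases hall : ∀ i, w0 * c' i = c' i * w0
  · exact hc0s (P.sg_of_all hw0Z hw01 H' hall hc0)
  · push Not at hall
    obtain ⟨i, hi⟩ := hall
    have hD := P.bot_of_not hw0Z hw01 H' hi
    have hceq := cent_eq P.F hw0Z hw01
    have hA' : ∀ a ∈ Q' ⊓ Subgroup.centralizer (Z : Set G),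
        ∀ b ∈ Q' ⊓ Subgroup.centralizer (Z : Set G), a * b = b * a := by
      rw [← hceq]
      intro a ha b hb
      exact H'.comm P.F' (Frame.Full.A_le P.F' w0 ha) (Frame.Full.A_le P.F' w0 hb)
    have hAb := P.symm.ab (by rw [inf_comm]; exact hD) hA'
    have h27 : 27 ≤ Nat.card (Q' ⊓ Subgroup.centralizer (Z : Set G) : Subgroup G) := by
      rw [← hceq]; exact (H'.cards P.F').2.1
    obtain ⟨a', ha', haN', hn⟩ := Frame.Ab.exists_full' P.F hAb h27
    obtain ⟨ha'Q, ha'Z⟩ := Subgroup.mem_inf.1 ha'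
    obtain ⟨r, c, H⟩ := P.F.exists_full ha'Z (P.F'.exp a' ha'Q) haN'.2 hn
    apply hab
    exact H.comm P.F (mem_CZ_of_comm P.F haQ (P.comm_of_bot hD ha ha'))
      (mem_CZ_of_comm P.F hbQ (P.comm_of_bot hD hb ha'))

end Pair

end Cfsg.Agent.H341.Weak
end

-- part: H341/WeakThree
section
/-!
# `Y` acts nontrivially on each block
-/

set_option autoImplicit false

namespace Cfsg.Agent.H341.Weak

theorem span2 : ∀ p q : ZMod 3 × ZMod 3, p ≠ 0 →
    (∃ n : Fin 3, q = (n.val * p.1, n.val * p.2)) ∨ ∀ x : ZMod 3 × ZMod 3, ∃ m n : Fin 3,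
      x = (m.val * p.1 + n.val * q.1, m.val * p.2 + n.val * q.2) := by
  decide +kernel

variable {G : Type*} [Group G]

namespace Frame

variable {Z Q : Subgroup G} {U : Fin 3 → Subgroup G} {e : Fin 3 → G}

/-- centralizers in a block -/
theorem cenx (F : Frame Z Q U e) {i : Fin 3} {x v : G} (hx : x ∈ U i) (hxZ : x ∉ Z)
    (hv : v ∈ U i) (hxv : v * x = x * v) : ∃ n : Fin 3, ∃ w ∈ Z, v = x ^ n.val * w := by
  obtain ⟨f, C⟩ := (F.blk i).vec
  have hfx : f x ≠ 0 := fun h => hxZ ((C.zero x hx).1 h)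
  rcases span2 (f x) (f v) hfx with ⟨n, hn⟩ | h
  · refine ⟨n, (x ^ n.val)⁻¹ * v, ?_, by group⟩
    apply C.eq_of' (pow_mem hx _) hv
    rw [C.pow hx, hn]
  · exfalso
    apply hxZ
    apply F.cenU hx
    intro u hu
    obtain ⟨m, n, hmn⟩ := h (f u)
    have hmem : x ^ m.val * v ^ n.val ∈ U i := mul_mem (pow_mem hx _) (pow_mem hv _)
    have hw : (x ^ m.val * v ^ n.val)⁻¹ * u ∈ Z := by
      apply C.eq_of' hmem hu
      rw [C.add _ (pow_mem hx _) _ (pow_mem hv _), C.pow hx, C.pow hv, hmn]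
      rfl
    have hu2 : u = x ^ m.val * v ^ n.val * ((x ^ m.val * v ^ n.val)⁻¹ * u) := by group
    have c1 : Commute x v := hxv.symm
    have c2 : Commute x ((x ^ m.val * v ^ n.val)⁻¹ * u) := (F.zc hw (F.UleQ i hx)).symm
    have c3 : Commute x (x ^ m.val * v ^ n.val * ((x ^ m.val * v ^ n.val)⁻¹ * u)) :=
      (((Commute.refl x).pow_right _).mul_right (c1.pow_right _)).mul_right c2
    rw [hu2]; exact c3

/-- the data of an element trivial on a block but not centralizing it -/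
structure Half (F : Frame Z Q U e) (i : Fin 3) (y x : G) : Prop where
  xU : x ∈ U i
  xZ : x ∉ Z
  comm : y * x = x * y
  eye : e i * y * (e i)⁻¹ = y * x
  exe : e i * x * (e i)⁻¹ = x⁻¹

theorem exists_half (F : Frame Z Q U e) {i : Fin 3} {y : G}
    (hy : y ∈ Subgroup.centralizer (Z : Set G)) (hs : F.sg y i = i) (ht : Triv Z (U i) y)
    (hnc : ∃ u ∈ U i, y * u ≠ u * y) : ∃ x, Half F i y x := by
  obtain ⟨hxU, hxinv⟩ := F.xi_mem hy hs
  set x := y⁻¹ * e i * y * (e i)⁻¹ with hx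
  have heye : e i * y * (e i)⁻¹ = y * x := by rw [hx]; group
  have hx3 : x ^ 3 = 1 := F.exp x (F.UleQ i hxU)
  have hcomm : y * x = x * y := by
    have hw := ht x hxU
    set w := y * x * y⁻¹ * x⁻¹ with hwd
    have h1 : e i * w * (e i)⁻¹ = w := cz (F.eC i) hw
    have h2 : e i * w * (e i)⁻¹ = w⁻¹ := by
      have hyx : y * x * y⁻¹ = w * x := by rw [hwd]; group
      calc e i * w * (e i)⁻¹ = (e i * y * (e i)⁻¹) * (e i * x * (e i)⁻¹) * (e i * y * (e i)⁻¹)⁻¹ *
            (e i * x * (e i)⁻¹)⁻¹ := by rw [hwd]; group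
        _ = (y * x) * x⁻¹ * (y * x)⁻¹ * x⁻¹⁻¹ := by rw [heye, hxinv]
        _ = (y * x * y⁻¹)⁻¹ * x := by group
        _ = x⁻¹ * w⁻¹ * x := by rw [hyx]; group
        _ = w⁻¹ := by
            rw [mul_assoc, F.zc (inv_mem hw) (F.UleQ i hxU)]; group
    have h3 : w * w = 1 := by
      have : w = w⁻¹ := by rw [← h2, h1]
      calc w * w = w * w⁻¹ := by rw [← this]
        _ = 1 := by group
    have h4 : w = 1 := sq_one_of (F.exp w (F.ZleQ hw)) h3
    calc y * x = w * (x * y) := by rw [hwd]; group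
      _ = x * y := by rw [h4, one_mul]
  refine ⟨x, hxU, ?_, hcomm, heye, hxinv⟩
  intro hxZ
  -- `x = 1`, so `y` commutes with `e i`
  have h1 : e i * x * (e i)⁻¹ = x := cz (F.eC i) hxZ
  have h2 : x * x = 1 := by
    have : x = x⁻¹ := by rw [← hxinv, h1]
    calc x * x = x * x⁻¹ := by rw [← this]
      _ = 1 := by group
  have hx1 : x = 1 := sq_one_of hx3 h2
  rw [hx1, mul_one] at heye
  obtain ⟨u, hu, hyu⟩ := hnc
  apply hyu
  have hw := ht u hu
  set w := y * u * y⁻¹ * u⁻¹ with hwd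
  have hyuy : y * u * y⁻¹ = w * u := by rw [hwd]; group
  have hw' := F.einv i u hu
  set w' := e i * u * (e i)⁻¹ * u with hwd'
  have heu : e i * u * (e i)⁻¹ = w' * u⁻¹ := by rw [hwd']; group
  have h5 : y * (e i * u * (e i)⁻¹) * y⁻¹ = e i * (y * u * y⁻¹) * (e i)⁻¹ := by
    have h6 : y * e i = e i * y := by
      calc y * e i = (e i * y * (e i)⁻¹) * e i := by rw [heye]
        _ = e i * y := by group
    calc y * (e i * u * (e i)⁻¹) * y⁻¹ = (y * e i) * u * (y * e i)⁻¹ := by group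
      _ = (e i * y) * u * (e i * y)⁻¹ := by rw [h6]
      _ = _ := by group
  rw [heu, hyuy] at h5
  have h6 : y * (w' * u⁻¹) * y⁻¹ = w' * (u⁻¹ * w⁻¹) := by
    calc y * (w' * u⁻¹) * y⁻¹ = (y * w' * y⁻¹) * (y * u * y⁻¹)⁻¹ := by group
      _ = w' * (w * u)⁻¹ := by rw [cz hy hw', hyuy]
      _ = _ := by group
  have h7 : e i * (w * u) * (e i)⁻¹ = w * (w' * u⁻¹) := by
    calc e i * (w * u) * (e i)⁻¹ = (e i * w * (e i)⁻¹) * (e i * u * (e i)⁻¹) := by group
      _ = _ := by rw [cz (F.eC i) hw, heu]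
  rw [h6, h7] at h5
  have hww' : w * w' = w' * w := F.zc hw (F.ZleQ hw')
  have huw : u⁻¹ * w⁻¹ = w⁻¹ * u⁻¹ := (F.zc (inv_mem hw) (inv_mem (F.UleQ i hu))).symm
  have h8 : w * w = 1 := by
    have h9 : w' * (w⁻¹ * u⁻¹) = w' * (w * u⁻¹) := by
      rw [← huw, h5, ← mul_assoc, hww', mul_assoc]
    have h10 : w⁻¹ = w := by simpa only [_root_.mul_right_inj, _root_.mul_left_inj] using h9
    calc w * w = w⁻¹ * w := by rw [h10]
      _ = 1 := by group
  have h11 : w = 1 := sq_one_of (F.exp w (F.ZleQ hw)) h8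
  calc y * u = w * (u * y) := by rw [hwd]; group
    _ = u * y := by rw [h11, one_mul]

end Frame

namespace Pair

variable {Z Q : Subgroup G} {U : Fin 3 → Subgroup G} {e : Fin 3 → G}
  {Y Q' : Subgroup G} {U' : Fin 3 → Subgroup G} {e' : Fin 3 → G}

/-- commuting with the abelian group `A`: some element of each block is moved by `y`. -/
theorem exists_move (P : Pair Z Q U e Y Q' U' e') [Finite G] {y : G} (hy : y ∈ Y) (hy1 : y ≠ 1)
    (i : Fin 3) : ∃ u ∈ U i, y * u ≠ u * y := by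
  by_contra hcon
  push Not at hcon
  obtain ⟨a, ha, b, hb, hab⟩ := P.F.nab i
  apply hab
  have hmem : ∀ u ∈ U i, u ∈ Q ⊓ Subgroup.centralizer (Y : Set G) := by
    intro u hu
    refine Subgroup.mem_inf.2 ⟨P.F.UleQ i hu, ?_⟩
    rw [← cent_eq P.F' hy hy1, Subgroup.mem_centralizer_iff]
    intro y' hy'
    rw [Set.mem_singleton_iff.1 hy']
    exact hcon u hu
  exact P.A_comm a (hmem a ha) b (hmem b hb)

theorem memA (P : Pair Z Q U e Y Q' U' e') {y : G} (hy : y ∈ Y) (hy1 : y ≠ 1) {x : G}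
    (hx : x ∈ Q) (h : y * x = x * y) : x ∈ Q ⊓ Subgroup.centralizer (Y : Set G) := by
  refine Subgroup.mem_inf.2 ⟨hx, ?_⟩
  rw [← cent_eq P.F' hy hy1, Subgroup.mem_centralizer_iff]
  intro y' hy'
  rw [Set.mem_singleton_iff.1 hy']
  exact h

theorem not_half_two (P : Pair Z Q U e Y Q' U' e') [Finite G] {y : G} (hy : y ∈ Y) (hy1 : y ≠ 1)
    {i j : Fin 3} (hij : i ≠ j) {x : G} (hx : P.F.Half i y x) (hti : Triv Z (U i) y)
    (hsj : P.F.sg y j = j) : ¬ Triv Z (U j) y := by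
  intro htj
  have hyZ := P.symm.ZC hy
  obtain ⟨x', hx'⟩ := P.F.exists_half hyZ hsj htj (P.exists_move hy hy1 j)
  obtain ⟨v, hv, hyv⟩ := P.exists_move hy hy1 i
  obtain ⟨v', hv', hyv'⟩ := P.exists_move hy hy1 j
  have hwZ := hti v hv
  have hwZ' := htj v' hv'
  set w := y * v * y⁻¹ * v⁻¹ with hw
  set w' := y * v' * y⁻¹ * v'⁻¹ with hw'
  have e1 : y * v * y⁻¹ = w * v := by rw [hw]; group
  have e1' : y * v' * y⁻¹ = w' * v' := by rw [hw']; group
  have hw'1 : w' ≠ 1 := by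
    intro h
    apply hyv'
    calc y * v' = w' * (v' * y) := by rw [hw']; group
      _ = _ := by rw [h, one_mul]
  obtain ⟨m, hm⟩ := (P.F.blk 0).powZ hwZ' hw'1 (inv_mem hwZ)
  have cwv : Commute w' v' := P.F.zc hwZ' (P.F.UleQ j hv')
  have cvw : Commute v w := (P.F.zc hwZ (P.F.UleQ i hv)).symm
  have hA1 : y * (v * v' ^ m.val) * y⁻¹ = v * v' ^ m.val := by
    calc y * (v * v' ^ m.val) * y⁻¹ = (y * v * y⁻¹) * (y * v' ^ m.val * y⁻¹) := by group
      _ = (w * v) * (w' * v') ^ m.val := by rw [← conj_pow, e1, e1']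
      _ = (v * w) * (w' ^ m.val * v' ^ m.val) := by rw [cwv.mul_pow, cvw.eq]
      _ = v * w * w⁻¹ * v' ^ m.val := by rw [← hm]; group
      _ = _ := by group
  have hA2 : y * (v * v' ^ m.val) = (v * v' ^ m.val) * y := by
    calc y * (v * v' ^ m.val) = (y * (v * v' ^ m.val) * y⁻¹) * y := by group
      _ = _ := by rw [hA1]
  have hmemA := P.memA hy hy1 (mul_mem (P.F.UleQ i hv) (pow_mem (P.F.UleQ j hv') _)) hA2
  have hxA := P.memA hy hy1 (P.F.UleQ i hx.xU) hx.comm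
  have h3 : Commute (v * v' ^ m.val) x := P.A_comm _ hmemA _ hxA
  have h4' : Commute v' x := (P.F.comm i j hij x hx.xU v' hv').symm
  have h4 : Commute (v' ^ m.val) x := h4'.pow_left _
  have h5 : Commute v x := by
    have : v = (v * v' ^ m.val) * (v' ^ m.val)⁻¹ := by group
    rw [this]
    exact h3.mul_left h4.inv_left
  obtain ⟨n, w2, hw2, hvn⟩ := P.F.cenx hx.xU hx.xZ hv h5
  apply hyv
  rw [hvn]
  have c1 : Commute y x := hx.comm
  have c2 : Commute y w2 := (Subgroup.mem_centralizer_iff.1 hyZ w2 hw2).symm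
  exact (c1.pow_right _).mul_right c2

/-- the key step: `y` is nontrivial on each block -/
theorem not_triv (P : Pair Z Q U e Y Q' U' e') [Finite G] {y : G} (hy : y ∈ Y) (hy1 : y ≠ 1)
    (hs : P.F.sg y = 1) (i : Fin 3) : ¬ Triv Z (U i) y := by
  classical
  intro hti
  have hyZ := P.symm.ZC hy
  have hy3 : y ^ 3 = 1 := P.F'.exp y (P.F'.ZleQ hy)
  have hsi : ∀ j, P.F.sg y j = j := fun j => by rw [hs]; rfl
  obtain ⟨x, hx⟩ := P.F.exists_half hyZ (hsi i) hti (P.exists_move hy hy1 i)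
  obtain ⟨j, k, hij, hik, hjk⟩ := exists_jk i
  have hntj := P.not_half_two hy hy1 hij hx hti (hsi j)
  have hntk := P.not_half_two hy hy1 hik hx hti (hsi k)
  have hAct : ∀ l, Act Z (U l) y := fun l => P.F.act_of_sg hyZ (hsi l)
  obtain ⟨rj, cj, Hj⟩ := (P.F.blk j).unip (hAct j) hy3 hntj
  obtain ⟨rk, ck, Hk⟩ := (P.F.blk k).unip (hAct k) hy3 hntk
  have hceq := cent_eq P.F' hy hy1
  have hxA := P.memA hy hy1 (P.F.UleQ i hx.xU) hx.comm
  -- the subgroup `W`
  set W : Subgroup G := CZ Z Q P.F.QleC y ⊓ Subgroup.centralizer {e i} with hWdef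
  have hWe : ∀ g ∈ W, e i * g * (e i)⁻¹ = g := by
    intro g hg
    have := Subgroup.mem_centralizer_iff.1 (Subgroup.mem_inf.1 hg).2 (e i) rfl
    rw [this]; group
  have hmemW : ∀ g, g ∈ Q → y * g * y⁻¹ * g⁻¹ ∈ Z → e i * g * (e i)⁻¹ = g → g ∈ W := by
    intro g h1 h2 h3
    refine Subgroup.mem_inf.2 ⟨⟨h1, h2⟩, ?_⟩
    rw [Subgroup.mem_centralizer_iff]
    intro g' hg'
    rw [Set.mem_singleton_iff.1 hg']
    calc e i * g = (e i * g * (e i)⁻¹) * e i := by group
      _ = _ := by rw [h3]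
  -- elements of `W`
  have hWform : ∀ g ∈ W, ∃ m n : Fin 3, ∃ w ∈ Z, g = cj ^ m.val * ck ^ n.val * w := by
    intro g hg
    have hgQ := (Subgroup.mem_inf.1 hg).1.1
    have hgf := (Subgroup.mem_inf.1 hg).1.2
    have hge := hWe g hg
    obtain ⟨u, hu, v, hv, t, ht, rfl⟩ := P.F.mul3 hij hik hjk g hgQ
    obtain ⟨f1, f2, f3⟩ := P.F.comp hij hik hjk hAct hu hv ht hgf
    have h1 := P.F.eU i j hij.symm v hv
    have h2 := P.F.eU i k hik.symm t ht
    have h3 : e i * u * (e i)⁻¹ = u := by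
      have h4 : e i * (u * v * t) * (e i)⁻¹ = (e i * u * (e i)⁻¹) * v * t := by
        calc e i * (u * v * t) * (e i)⁻¹
            = (e i * u * (e i)⁻¹) * (e i * v * (e i)⁻¹) * (e i * t * (e i)⁻¹) := by group
          _ = _ := by rw [h1, h2]
      rw [h4] at hge
      simpa only [_root_.mul_left_inj] using hge
    have h5 := P.F.einv i u hu
    rw [h3] at h5
    have huZ : u ∈ Z := by
      have h6 := P.F.exp u (P.F.UleQ i hu)
      have h7 : u = (u * u) * (u * u) := by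
        calc u = u ^ 3 * u := by rw [h6, one_mul]
          _ = (u * u) * (u * u) := by simp only [pow_succ, pow_zero, one_mul, mul_assoc]
      rw [h7]; exact mul_mem h5 h5
    obtain ⟨m, w1, hw1, rfl⟩ := Hj.fix v hv f2
    obtain ⟨n, w2, hw2, rfl⟩ := Hk.fix t ht f3
    refine ⟨m, n, u * w1 * w2, mul_mem (mul_mem huZ hw1) hw2, ?_⟩
    have c1 : u * cj ^ m.val = cj ^ m.val * u :=
      P.F.zc huZ (pow_mem (P.F.UleQ j Hj.cU) _)
    have c2 : (u * w1) * ck ^ n.val = ck ^ n.val * (u * w1) :=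
      P.F.zc (mul_mem huZ hw1) (pow_mem (P.F.UleQ k Hk.cU) _)
    calc u * (cj ^ m.val * w1) * (ck ^ n.val * w2)
        = (u * cj ^ m.val) * w1 * ck ^ n.val * w2 := by group
      _ = cj ^ m.val * ((u * w1) * ck ^ n.val) * w2 := by rw [c1]; group
      _ = _ := by rw [c2]; group
  have hWcard : Nat.card W ≤ 27 := by
    have hsurj : Function.Surjective (fun p : (Fin 3 × Fin 3) × Z =>
        (if h : cj ^ p.1.1.val * ck ^ p.1.2.val * (p.2 : G) ∈ W then
          (⟨_, h⟩ : W) else 1)) := by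
      rintro ⟨g, hg⟩
      obtain ⟨m, n, w, hw, rfl⟩ := hWform g hg
      exact ⟨((m, n), ⟨w, hw⟩), by simp only; rw [dif_pos hg]⟩
    have h1 := Nat.card_le_card_of_surjective _ hsurj
    have h2 : Nat.card ((Fin 3 × Fin 3) × Z) = 27 := by
      rw [Nat.card_prod, Nat.card_prod, P.F.cardZ]; simp
    rw [h2] at h1; exact h1
  -- the orbit of `y` lies in `y W`
  have hblk : ∀ l, ∀ u ∈ U l, y⁻¹ * u * y * u⁻¹ ∈ U l ∧ y⁻¹ * u * y * u⁻¹ ∈ W := by
    intro l u hu
    have hyu : y⁻¹ * u * y ∈ U l := by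
      have h1 := (hAct l).nor _ ((hAct l).nor u hu)
      have h2 := Blk.conj_cube hy3 u
      have h3 : y⁻¹ * u * y = y * (y * u * y⁻¹) * y⁻¹ := by
        calc y⁻¹ * u * y = y⁻¹ * (y * (y * (y * u * y⁻¹) * y⁻¹) * y⁻¹) * y := by rw [h2]
          _ = _ := by group
      rw [h3]; exact h1
    have h4 : y⁻¹ * u * y * u⁻¹ ∈ U l := mul_mem hyu (inv_mem hu)
    refine ⟨h4, ?_⟩
    by_cases hl : l = i
    · subst hl
      have h5 : y⁻¹ * u * y * u⁻¹ ∈ Z := by
        have h6 := hti _ hyu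
        have h7 : y * (y⁻¹ * u * y) * y⁻¹ * (y⁻¹ * u * y)⁻¹ = (y⁻¹ * u * y * u⁻¹)⁻¹ := by group
        rw [h7] at h6
        exact inv_mem_iff.1 h6
      apply hmemW _ (P.F.UleQ _ h4)
      · rw [Frame.cz hyZ h5, mul_inv_cancel]; exact one_mem _
      · exact Frame.cz (P.F.eC _) h5
    · apply hmemW _ (P.F.UleQ _ h4)
      · rcases cov3 i j k hij hik hjk l with rfl | rfl | rfl
        · exact absurd rfl hl
        · exact Hj.two u hu
        · exact Hk.two u hu
      · exact P.F.eU i l hl _ h4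
  have horb : ∀ g ∈ Q, y⁻¹ * g * y * g⁻¹ ∈ W := by
    intro g hg
    obtain ⟨u, hu, v, hv, w, hw, rfl⟩ := P.F.mul3 hij hik hjk g hg
    obtain ⟨hu1, hu2⟩ := hblk i u hu
    obtain ⟨hv1, hv2⟩ := hblk j v hv
    obtain ⟨hw1, hw2⟩ := hblk k w hw
    have h1 : y⁻¹ * (u * v * w) * y * (u * v * w)⁻¹ =
        (y⁻¹ * u * y * u⁻¹) * (y⁻¹ * v * y * v⁻¹) * (y⁻¹ * w * y * w⁻¹) := by
      have c1 : Commute (y⁻¹ * v * y) u⁻¹ := (P.F.comm i j hij _ (inv_mem hu) _ (by
        have : y⁻¹ * v * y = (y⁻¹ * v * y * v⁻¹) * v := by group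
        rw [this]; exact mul_mem hv1 hv)).symm
      have c2 : Commute (y⁻¹ * w * y * w⁻¹) u⁻¹ :=
        (P.F.comm i k hik _ (inv_mem hu) _ hw1).symm
      have c3 : Commute (y⁻¹ * w * y * w⁻¹) v⁻¹ :=
        (P.F.comm j k hjk _ (inv_mem hv) _ hw1).symm
      calc y⁻¹ * (u * v * w) * y * (u * v * w)⁻¹
          = (y⁻¹ * u * y) * (y⁻¹ * v * y) * ((y⁻¹ * w * y * w⁻¹) * v⁻¹) * u⁻¹ := by group
        _ = (y⁻¹ * u * y) * (y⁻¹ * v * y) * (v⁻¹ * (y⁻¹ * w * y * w⁻¹)) * u⁻¹ := by rw [c3.eq]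
        _ = (y⁻¹ * u * y) * (y⁻¹ * v * y) * v⁻¹ * ((y⁻¹ * w * y * w⁻¹) * u⁻¹) := by group
        _ = (y⁻¹ * u * y) * (y⁻¹ * v * y) * v⁻¹ * (u⁻¹ * (y⁻¹ * w * y * w⁻¹)) := by rw [c2.eq]
        _ = (y⁻¹ * u * y) * (y⁻¹ * v * y) * (v⁻¹ * u⁻¹) * (y⁻¹ * w * y * w⁻¹) := by group
        _ = (y⁻¹ * u * y) * (y⁻¹ * v * y) * (u⁻¹ * v⁻¹) * (y⁻¹ * w * y * w⁻¹) := by
            rw [(P.F.comm i j hij _ (inv_mem hu) _ (inv_mem hv))]
        _ = (y⁻¹ * u * y) * ((y⁻¹ * v * y) * u⁻¹) * v⁻¹ * (y⁻¹ * w * y * w⁻¹) := by group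
        _ = (y⁻¹ * u * y) * (u⁻¹ * (y⁻¹ * v * y)) * v⁻¹ * (y⁻¹ * w * y * w⁻¹) := by rw [c1.eq]
        _ = _ := by group
    rw [h1]
    exact mul_mem (mul_mem hu2 hv2) hw2
  obtain ⟨ho1, ho2⟩ := orb Q y (W : Set G) horb
  rw [hceq, P.F.cardQ] at ho1 ho2
  have hWc : Nat.card ((W : Subgroup G) : Set G) = Nat.card W := rfl
  rw [hWc] at ho1 ho2
  -- the form of the elements of `A`
  have hAform : ∀ a ∈ Q ⊓ Subgroup.centralizer (Y : Set G), ∃ l : Fin 3, ∃ w0 ∈ W,
      a = x ^ l.val * w0 := by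
    intro a ha
    obtain ⟨haQ, haY⟩ := Subgroup.mem_inf.1 ha
    have haf : y * a * y⁻¹ * a⁻¹ ∈ Z := by
      have := Subgroup.mem_centralizer_iff.1 haY y hy
      rw [this]; simp
    have hax : Commute a x := P.A_comm _ ha _ hxA
    obtain ⟨u, hu, v, hv, t, ht, rfl⟩ := P.F.mul3 hij hik hjk a haQ
    obtain ⟨f1, f2, f3⟩ := P.F.comp hij hik hjk hAct hu hv ht haf
    have c1 : Commute v x := (P.F.comm i j hij x hx.xU v hv).symm
    have c2 : Commute t x := (P.F.comm i k hik x hx.xU t ht).symm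
    have c3 : Commute u x := by
      have : u = (u * v * t) * t⁻¹ * v⁻¹ := by group
      rw [this]
      exact (hax.mul_left c2.inv_left).mul_left c1.inv_left
    obtain ⟨l, w, hw, rfl⟩ := P.F.cenx hx.xU hx.xZ hu c3
    refine ⟨l, w * v * t, ?_, by group⟩
    have hwW : w ∈ W := hmemW w (P.F.ZleQ hw) (by
      rw [Frame.cz hyZ hw, mul_inv_cancel]; exact one_mem _) (Frame.cz (P.F.eC _) hw)
    exact mul_mem (mul_mem hwW (hmemW v (P.F.UleQ j hv) f2 (P.F.eU i j hij.symm v hv)))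
      (hmemW t (P.F.UleQ k ht) f3 (P.F.eU i k hik.symm t ht))
  have hAcard : Nat.card (Q ⊓ Subgroup.centralizer (Y : Set G) : Subgroup G) ≤ 81 := by
    have hsurj : Function.Surjective (fun p : Fin 3 × W =>
        (if h : x ^ p.1.val * (p.2 : G) ∈ Q ⊓ Subgroup.centralizer (Y : Set G) then
          (⟨_, h⟩ : (Q ⊓ Subgroup.centralizer (Y : Set G) : Subgroup G)) else 1)) := by
      rintro ⟨g, hg⟩
      obtain ⟨l, w, hw, rfl⟩ := hAform g hg
      exact ⟨(l, ⟨w, hw⟩), by simp only; rw [dif_pos hg]⟩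
    have h1 := Nat.card_le_card_of_surjective _ hsurj
    rw [Nat.card_prod] at h1
    simp only [Nat.card_eq_fintype_card (α := Fin 3), Fintype.card_fin] at h1
    omega
  have hsurjW := ho2 (by
    calc Nat.card W * Nat.card (Q ⊓ Subgroup.centralizer (Y : Set G) : Subgroup G)
        ≤ 27 * 81 := Nat.mul_le_mul hWcard hAcard
      _ = 3 ^ 7 := by norm_num)
  have hAge : 81 ≤ Nat.card (Q ⊓ Subgroup.centralizer (Y : Set G) : Subgroup G) := by
    by_contra hlt
    have : Nat.card W * Nat.card (Q ⊓ Subgroup.centralizer (Y : Set G) : Subgroup G)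
        ≤ 27 * 80 := Nat.mul_le_mul hWcard (by omega)
    omega
  -- `D ≠ ⊥`
  have hD : Q ⊓ Q' ≠ ⊥ := by
    intro hD
    have := (P.ab hD P.A_comm).card_le P.F'
    omega
  obtain ⟨⟨d, hd⟩, hd1⟩ := Subgroup.ne_bot_iff_exists_ne_one.1 hD
  have hd1' : d ≠ 1 := fun h => hd1 (Subtype.ext h)
  obtain ⟨hdQ, hdQ'⟩ := Subgroup.mem_inf.1 hd
  -- conjugates
  have key1 : ∀ w0 ∈ W, w0 ∈ Q' → w0 = 1 := by
    intro w0 hw0 hw0'
    obtain ⟨g, _, hg⟩ := hsurjW w0 hw0
    exact P.W1' hy hy1 (Subgroup.mem_inf.1 hw0).1.1 hw0' hg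
  have key2 : ∀ w0 ∈ W, x * w0 ∈ Q' → x * w0 = 1 := by
    intro w0 hw0 hw0'
    obtain ⟨g, _, hg⟩ := hsurjW w0 hw0
    have hconj : (e i * g) * y * (e i * g)⁻¹ = y * (x * w0) := by
      have h1 : g * y * g⁻¹ = y * w0 := by rw [← hg]; group
      calc (e i * g) * y * (e i * g)⁻¹ = e i * (g * y * g⁻¹) * (e i)⁻¹ := by group
        _ = (e i * y * (e i)⁻¹) * (e i * w0 * (e i)⁻¹) := by rw [h1]; group
        _ = y * x * w0 := by rw [hx.eye, hWe w0 hw0]
        _ = _ := by group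
    exact P.W1 hy hy1 (mul_mem (P.F.UleQ i hx.xU) (Subgroup.mem_inf.1 hw0).1.1) hw0' hconj
  obtain ⟨l, w0, hw0, hdl⟩ := hAform d (P.D_le hd)
  have hcx : Commute x w0 := by
    have h1 : w0 = (x ^ l.val)⁻¹ * d := by rw [hdl]; group
    rw [h1]
    have h2 : Commute x d := (P.A_comm _ hxA _ (P.D_le hd))
    exact (((Commute.refl x).pow_right _).inv_right).mul_right h2
  have hx3 : x ^ 3 = 1 := P.F.exp x (P.F.UleQ i hx.xU)
  have hl : l = 0 ∨ l = 1 ∨ l = 2 := by (revert l; simp only [_root_.Fin.forall_fin_succ, Fin.isValue, _root_.Fin.coe_ofNat_eq_mod, _root_.Nat.zero_mod, _root_.pow_zero, _root_.one_mul, _root_.zero_ne_one, Fin.reduceEq, _root_.or_self, _root_.or_false, _root_.implies_true, _root_.Fin.val_succ, _root_.Fin.succ_ne_zero, _root_.false_or, _root_.zero_add, _root_.pow_one, _root_.Fin.succ_zero_eq_one, _root_.Fin.val_eq_zero, Nat.reduceAdd, _root_.Fin.succ_one_eq_two, _root_.or_true, _root_.IsEmpty.forall_iff, _root_.and_self])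
  rcases hl with rfl | rfl | rfl
  · apply hd1'
    have : d = w0 := by rw [hdl]; simp
    rw [this]
    exact key1 w0 hw0 (this ▸ hdQ')
  · apply hd1'
    have : d = x * w0 := by rw [hdl]; simp
    rw [this]
    exact key2 w0 hw0 (this ▸ hdQ')
  · apply hd1'
    have h2 : d⁻¹ = x * w0⁻¹ := by
      have h3 : d = x ^ 2 * w0 := by rw [hdl]; rfl
      have h4 : (x ^ 2)⁻¹ = x := by
        rw [inv_eq_iff_mul_eq_one, ← pow_succ]; exact hx3
      calc d⁻¹ = w0⁻¹ * (x ^ 2)⁻¹ := by rw [h3]; group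
        _ = w0⁻¹ * x := by rw [h4]
        _ = x * w0⁻¹ := (hcx.inv_right.eq).symm
    have h5 := key2 w0⁻¹ (inv_mem hw0) (by rw [← h2]; exact inv_mem hdQ')
    rw [← h2] at h5
    exact inv_eq_one.1 h5

end Pair

end Cfsg.Agent.H341.Weak
end

-- part: H341/WeakTwo
section
/-!
# `Z` does not permute the blocks of `Q'`
-/

set_option autoImplicit false

namespace Cfsg.Agent.H341.Weak

variable {G : Type*} [Group G]

namespace Frame

variable {Z Q : Subgroup G} {U : Fin 3 → Subgroup G} {e : Fin 3 → G}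

/-- the conjugates of `e 0` under a permuting element commute -/
theorem Cyc.e_comm (F : Frame Z Q U e) {z : G} (H : F.Cyc z) :
    e 0 * (z * e 0 * z⁻¹) = (z * e 0 * z⁻¹) * e 0 := by
  obtain ⟨h1, h2, h3⟩ := H.dist F 0
  set f := z * e 0 * z⁻¹ with hf
  have hfC : f ∈ Subgroup.centralizer (Z : Set G) :=
    mul_mem (mul_mem H.cen (F.eC 0)) (inv_mem H.cen)
  have hf2 : f * f = 1 := by
    rw [hf]
    calc z * e 0 * z⁻¹ * (z * e 0 * z⁻¹) = z * (e 0 * e 0) * z⁻¹ := by group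
      _ = 1 := by rw [F.e2]; group
  -- `f` centralizes the blocks other than `s 0`
  have hfx : ∀ k, k ≠ F.sg z 0 → ∀ x ∈ U k, f * x * f⁻¹ = x := by
    intro k hk x hx
    obtain ⟨l, rfl⟩ : ∃ l, k = F.sg z l := ⟨(F.sg z)⁻¹ k, by simp⟩
    have hl : l ≠ 0 := fun h => hk (by rw [h])
    have hx' := F.conj_inv_mem H.cen hx
    have h4 := F.eU 0 l hl _ hx'
    calc f * x * f⁻¹ = z * (e 0 * (z⁻¹ * x * z) * (e 0)⁻¹) * z⁻¹ := by rw [hf]; group
      _ = x := by rw [h4]; group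
  have he0 := F.e2 0
  have hfi : f⁻¹ = f := inv_eq_of_mul_eq_one_left hf2
  have hei : (e 0)⁻¹ = e 0 := F.e_inv 0
  set w := e 0 * f * e 0 * f with hw
  have hwx : ∀ k, ∀ x ∈ U k, w * x = x * w := by
    intro k x hx
    have hwi : w * x * w⁻¹ = x := by
      have hgen : w * x * w⁻¹ = e 0 * (f * (e 0 * (f * x * f⁻¹) * (e 0)⁻¹) * f⁻¹) * (e 0)⁻¹ := by
        rw [hw]; group
      rw [hgen]
      rcases cov3 0 (F.sg z 0) (F.sg z (F.sg z 0)) h1 h2 h3 k with rfl | rfl | rfl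
      · have hx0 : e 0 * x * (e 0)⁻¹ ∈ U 0 := (F.act_e 0 0).nor x hx
        rw [hfx 0 h1 x hx, hfx 0 h1 _ hx0]
        calc e 0 * (e 0 * x * (e 0)⁻¹) * (e 0)⁻¹ = (e 0 * e 0) * x * (e 0 * e 0)⁻¹ := by group
          _ = x := by rw [he0]; group
      · have hfx' : f * x * f⁻¹ ∈ U (F.sg z 0) := by
          have hs : F.sg f = 1 := by
            rw [hf, F.sg_mul (mul_mem H.cen (F.eC 0)) (inv_mem H.cen), F.sg_mul H.cen (F.eC 0),
              F.sg_e, F.sg_inv H.cen]; group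
          have := F.sg_spec hfC _ hx
          rwa [hs] at this
        have h5 : ∀ u ∈ U (F.sg z 0), e 0 * u * (e 0)⁻¹ = u :=
          fun u hu => F.eU 0 _ h1.symm u hu
        rw [h5 _ hfx']
        have h6 : f * (f * x * f⁻¹) * f⁻¹ = x := by
          calc f * (f * x * f⁻¹) * f⁻¹ = (f * f) * x * (f * f)⁻¹ := by group
            _ = x := by rw [hf2]; group
        rw [h6, h5 x hx]
      · have h5 : ∀ u ∈ U (F.sg z (F.sg z 0)), e 0 * u * (e 0)⁻¹ = u :=
          fun u hu => F.eU 0 _ h2.symm u hu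
        rw [hfx _ h3.symm x hx, h5 x hx, hfx _ h3.symm x hx, h5 x hx]
    calc w * x = (w * x * w⁻¹) * w := by group
      _ = x * w := by rw [hwi]
  have hwQ : w ∈ Q := by
    apply F.CQ
    rw [Subgroup.mem_centralizer_iff]
    intro x hx
    exact (F.commQ (fun i u hu => hwx i u hu) x hx).symm
  have hwZ : w ∈ Z := F.cenZ w hwQ (F.commQ (fun i u hu => hwx i u hu))
  have h7 : e 0 * w * (e 0)⁻¹ = w := cz (F.eC 0) hwZ
  have h8 : e 0 * w * (e 0)⁻¹ = w⁻¹ := by
    have h9 : w⁻¹ = f * e 0 * f * e 0 := by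
      calc w⁻¹ = f⁻¹ * (e 0)⁻¹ * f⁻¹ * (e 0)⁻¹ := by rw [hw]; group
        _ = _ := by rw [hfi, hei]
    calc e 0 * w * (e 0)⁻¹ = (e 0 * e 0) * f * e 0 * f * (e 0)⁻¹ := by rw [hw]; group
      _ = f * e 0 * f * (e 0)⁻¹ := by rw [he0]; group
      _ = _ := by rw [h9, hei]
  have h9 : w * w = 1 := by
    have : w = w⁻¹ := by rw [← h8, h7]
    calc w * w = w * w⁻¹ := by rw [← this]
      _ = 1 := by group
  have h10 : w = 1 := sq_one_of (F.exp w hwQ) h9
  calc e 0 * f = w * (f⁻¹ * (e 0)⁻¹) := by rw [hw]; group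
    _ = f * e 0 := by rw [h10, hfi, hei, one_mul]

end Frame

namespace Pair

variable {Z Q : Subgroup G} {U : Fin 3 → Subgroup G} {e : Fin 3 → G}
  {Y Q' : Subgroup G} {U' : Fin 3 → Subgroup G} {e' : Fin 3 → G}

theorem card_A (P : Pair Z Q U e Y Q' U' e') [Finite G] {y : G} (hy : y ∈ Y) (hy1 : y ≠ 1) :
    27 ≤ Nat.card (Q ⊓ Subgroup.centralizer (Y : Set G) : Subgroup G) := by
  have hyZ := P.symm.ZC hy
  have hy3 : y ^ 3 = 1 := P.F'.exp y (P.F'.ZleQ hy)
  rw [← cent_eq P.F' hy hy1]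
  by_cases hs : P.F.sg y = 1
  · obtain ⟨r, c, H⟩ := P.F.exists_full hyZ hy3 hs (P.not_triv hy hy1 hs)
    exact (H.cards P.F).2.1
  · exact Frame.Cyc.card_cen P.F ⟨hyZ, hy3, hs⟩

theorem no_cyc (P : Pair Z Q U e Y Q' U' e') [Finite G] {z : G} (hz : z ∈ Z) (hz1 : z ≠ 1) :
    P.F'.sg z = 1 := by
  by_contra hs
  have hzY := P.ZC hz
  have hz3 : z ^ 3 = 1 := P.F.exp z (P.F.ZleQ hz)
  have H : P.F'.Cyc z := ⟨hzY, hz3, hs⟩
  -- a nontrivial element of `Y`
  obtain ⟨y, hy, hy1⟩ : ∃ y ∈ Y, y ≠ 1 := by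
    by_contra hcon
    push Not at hcon
    have : Y = ⊥ := by
      rw [eq_bot_iff]; intro y hy; rw [Subgroup.mem_bot]; exact hcon y hy
    have h3 := P.F'.cardZ
    rw [this] at h3
    simp at h3
  have hceqz := cent_eq P.F hz hz1
  -- `D ≠ ⊥`
  have hD : Q ⊓ Q' ≠ ⊥ := by
    intro hD
    have h1 := (P.ab hD P.A_comm).card_perm P.F' (b0 := z)
      (Subgroup.mem_inf.2 ⟨P.F.ZleQ hz, hzY⟩) hs
    have h2 := P.card_A hy hy1
    omega
  obtain ⟨⟨d, hd⟩, hd1⟩ := Subgroup.ne_bot_iff_exists_ne_one.1 hD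
  have hd1' : d ≠ 1 := fun h => hd1 (Subtype.ext h)
  obtain ⟨hdQ, hdQ'⟩ := Subgroup.mem_inf.1 hd
  have hzd : z * d * z⁻¹ = d := by
    rw [P.F.zc hz hdQ]; group
  -- the involution `t`
  set f0 := e' 0 with hf0
  set f1 := z * f0 * z⁻¹ with hf1
  set f2 := z * f1 * z⁻¹ with hf2
  have hf3 : z * f2 * z⁻¹ = f0 := by
    rw [hf2, hf1]; exact Blk.conj_cube hz3 f0
  have c01 : f0 * f1 = f1 * f0 := Frame.Cyc.e_comm P.F' H
  have c12 : f1 * f2 = f2 * f1 := by
    calc f1 * f2 = (z * f0 * z⁻¹) * (z * f1 * z⁻¹) := by rw [← hf1, ← hf2]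
      _ = z * (f0 * f1) * z⁻¹ := by group
      _ = z * (f1 * f0) * z⁻¹ := by rw [c01]
      _ = (z * f1 * z⁻¹) * (z * f0 * z⁻¹) := by group
      _ = f2 * f1 := by rw [← hf1, ← hf2]
  have c20 : f2 * f0 = f0 * f2 := by
    calc f2 * f0 = (z * f1 * z⁻¹) * (z * f2 * z⁻¹) := by rw [← hf2, hf3]
      _ = z * (f1 * f2) * z⁻¹ := by group
      _ = z * (f2 * f1) * z⁻¹ := by rw [c12]
      _ = (z * f2 * z⁻¹) * (z * f1 * z⁻¹) := by group
      _ = f0 * f2 := by rw [← hf2, hf3]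
  set t := f0 * f1 * f2 with ht
  have hfC : f0 ∈ Subgroup.centralizer (Y : Set G) ∧ f1 ∈ Subgroup.centralizer (Y : Set G) ∧
      f2 ∈ Subgroup.centralizer (Y : Set G) := by
    have h0 : f0 ∈ Subgroup.centralizer (Y : Set G) := P.F'.eC 0
    have h1 : f1 ∈ Subgroup.centralizer (Y : Set G) := mul_mem (mul_mem hzY h0) (inv_mem hzY)
    exact ⟨h0, h1, mul_mem (mul_mem hzY h1) (inv_mem hzY)⟩
  have htY : t ∈ Subgroup.centralizer (Y : Set G) := mul_mem (mul_mem hfC.1 hfC.2.1) hfC.2.2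
  have hzt : z * t * z⁻¹ = t := by
    calc z * t * z⁻¹ = (z * f0 * z⁻¹) * (z * f1 * z⁻¹) * (z * f2 * z⁻¹) := by rw [ht]; group
      _ = f1 * f2 * f0 := by rw [hf3]
      _ = f1 * (f2 * f0) := by group
      _ = f1 * (f0 * f2) := by rw [c20]
      _ = (f1 * f0) * f2 := by group
      _ = f0 * f1 * f2 := by rw [c01]
      _ = t := ht.symm
  have htZ : t ∈ Subgroup.centralizer (Z : Set G) := by
    rw [← hceqz, Subgroup.mem_centralizer_iff]
    intro z' hz'
    rw [Set.mem_singleton_iff.1 hz']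
    calc z * t = (z * t * z⁻¹) * z := by group
      _ = t * z := by rw [hzt]
  -- `f1`, `f2` centralize block 0
  obtain ⟨n1, n2, n3⟩ := H.dist P.F' 0
  set s1 := P.F'.sg z 0 with hs1
  set s2 := P.F'.sg z s1 with hs2
  have hs3 : P.F'.sg z s2 = 0 := by
    have h3 := Frame.Cyc.s3 P.F' H
    have h4 : (P.F'.sg z ^ 3) 0 = 0 := by rw [h3]; rfl
    simpa only [pow_succ, _root_.Fin.isValue, _root_.pow_zero, _root_.one_mul, _root_.Equiv.Perm.coe_mul, _root_.Function.comp_apply] using h4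
  have hf1x : ∀ x ∈ U' 0, f1 * x * f1⁻¹ = x := by
    intro x hx
    rw [← hs3] at hx
    have hx' := P.F'.conj_inv_mem hzY hx
    have h4 := P.F'.eU 0 s2 n2.symm _ hx'
    calc f1 * x * f1⁻¹ = z * (e' 0 * (z⁻¹ * x * z) * (e' 0)⁻¹) * z⁻¹ := by rw [hf1, hf0]; group
      _ = x := by rw [h4]; group
  have hf1x2 : ∀ x ∈ U' s2, f1 * x * f1⁻¹ = x := by
    intro x hx
    have hx' : z⁻¹ * x * z ∈ U' s1 := P.F'.conj_inv_mem hzY (by rw [← hs2]; exact hx)
    have h4 := P.F'.eU 0 s1 n1.symm _ hx'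
    calc f1 * x * f1⁻¹ = z * (e' 0 * (z⁻¹ * x * z) * (e' 0)⁻¹) * z⁻¹ := by rw [hf1, hf0]; group
      _ = x := by rw [h4]; group
  have hf2x : ∀ x ∈ U' 0, f2 * x * f2⁻¹ = x := by
    intro x hx
    rw [← hs3] at hx
    have hx' := P.F'.conj_inv_mem hzY hx
    have h4 := hf1x2 _ hx'
    calc f2 * x * f2⁻¹ = z * (f1 * (z⁻¹ * x * z) * f1⁻¹) * z⁻¹ := by rw [hf2]; group
      _ = x := by rw [h4]; group
  have htx : ∀ x ∈ U' 0, t * x * t⁻¹ * x ∈ Y := by
    intro x hx
    have h4 := P.F'.einv 0 x hx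
    have h5 : t * x * t⁻¹ = f0 * x * f0⁻¹ := by
      calc t * x * t⁻¹ = f0 * (f1 * (f2 * x * f2⁻¹) * f1⁻¹) * f0⁻¹ := by rw [ht]; group
        _ = _ := by rw [hf2x x hx, hf1x x hx]
    rw [h5]; exact h4
  -- `t` inverts all blocks
  have htzc : ∀ g : G, t * (z * g * z⁻¹) * t⁻¹ = z * (t * g * t⁻¹) * z⁻¹ := by
    intro g
    have h4 : t * z = z * t := by
      calc t * z = (z * t * z⁻¹) * z := by rw [hzt]
        _ = z * t := by group
    calc t * (z * g * z⁻¹) * t⁻¹ = (t * z) * g * (t * z)⁻¹ := by group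
      _ = (z * t) * g * (z * t)⁻¹ := by rw [h4]
      _ = _ := by group
  have htx1 : ∀ k, (∀ x ∈ U' k, t * x * t⁻¹ * x ∈ Y) → ∀ x ∈ U' (P.F'.sg z k),
      t * x * t⁻¹ * x ∈ Y := by
    intro k hk x hx
    have hx' := P.F'.conj_inv_mem hzY hx
    have h4 := hk _ hx'
    have h5 : t * x * t⁻¹ * x = z * (t * (z⁻¹ * x * z) * t⁻¹ * (z⁻¹ * x * z)) * z⁻¹ := by
      have h6 := htzc (z⁻¹ * x * z)
      have h7 : z * (z⁻¹ * x * z) * z⁻¹ = x := by group
      rw [h7] at h6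
      rw [h6]; group
    rw [h5, Frame.cz hzY h4]; exact h4
  have hts1 := htx1 0 htx
  have hts2 := htx1 _ hts1
  -- components of `d`
  obtain ⟨u0, hu0, u1, hu1, u2, hu2, hdu⟩ := P.F'.mul3 n1 n2 n3 d hdQ'
  -- `t` inverts `d`
  have htd : t * d * t⁻¹ = d⁻¹ := by
    have k0 := htx u0 hu0
    have k1 := hts1 u1 hu1
    have k2 := hts2 u2 hu2
    have h1 : t * d * t⁻¹ * d ∈ Y := by
      have c1 : Commute u0 u1 := P.F'.comm _ _ n1 _ hu0 _ hu1
      have hact : ∀ k, ∀ x ∈ U' k, t * x * t⁻¹ * x ∈ Y → t * x * t⁻¹ ∈ U' k := by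
        intro k x hx h
        have h3 : t * x * t⁻¹ = (t * x * t⁻¹ * x) * x⁻¹ := by group
        rw [h3]; exact mul_mem (P.F'.ZleU k h) (inv_mem hx)
      have v1 := hact s1 u1 hu1 k1
      have v2 := hact s2 u2 hu2 k2
      have c3 : Commute (t * u1 * t⁻¹) u0 := (P.F'.comm _ _ n1 _ hu0 _ v1).symm
      have c4 : Commute (t * u2 * t⁻¹) u0 := (P.F'.comm _ _ n2 _ hu0 _ v2).symm
      have c5 : Commute (t * u2 * t⁻¹) u1 := (P.F'.comm _ _ n3 _ hu1 _ v2).symm
      have h4 : t * d * t⁻¹ * d =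
          (t * u0 * t⁻¹ * u0) * (t * u1 * t⁻¹ * u1) * (t * u2 * t⁻¹ * u2) := by
        calc t * d * t⁻¹ * d
            = (t * u0 * t⁻¹) * (t * u1 * t⁻¹) * ((t * u2 * t⁻¹) * u0) * u1 * u2 := by
              rw [hdu]; group
          _ = (t * u0 * t⁻¹) * (t * u1 * t⁻¹) * (u0 * (t * u2 * t⁻¹)) * u1 * u2 := by rw [c4.eq]
          _ = (t * u0 * t⁻¹) * ((t * u1 * t⁻¹) * u0) * ((t * u2 * t⁻¹) * u1) * u2 := by group
          _ = (t * u0 * t⁻¹) * (u0 * (t * u1 * t⁻¹)) * (u1 * (t * u2 * t⁻¹)) * u2 := by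
              rw [c3.eq, c5.eq]
          _ = _ := by group
      rw [h4]; exact mul_mem (mul_mem k0 k1) k2
    have h2 : t * d * t⁻¹ * d ∈ Y ⊓ Q :=
      Subgroup.mem_inf.2 ⟨h1, mul_mem (P.F.conjQ t htZ d hdQ) hdQ⟩
    rw [P.YQ, Subgroup.mem_bot] at h2
    exact eq_inv_of_mul_eq_one_left h2
  -- `d` is a norm modulo `Y`
  obtain ⟨w, hw, hdw⟩ : ∃ w ∈ Y, Nm z u0 = d * w := by
    have hv1 : z * u0 * z⁻¹ ∈ U' s1 := P.F'.sg_spec hzY 0 hu0
    have hv2 : z * u1 * z⁻¹ ∈ U' s2 := P.F'.sg_spec hzY s1 hu1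
    have hv0 : z * u2 * z⁻¹ ∈ U' 0 := by
      have := P.F'.sg_spec hzY s2 hu2
      rwa [hs3] at this
    have h1 : (z * u2 * z⁻¹ * u0⁻¹) * (z * u0 * z⁻¹ * u1⁻¹) * (z * u1 * z⁻¹ * u2⁻¹) = 1 := by
      have hzd2 : (z * u0 * z⁻¹) * (z * u1 * z⁻¹) * (z * u2 * z⁻¹) = u0 * u1 * u2 := by
        calc (z * u0 * z⁻¹) * (z * u1 * z⁻¹) * (z * u2 * z⁻¹) = z * d * z⁻¹ := by rw [hdu]; group
          _ = _ := by rw [hzd, hdu]
      have c1 : Commute (z * u2 * z⁻¹) (z * u0 * z⁻¹) := (P.F'.comm _ _ n1 _ hv0 _ hv1)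
      have c2 : Commute (z * u2 * z⁻¹) (z * u1 * z⁻¹) := (P.F'.comm _ _ n2 _ hv0 _ hv2)
      have c3 : Commute u0⁻¹ (z * u0 * z⁻¹) := (P.F'.comm _ _ n1 _ (inv_mem hu0) _ hv1)
      have c4 : Commute u0⁻¹ (z * u1 * z⁻¹) := (P.F'.comm _ _ n2 _ (inv_mem hu0) _ hv2)
      have c5 : Commute u1⁻¹ (z * u1 * z⁻¹) := (P.F'.comm _ _ n3 _ (inv_mem hu1) _ hv2)
      have c6 : Commute u0⁻¹ u1⁻¹ := P.F'.comm _ _ n1 _ (inv_mem hu0) _ (inv_mem hu1)
      calc (z * u2 * z⁻¹ * u0⁻¹) * (z * u0 * z⁻¹ * u1⁻¹) * (z * u1 * z⁻¹ * u2⁻¹)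
          = (z * u2 * z⁻¹) * (u0⁻¹ * (z * u0 * z⁻¹)) * (u1⁻¹ * (z * u1 * z⁻¹)) * u2⁻¹ := by group
        _ = (z * u2 * z⁻¹) * ((z * u0 * z⁻¹) * u0⁻¹) * ((z * u1 * z⁻¹) * u1⁻¹) * u2⁻¹ := by
            rw [c3.eq, c5.eq]
        _ = ((z * u2 * z⁻¹) * (z * u0 * z⁻¹)) * (u0⁻¹ * (z * u1 * z⁻¹)) * u1⁻¹ * u2⁻¹ := by group
        _ = ((z * u0 * z⁻¹) * (z * u2 * z⁻¹)) * ((z * u1 * z⁻¹) * u0⁻¹) * u1⁻¹ * u2⁻¹ := by
            rw [c1.eq, c4.eq]
        _ = (z * u0 * z⁻¹) * ((z * u2 * z⁻¹) * (z * u1 * z⁻¹)) * (u0⁻¹ * u1⁻¹) * u2⁻¹ := by group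
        _ = (z * u0 * z⁻¹) * ((z * u1 * z⁻¹) * (z * u2 * z⁻¹)) * (u1⁻¹ * u0⁻¹) * u2⁻¹ := by
            rw [c2.eq, c6.eq]
        _ = ((z * u0 * z⁻¹) * (z * u1 * z⁻¹) * (z * u2 * z⁻¹)) * (u0 * u1)⁻¹ * u2⁻¹ := by group
        _ = (u0 * u1 * u2) * (u0 * u1)⁻¹ * u2⁻¹ := by rw [hzd2]
        _ = (u0 * u1) * (u2 * (u0 * u1)⁻¹) * u2⁻¹ := by group
        _ = (u0 * u1) * ((u0 * u1)⁻¹ * u2) * u2⁻¹ := by
            have c7a : Commute u2 u0 := (P.F'.comm _ _ n2 _ hu0 _ hu2).symm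
            have c7b : Commute u2 u1 := (P.F'.comm _ _ n3 _ hu1 _ hu2).symm
            have c7 : Commute u2 (u0 * u1) := c7a.mul_right c7b
            rw [c7.inv_right.eq]
        _ = 1 := by group
    obtain ⟨_, j1, j2⟩ := P.F'.indep n1 n2 n3 (mul_mem hv0 (inv_mem hu0))
      (mul_mem hv1 (inv_mem hu1)) (mul_mem hv2 (inv_mem hu2)) (by rw [h1]; exact one_mem _)
    set y1 := z * u0 * z⁻¹ * u1⁻¹ with hy1d
    set y2 := z * u1 * z⁻¹ * u2⁻¹ with hy2d
    have g1 : z * u0 * z⁻¹ = y1 * u1 := by rw [hy1d]; group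
    have g2 : z * u1 * z⁻¹ = y2 * u2 := by rw [hy2d]; group
    have cy : ∀ v ∈ Y, ∀ q ∈ Q', Commute v q := fun v hv q hq => P.F'.zc hv hq
    refine ⟨y1 * (y1 * y2), mul_mem j1 (mul_mem j1 j2), ?_⟩
    unfold Nm
    have g3 : z * (z * u0 * z⁻¹) * z⁻¹ = y1 * y2 * u2 := by
      rw [g1]
      calc z * (y1 * u1) * z⁻¹ = (z * y1 * z⁻¹) * (z * u1 * z⁻¹) := by group
        _ = y1 * (y2 * u2) := by rw [Frame.cz hzY j1, g2]
        _ = _ := by group
    rw [g3, g1]
    have q0 := P.F'.UleQ _ hu0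
    have q1 := P.F'.UleQ _ hu1
    have q2 := P.F'.UleQ _ hu2
    calc u0 * (y1 * u1) * (y1 * y2 * u2) = (u0 * y1) * (u1 * (y1 * y2)) * u2 := by group
      _ = (y1 * u0) * ((y1 * y2) * u1) * u2 := by
          rw [← (cy y1 j1 u0 q0).eq, ← (cy _ (mul_mem j1 j2) u1 q1).eq]
      _ = y1 * (u0 * (y1 * y2)) * u1 * u2 := by group
      _ = y1 * ((y1 * y2) * u0) * u1 * u2 := by rw [← (cy _ (mul_mem j1 j2) u0 q0).eq]
      _ = (y1 * (y1 * y2)) * d := by rw [hdu]; group
      _ = d * (y1 * (y1 * y2)) := (cy _ (mul_mem j1 (mul_mem j1 j2)) d hdQ').eq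
  -- correct `u0`
  set v := u0 * (t * u0 * t⁻¹ * u0) with hv
  have hwt := htx u0 hu0
  have hvU : v ∈ U' 0 := mul_mem hu0 (P.F'.ZleU 0 hwt)
  have hNv : Nm z v = d * w := by
    rw [hv, H.Nm_mul P.F' hu0 (P.F'.ZleU 0 hwt), H.Nm_Z P.F' hwt, mul_one, hdw]
  have htv : t * v * t⁻¹ = v⁻¹ := by
    set k := t * u0 * t⁻¹ * u0 with hk
    have h1 : t * u0 * t⁻¹ = k * u0⁻¹ := by rw [hk]; group
    have ck : Commute k u0 := P.F'.zc hwt (P.F'.UleQ 0 hu0)
    have hk3 : k ^ 3 = 1 := P.F'.exp k (P.F'.ZleQ hwt)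
    calc t * v * t⁻¹ = (t * u0 * t⁻¹) * (t * k * t⁻¹) := by rw [hv]; group
      _ = (k * u0⁻¹) * k := by rw [h1, Frame.cz htY hwt]
      _ = k * (u0⁻¹ * k) := by group
      _ = k * (k * u0⁻¹) := by rw [ck.symm.inv_left.eq]
      _ = (k * k) * u0⁻¹ := by group
      _ = k⁻¹ * u0⁻¹ := by rw [Frame.cube_inv hk3]
      _ = v⁻¹ := by rw [hv]; group
  -- `t` inverts `Nm z v`
  have htN : t * Nm z v * t⁻¹ = (Nm z v)⁻¹ := by
    have h1 : t * Nm z v * t⁻¹ = Nm z v⁻¹ := by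
      unfold Nm
      calc t * (v * (z * v * z⁻¹) * (z * (z * v * z⁻¹) * z⁻¹)) * t⁻¹
          = (t * v * t⁻¹) * (t * (z * v * z⁻¹) * t⁻¹) * (t * (z * (z * v * z⁻¹) * z⁻¹) * t⁻¹) := by
            group
        _ = _ := by rw [htzc, htzc, htzc, htv]
    have h2 : Nm z v⁻¹ * Nm z v = 1 := by
      rw [← H.Nm_mul P.F' (inv_mem hvU) hvU, inv_mul_cancel]
      simp [Nm]
    rw [h1]
    exact eq_inv_of_mul_eq_one_left h2
  have hw1 : w = 1 := by
    rw [hNv] at htN
    have cdw : Commute w d := P.F'.zc hw hdQ'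
    have h1 : t * (d * w) * t⁻¹ = d⁻¹ * w := by
      calc t * (d * w) * t⁻¹ = (t * d * t⁻¹) * (t * w * t⁻¹) := by group
        _ = _ := by rw [htd, Frame.cz htY hw]
    rw [h1] at htN
    have h2 : (d * w)⁻¹ = d⁻¹ * w⁻¹ := by
      rw [mul_inv_rev]
      exact cdw.inv_inv.eq
    rw [h2] at htN
    have h3 : w = w⁻¹ := by simpa using htN
    have h4 : w * w = 1 := by
      calc w * w = w * w⁻¹ := by rw [← h3]
        _ = 1 := by group
    exact sq_one_of (P.F'.exp w (P.F'.ZleQ hw)) h4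
  rw [hw1, mul_one] at hNv
  -- the final conjugation
  obtain ⟨m1, m2, m3⟩ := H.comms P.F' hvU hvU
  have hv3 := Blk.conj_cube hz3 v
  set q1 := z * v * z⁻¹ with hq1
  set q2 := z * q1 * z⁻¹ with hq2
  have hdq : d = v * q1 * q2 := by rw [← hNv]; rfl
  have hzq1 : z⁻¹ * q1 * z = v := by rw [hq1]; group
  have hzq2 : z⁻¹ * q2 * z = q1 := by rw [hq2]; group
  have hq13 : q1 ^ 3 = 1 := by
    rw [hq1, conj_pow, P.F'.exp v (P.F'.UleQ 0 hvU)]; group
  have hfin : z⁻¹ * (q1⁻¹ * q2) * z * (q1⁻¹ * q2)⁻¹ = d⁻¹ := by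
    calc z⁻¹ * (q1⁻¹ * q2) * z * (q1⁻¹ * q2)⁻¹
        = (z⁻¹ * q1 * z)⁻¹ * (z⁻¹ * q2 * z) * q2⁻¹ * q1 := by group
      _ = v⁻¹ * (q1 * q2⁻¹) * q1 := by rw [hzq1, hzq2]; group
      _ = v⁻¹ * (q2⁻¹ * q1) * q1 := by rw [m3.inv_right.eq]
      _ = v⁻¹ * q2⁻¹ * (q1 * q1) := by group
      _ = v⁻¹ * q2⁻¹ * q1⁻¹ := by rw [Frame.cube_inv hq13]
      _ = (q2⁻¹ * v⁻¹) * q1⁻¹ := by rw [m2.inv_inv.eq]
      _ = q2⁻¹ * (v⁻¹ * q1⁻¹) := by group
      _ = q2⁻¹ * (q1⁻¹ * v⁻¹) := by rw [m1.inv_inv.eq]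
      _ = d⁻¹ := by rw [hdq]; group
  have := P.symm.W1' hz hz1 (inv_mem hdQ') (inv_mem hdQ) hfin
  exact hd1' (inv_eq_one.1 this)

end Pair

end Cfsg.Agent.H341.Weak
end

-- part: H341/WeakMain
section
/-!
# `Z` is not weakly closed in `Q`
-/

set_option autoImplicit false

namespace Cfsg.Agent.H341.Weak

variable {G : Type*} [Group G]

theorem block3 {Z : Subgroup G} (hZ : Nat.card Z = 3) {v0 v1 v2 : G} (h0 : v0 ∈ Z) (h1 : v1 ∈ Z)
    (h2 : v2 ∈ Z) : v0 = 1 ∨ v1 = 1 ∨ v2 = 1 ∨ v0 * v1 = 1 ∨ v1 * v2 = 1 ∨ v0 * v1 * v2 = 1 := by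
  haveI : Fact (Nat.Prime 3) := ⟨by norm_num⟩
  haveI : Finite Z := Nat.finite_of_card_ne_zero (by rw [hZ]; norm_num)
  by_cases k0 : v0 = 1
  · exact Or.inl k0
  by_cases k1 : v1 = 1
  · exact Or.inr (Or.inl k1)
  by_cases k2 : v2 = 1
  · exact Or.inr (Or.inr (Or.inl k2))
  have h3 : ∀ v ∈ Z, v ^ 3 = 1 := by
    intro v hv
    have : (⟨v, hv⟩ : Z) ^ 3 = 1 := by rw [← hZ]; exact pow_card_eq_one'
    exact congrArg Subtype.val this
  have hpw : ∀ v ∈ Z, v ≠ 1 → v = v0 ∨ v = v0 * v0 := by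
    intro v hv hv1
    have g1 : (⟨v0, h0⟩ : Z) ≠ 1 := fun h => k0 (congrArg Subtype.val h)
    obtain ⟨n, hn⟩ := Subgroup.mem_zpowers_iff.1
      (mem_zpowers_of_prime_card (G := Z) (p := 3) hZ (g := ⟨v0, h0⟩) (g' := ⟨v, hv⟩) g1)
    have hn' : v0 ^ n = v := congrArg Subtype.val hn
    have h30 : v0 ^ (3 : ℤ) = 1 := by exact_mod_cast h3 v0 h0
    have h31 : v0 ^ (n % 3) = v := by
      rw [← hn']
      conv_rhs => rw [← Int.emod_add_mul_ediv n 3, zpow_add, zpow_mul, h30, one_zpow, mul_one]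
    have hr : n % 3 = 0 ∨ n % 3 = 1 ∨ n % 3 = 2 := by omega
    rcases hr with hr | hr | hr
    · rw [hr] at h31; exact absurd (by simpa using h31.symm) hv1
    · rw [hr] at h31; left; simpa using h31.symm
    · rw [hr] at h31; right
      rw [← h31, zpow_ofNat, pow_two]
  have h30 := h3 v0 h0
  have h33 : v0 * v0 * v0 = 1 := by rw [← h30]; simp only [pow_succ, pow_zero, one_mul]
  rcases hpw v1 h1 k1 with e1 | e1
  · rcases hpw v2 h2 k2 with e2 | e2
    · right; right; right; right; right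
      rw [e1, e2, h33]
    · right; right; right; right; left
      rw [e1, e2, ← mul_assoc, h33]
  · right; right; right; left
    rw [e1, ← mul_assoc, h33]

namespace Frame

variable {Z Q : Subgroup G} {U : Fin 3 → Subgroup G} {e : Fin 3 → G}

theorem sq_mem (F : Frame Z Q U e) {x : G} (hx : x ∈ Q) (h : x * x ∈ Z) : x ∈ Z := by
  have h5 := F.exp x hx
  have h6 : x = (x * x) * (x * x) := by
    calc x = x ^ 3 * x := by rw [h5, one_mul]
      _ = (x * x) * (x * x) := by simp only [pow_succ, pow_zero, one_mul, mul_assoc]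
  rw [h6]; exact mul_mem h h

theorem e_ne_one (F : Frame Z Q U e) (i : Fin 3) : e i ≠ 1 := by
  intro h
  obtain ⟨x, hx, hxZ⟩ := F.exists_notZ i
  apply hxZ
  have := F.einv i x hx
  rw [h] at this
  exact F.sq_mem (F.UleQ i hx) (by simpa using this)

end Frame

namespace Pair

variable {Z Q : Subgroup G} {U : Fin 3 → Subgroup G} {e : Fin 3 → G}
  {Y Q' : Subgroup G} {U' : Fin 3 → Subgroup G} {e' : Fin 3 → G}

/-- an involution commuting with `z`, `Y` and one vector of the fixed space of `z` is trivial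
on that block -/
theorem triv_of_fix (F' : Frame Y Q' U' e') {z t : G} {r c : Fin 3 → G}
    (H : Frame.Full Y U' z r c) (htY : t ∈ Subgroup.centralizer (Y : Set G)) (ht2 : t * t = 1)
    (hzt : z * t = t * z) {j : Fin 3} (htc : t * c j = c j * t) :
    F'.sg t j = j ∧ Triv Y (U' j) t := by
  have h1 : t * c j * t⁻¹ = c j := by rw [htc]; group
  have hs : F'.sg t j = j := F'.sg_eq htY (H.H j).cU (H.H j).cZ (by rw [h1]; exact (H.H j).cU)
  refine ⟨hs, ?_⟩
  have hn : ¬ Triv Y (U' j) z := by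
    intro h
    have h2 := h _ (H.H j).rU
    rw [(H.H j).yr] at h2
    apply (H.H j).cZ
    simpa using h2
  rcases (F'.blk j).comm2 (H.act j) H.y3 hn (F'.act_of_sg htY hs) ht2 hzt with h | h
  · exact h
  · exfalso
    have h2 := h _ (H.H j).cU
    rw [h1] at h2
    exact (H.H j).cZ (F'.sq_mem (F'.UleQ j (H.H j).cU) h2)

theorem exists_D (P : Pair Z Q U e Y Q' U' e') [Finite G] {z : G} (hz : z ∈ Z) (hz1 : z ≠ 1)
    {r c : Fin 3 → G} (H : Frame.Full Y U' z r c) (hall : ∀ i, z * c i = c i * z) {i : Fin 3}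
    (hei : e i ∈ Subgroup.centralizer (Y : Set G)) : ∃ d ∈ Q ⊓ Q', d ∈ U i ∧ d ≠ 1 := by
  by_contra hcon
  push Not at hcon
  have hte : ∀ a ∈ Q' ⊓ Subgroup.centralizer (Z : Set G), e i * a = a * e i := by
    intro a ha
    have h1 := (P.symm.X (i := i) hei ha).2
    by_contra hne
    obtain ⟨h2, h3⟩ := Subgroup.mem_inf.1 h1
    have hU : e i * a * (e i)⁻¹ * a⁻¹ ∈ U i := by
      apply P.F.mem_U_of_inv h3
      have he2 := P.F.e2 i
      have hei' := P.F.e_inv i
      calc e i * (e i * a * (e i)⁻¹ * a⁻¹) * (e i)⁻¹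
          = (e i * e i) * a * (e i)⁻¹ * a⁻¹ * (e i)⁻¹ := by group
        _ = a * (e i)⁻¹ * a⁻¹ * (e i)⁻¹ := by rw [he2]; group
        _ = a * e i * a⁻¹ * (e i)⁻¹ := by rw [hei']
        _ = _ := by group
    have h4 := hcon (e i * a * (e i)⁻¹ * a⁻¹) (Subgroup.mem_inf.2 ⟨h3, h2⟩) hU
    apply hne
    calc e i * a = (e i * a * (e i)⁻¹ * a⁻¹) * (a * e i) := by group
      _ = a * e i := by rw [h4, one_mul]
  have ht2 := P.F.e2 i
  have hzt : z * e i = e i * z := Subgroup.mem_centralizer_iff.1 (P.F.eC i) z hz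
  have hT : ∀ j, Triv Y (U' j) (e i) := by
    intro j
    have hcA : c j ∈ Q' ⊓ Subgroup.centralizer (Z : Set G) :=
      P.symm.memA hz hz1 (P.F'.UleQ j (H.H j).cU) (hall j)
    exact (triv_of_fix P.F' H hei ht2 hzt (hte _ hcA)).2
  have hQ' := P.F'.mem_Q hei hT
  exact P.F.e_ne_one i (sq_one_of (P.F'.exp _ hQ') ht2)

/-- the case `Q ⊓ Q' ≠ ⊥` -/
theorem bot (P : Pair Z Q U e Y Q' U' e') [Finite G] {z y : G} (hz : z ∈ Z) (hz1 : z ≠ 1)
    (hy : y ∈ Y) (hy1 : y ≠ 1)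
    {r c r' c' : Fin 3 → G} (H : Frame.Full Z U y r c) (H' : Frame.Full Y U' z r' c') :
    Q ⊓ Q' = ⊥ := by
  by_contra hD
  have hall : ∀ i, y * c i = c i * y := by
    intro i
    by_contra h
    exact hD (by rw [inf_comm]; exact P.symm.bot_of_not hy hy1 H h)
  have hall' : ∀ i, z * c' i = c' i * z := by
    intro i
    by_contra h
    exact hD (P.bot_of_not hz hz1 H' h)
  obtain ⟨q, hqQ, hq⟩ := H.exists_conj P.F (fun _ => True) (fun i _ => hall i)
  have P1 := P.conjE hqQ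
  have hfC : ∀ i, q * e i * q⁻¹ ∈ Subgroup.centralizer (Y : Set G) := by
    intro i
    rw [← cent_eq P.F' hy hy1, Subgroup.mem_centralizer_iff]
    intro y' hy'
    rw [Set.mem_singleton_iff.1 hy']
    exact hq i trivial
  -- elements of `D`
  have hg : ∀ i, ∃ g ∈ Q ⊓ Q', ∃ v ∈ Z, g ∈ U i ∧ g ≠ 1 ∧ y⁻¹ * r i * y * (r i)⁻¹ = g * v := by
    intro i
    obtain ⟨d, hd, hdU, hd1⟩ := P1.exists_D hz hz1 H' hall' (i := i) (hfC i)
    have hdA := (Subgroup.mem_inf.1 (P.D_le hd)).2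
    have hdy : y * d * y⁻¹ * d⁻¹ ∈ Z := by
      have := Subgroup.mem_centralizer_iff.1 hdA y hy
      rw [this]; simp
    obtain ⟨n, w, hw, hdn⟩ := (H.H i).fix d hdU hdy
    have hyr : y⁻¹ * r i * y * (r i)⁻¹ = (c i)⁻¹ := by
      have h1 : y * ((c i)⁻¹ * r i) * y⁻¹ = r i := by
        have h2 : Commute y (c i) := hall i
        calc y * ((c i)⁻¹ * r i) * y⁻¹ = (y * (c i)⁻¹) * r i * y⁻¹ := by group
          _ = ((c i)⁻¹ * y) * r i * y⁻¹ := by rw [h2.inv_right.eq]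
          _ = (c i)⁻¹ * (y * r i * y⁻¹) := by group
          _ = r i := by rw [(H.H i).yr]; group
      calc y⁻¹ * r i * y * (r i)⁻¹ = y⁻¹ * (y * ((c i)⁻¹ * r i) * y⁻¹) * y * (r i)⁻¹ := by rw [h1]
        _ = _ := by group
    have hc3 : c i ^ 3 = 1 := P.F.exp _ (H.c_mem P.F i)
    have cwc : Commute w (c i) := P.F.zc hw (H.c_mem P.F i)
    have hn : n = 0 ∨ n = 1 ∨ n = 2 := by (revert n; simp only [_root_.Fin.forall_fin_succ, Fin.isValue, _root_.Fin.coe_ofNat_eq_mod, _root_.Nat.zero_mod, _root_.pow_zero, _root_.one_mul, _root_.zero_ne_one, Fin.reduceEq, _root_.or_self, _root_.or_false, _root_.implies_true, _root_.Fin.val_succ, _root_.Fin.succ_ne_zero, _root_.false_or, _root_.zero_add, _root_.pow_one, _root_.Fin.succ_zero_eq_one, _root_.Fin.val_eq_zero, Nat.reduceAdd, _root_.Fin.succ_one_eq_two, _root_.or_true, _root_.IsEmpty.forall_iff, _root_.and_self])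
    rcases hn with rfl | rfl | rfl
    · exfalso
      have : d = w := by rw [hdn]; simp
      have h2 : d ∈ Z ⊓ Q' := Subgroup.mem_inf.2 ⟨this ▸ hw, (Subgroup.mem_inf.1 hd).2⟩
      rw [P.ZQ'] at h2
      exact hd1 (Subgroup.mem_bot.1 h2)
    · have hd' : d = c i * w := by rw [hdn]; simp
      refine ⟨d⁻¹, inv_mem hd, w, hw, inv_mem hdU, inv_ne_one.2 hd1, ?_⟩
      rw [hyr, hd', mul_inv_rev]
      calc (c i)⁻¹ = (c i)⁻¹ * (w⁻¹ * w) := by group
        _ = ((c i)⁻¹ * w⁻¹) * w := by group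
        _ = (w⁻¹ * (c i)⁻¹) * w := by rw [cwc.inv_inv.eq]
    · have hd' : d = (c i)⁻¹ * w := by
        rw [hdn]
        show c i ^ 2 * w = _
        rw [pow_two, Frame.cube_inv hc3]
      refine ⟨d, hd, w⁻¹, inv_mem hw, hdU, hd1, ?_⟩
      rw [hyr, hd']; group
  choose g hgD v hvZ hgU hg1 hgr using hg
  have hrU := fun i => (H.H i).rU
  have hgQ' := fun i => (Subgroup.mem_inf.1 (hgD i)).2
  have hgQ := fun i => (Subgroup.mem_inf.1 (hgD i)).1
  -- two blocks
  have two : ∀ i j, i ≠ j → y⁻¹ * (r i * r j) * y * (r i * r j)⁻¹ = g i * g j * (v i * v j) := by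
    intro i j hij
    have c1 : Commute (g j * v j) (r i)⁻¹ := by
      have a1 : Commute (g j) (r i)⁻¹ := (P.F.comm i j hij _ (inv_mem (hrU i)) _ (hgU j)).symm
      have a2 : Commute (v j) (r i)⁻¹ := P.F.zc (hvZ j) (inv_mem (P.F.UleQ i (hrU i)))
      exact a1.mul_left a2
    have c2 : Commute (v i) (g j) := P.F.zc (hvZ i) (P.F.UleQ j (hgU j))
    calc y⁻¹ * (r i * r j) * y * (r i * r j)⁻¹
        = (y⁻¹ * r i * y) * ((y⁻¹ * r j * y * (r j)⁻¹) * (r i)⁻¹) := by group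
      _ = (y⁻¹ * r i * y) * ((r i)⁻¹ * (g j * v j)) := by rw [hgr, c1.eq]
      _ = (y⁻¹ * r i * y * (r i)⁻¹) * (g j * v j) := by group
      _ = g i * (v i * g j) * v j := by rw [hgr]; group
      _ = g i * (g j * v i) * v j := by rw [c2.eq]
      _ = _ := by group
  have ne2 : ∀ i j, i ≠ j → g i * g j ≠ 1 := by
    intro i j hij h
    have h1 : g i = (g j)⁻¹ := eq_inv_of_mul_eq_one_left h
    have h2 : g i ∈ Z := P.F.inter hij (hgU i) (by rw [h1]; exact inv_mem (hgU j))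
    have h3 : g i ∈ Z ⊓ Q' := Subgroup.mem_inf.2 ⟨h2, hgQ' i⟩
    rw [P.ZQ'] at h3
    exact hg1 i (Subgroup.mem_bot.1 h3)
  rcases block3 P.F.cardZ (hvZ 0) (hvZ 1) (hvZ 2) with h | h | h | h | h | h
  · exact hg1 0 (P.W1' hy hy1 (hgQ 0) (hgQ' 0) (x := r 0) (by rw [hgr, h, mul_one]))
  · exact hg1 1 (P.W1' hy hy1 (hgQ 1) (hgQ' 1) (x := r 1) (by rw [hgr, h, mul_one]))
  · exact hg1 2 (P.W1' hy hy1 (hgQ 2) (hgQ' 2) (x := r 2) (by rw [hgr, h, mul_one]))
  · exact ne2 0 1 (by decide) (P.W1' hy hy1 (mul_mem (hgQ 0) (hgQ 1)) (mul_mem (hgQ' 0) (hgQ' 1))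
      (x := r 0 * r 1) (by rw [two 0 1 (by decide), h, mul_one]))
  · exact ne2 1 2 (by decide) (P.W1' hy hy1 (mul_mem (hgQ 1) (hgQ 2)) (mul_mem (hgQ' 1) (hgQ' 2))
      (x := r 1 * r 2) (by rw [two 1 2 (by decide), h, mul_one]))
  · have h3 : y⁻¹ * (r 0 * (r 1 * r 2)) * y * (r 0 * (r 1 * r 2))⁻¹ = g 0 * g 1 * g 2 := by
      have t12 := two 1 2 (by decide)
      have c1 : Commute (g 1 * g 2 * (v 1 * v 2)) (r 0)⁻¹ := by
        have a1 : Commute (g 1) (r 0)⁻¹ :=
          (P.F.comm 0 1 (by decide) _ (inv_mem (hrU 0)) _ (hgU 1)).symm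
        have a2 : Commute (g 2) (r 0)⁻¹ :=
          (P.F.comm 0 2 (by decide) _ (inv_mem (hrU 0)) _ (hgU 2)).symm
        have a3 : Commute (v 1 * v 2) (r 0)⁻¹ :=
          P.F.zc (mul_mem (hvZ 1) (hvZ 2)) (inv_mem (P.F.UleQ 0 (hrU 0)))
        exact (a1.mul_left a2).mul_left a3
      have c2 : Commute (v 0) (g 1 * g 2) :=
        P.F.zc (hvZ 0) (mul_mem (P.F.UleQ 1 (hgU 1)) (P.F.UleQ 2 (hgU 2)))
      calc y⁻¹ * (r 0 * (r 1 * r 2)) * y * (r 0 * (r 1 * r 2))⁻¹
          = (y⁻¹ * r 0 * y) * ((y⁻¹ * (r 1 * r 2) * y * (r 1 * r 2)⁻¹) * (r 0)⁻¹) := by group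
        _ = (y⁻¹ * r 0 * y) * ((r 0)⁻¹ * (g 1 * g 2 * (v 1 * v 2))) := by rw [t12, c1.eq]
        _ = (y⁻¹ * r 0 * y * (r 0)⁻¹) * (g 1 * g 2 * (v 1 * v 2)) := by group
        _ = g 0 * (v 0 * (g 1 * g 2)) * (v 1 * v 2) := by rw [hgr]; group
        _ = g 0 * ((g 1 * g 2) * v 0) * (v 1 * v 2) := by rw [c2.eq]
        _ = g 0 * g 1 * g 2 * (v 0 * v 1 * v 2) := by group
        _ = _ := by rw [h, mul_one]
    have h4 := P.W1' hy hy1 (mul_mem (mul_mem (hgQ 0) (hgQ 1)) (hgQ 2))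
      (mul_mem (mul_mem (hgQ' 0) (hgQ' 1)) (hgQ' 2)) h3
    have h5 := P.F.indep1 (i := 0) (j := 1) (k := 2) (by decide) (by decide) (hgU 0) (hgU 1)
      (hgU 2) (by rw [h4]; exact one_mem _)
    have h6 : g 0 ∈ Z ⊓ Q' := Subgroup.mem_inf.2 ⟨h5, hgQ' 0⟩
    rw [P.ZQ'] at h6
    exact hg1 0 (Subgroup.mem_bot.1 h6)

/-- the case `Q ⊓ Q' = ⊥`: all but one of the `c l` commute with `y` -/
theorem exists_i (P : Pair Z Q U e Y Q' U' e') [Finite G] {z y : G} (hz : z ∈ Z) (hz1 : z ≠ 1)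
    (hy : y ∈ Y) (hy1 : y ≠ 1) (hD : Q ⊓ Q' = ⊥)
    {r c : Fin 3 → G} (H : Frame.Full Z U y r c) :
    ∃ i, ∀ l, l ≠ i → y * c l = c l * y := by
  classical
  have hceq := cent_eq P.F' hy hy1
  have hyZ := P.symm.ZC hy
  -- some `c i` does not commute with `y`
  obtain ⟨i, hi⟩ : ∃ i, y * c i ≠ c i * y := by
    by_contra hcon
    push Not at hcon
    have hle : CZ Z Q P.F.QleC y ≤ Q ⊓ Subgroup.centralizer (Y : Set G) := by
      intro x hx
      obtain ⟨n, w, hw, hxn⟩ := H.mem P.F hx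
      apply P.memA hy hy1 hx.1
      rw [hxn]
      have c0 : ∀ i, Commute y (c i) := hcon
      have cw : Commute y w := (Subgroup.mem_centralizer_iff.1 hyZ w hw).symm
      exact ((((c0 0).pow_right _).mul_right ((c0 1).pow_right _)).mul_right
        ((c0 2).pow_right _)).mul_right cw
    have h1 := Subgroup.card_le_of_le hle
    rw [(H.cards P.F).1] at h1
    have h2 := (P.ab hD P.A_comm).card_le P.F'
    omega
  obtain ⟨j, k, hij, hik, hjk⟩ := exists_jk i
  have hAb := P.symm.ab (by rw [inf_comm]; exact hD) P.symm.A_comm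
  obtain ⟨b, hb, hbN, hbt, hbn⟩ := hAb.exists_single P.F (P.symm.card_A hz hz1) i
  obtain ⟨hbQ', hbZ⟩ := Subgroup.mem_inf.1 hb
  have hyb : y * b = b * y := P.F'.zc hy hbQ'
  have hb3 : b ^ 3 = 1 := P.F'.exp b hbQ'
  have hbc : ∀ l, l ≠ i → Commute b (c l) := fun l hl =>
    (P.F.blk l).comm_of_triv (H.H l) (H.act l) (hbt l hl) hyb
  have hbw : ∀ w ∈ Z, Commute b w := fun w hw =>
    (Subgroup.mem_centralizer_iff.1 hbZ w hw).symm
  have hnt : ¬ Triv Z (U i) y := by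
    intro h
    have h2 := h _ (H.H i).rU
    rw [(H.H i).yr] at h2
    apply (H.H i).cZ
    simpa using h2
  -- `b` does not commute with `c i`
  have hbci : ¬ Commute b (c i) := by
    intro hbc'
    obtain ⟨m, hm⟩ := (P.F.blk i).comm3 (H.act i) H.y3 hnt (P.F.N0_act hbN i) hb3 hyb
    have hyy : Commute y (y ^ m.val * b) :=
      ((Commute.refl y).pow_right _).mul_right hyb
    have h1 : Commute (y ^ m.val * b) (c i) :=
      (P.F.blk i).comm_of_triv (H.H i) (H.act i) hm hyy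
    have h2 : Commute (y ^ m.val) (c i) := by
      have : y ^ m.val = (y ^ m.val * b) * b⁻¹ := by group
      rw [this]; exact h1.mul_left hbc'.inv_left
    have hm3 : m = 0 ∨ m = 1 ∨ m = 2 := by fin_cases m <;> simp
    rcases hm3 with rfl | rfl | rfl
    · apply hbn
      have : y ^ (0 : Fin 3).val * b = b := by simp
      rw [this] at hm; exact hm
    · apply hi
      have : y ^ (1 : Fin 3).val = y := by simp
      rw [this] at h2; exact h2
    · apply hi
      have h4 : y = (y ^ 2) ^ 2 := by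
        calc y = y ^ 3 * y := by rw [H.y3, one_mul]
          _ = (y ^ 2) ^ 2 := by rw [← pow_succ, ← pow_mul]
      have h5 : Commute (y ^ 2) (c i) := h2
      have h6 : Commute ((y ^ 2) ^ 2) (c i) := h5.pow_left 2
      rw [← h4] at h6; exact h6
  -- the form of the elements of `A`
  have hform : ∀ a : (Q ⊓ Subgroup.centralizer (Y : Set G) : Subgroup G),
      ∃ p : (Fin 3 × Fin 3) × Z, (a : G) = c j ^ p.1.1.val * c k ^ p.1.2.val * (p.2 : G) := by
    rintro ⟨a, ha⟩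
    obtain ⟨haQ, haY⟩ := Subgroup.mem_inf.1 ha
    have haf : y * a * y⁻¹ * a⁻¹ ∈ Z := by
      have := Subgroup.mem_centralizer_iff.1 haY y hy
      rw [this]; simp
    obtain ⟨u, hu, v, hv, t, ht, hat⟩ := P.F.mul3 hij hik hjk a haQ
    rw [hat] at haf
    obtain ⟨f1, f2, f3⟩ := P.F.comp hij hik hjk H.act hu hv ht haf
    obtain ⟨n0, w0, hw0, e0⟩ := (H.H i).fix u hu f1
    obtain ⟨n1, w1, hw1, e1⟩ := (H.H j).fix v hv f2
    obtain ⟨n2, w2, hw2, e2⟩ := (H.H k).fix t ht f3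
    have cba : Commute b a := (P.comm_of_bot hD ha hb).symm
    have cbv : Commute b v := by
      rw [e1]; exact ((hbc j hij.symm).pow_right _).mul_right (hbw w1 hw1)
    have cbt : Commute b t := by
      rw [e2]; exact ((hbc k hik.symm).pow_right _).mul_right (hbw w2 hw2)
    have cbu : Commute b u := by
      have : u = a * t⁻¹ * v⁻¹ := by rw [hat]; group
      rw [this]
      exact (cba.mul_right cbt.inv_right).mul_right cbv.inv_right
    have hn0 : n0 = 0 := by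
      by_contra hn
      apply hbci
      have h1 : Commute b (c i ^ n0.val) := by
        have : c i ^ n0.val = u * w0⁻¹ := by rw [e0]; group
        rw [this]; exact cbu.mul_right (hbw w0 hw0).inv_right
      have hn' : n0 = 1 ∨ n0 = 2 := by fin_cases n0 <;> simp_all only [_root_.ne_eq, _root_.Subgroup.mem_inf, _root_.and_self, _root_.pow_zero, _root_.one_mul, _root_.mul_inv_rev, _root_.Fin.zero_eta, _root_.Fin.isValue, _root_.not_true_eq_false, _root_.pow_one, _root_.Fin.mk_one, _root_.one_ne_zero, _root_.not_false_eq_true, _root_.Commute.mul_right, _root_.Fin.reduceFinMk, _root_.Fin.reduceEq, _root_.or_true]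
      rcases hn' with rfl | rfl
      · simpa using h1
      · have hc3 : c i ^ 3 = 1 := P.F.exp _ (H.c_mem P.F i)
        have h4 : c i = (c i ^ 2) ^ 2 := by
          calc c i = c i ^ 3 * c i := by rw [hc3, one_mul]
            _ = (c i ^ 2) ^ 2 := by rw [← pow_succ, ← pow_mul]
        have h5 : Commute b (c i ^ 2) := h1
        rw [h4]; exact h5.pow_right 2
    subst hn0
    have e0' : u = w0 := by rw [e0]; simp
    refine ⟨((n1, n2), ⟨w0 * w1 * w2, mul_mem (mul_mem hw0 hw1) hw2⟩), ?_⟩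
    show a = c j ^ n1.val * c k ^ n2.val * (w0 * w1 * w2)
    have c1 : w0 * c j ^ n1.val = c j ^ n1.val * w0 := P.F.zc hw0 (pow_mem (H.c_mem P.F j) _)
    have c2 : (w0 * w1) * c k ^ n2.val = c k ^ n2.val * (w0 * w1) :=
      P.F.zc (mul_mem hw0 hw1) (pow_mem (H.c_mem P.F k) _)
    rw [hat, e0', e1, e2]
    calc w0 * (c j ^ n1.val * w1) * (c k ^ n2.val * w2)
        = (w0 * c j ^ n1.val) * w1 * c k ^ n2.val * w2 := by group
      _ = c j ^ n1.val * ((w0 * w1) * c k ^ n2.val) * w2 := by rw [c1]; group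
      _ = _ := by rw [c2]; group
  choose p hp using hform
  have hinj : Function.Injective p := by
    intro a b hab
    apply Subtype.ext
    rw [hp a, hp b, hab]
  have hcard : Nat.card ((Fin 3 × Fin 3) × Z) = 27 := by
    rw [Nat.card_prod, Nat.card_prod, P.F.cardZ]; simp
  have hge := P.card_A hy hy1
  haveI : Finite Z := Nat.finite_of_card_ne_zero (by rw [P.F.cardZ]; norm_num)
  have hle := Nat.card_le_card_of_injective p hinj
  have hsurj : Function.Surjective p :=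
    ((Nat.bijective_iff_injective_and_card p).2 ⟨hinj, by omega⟩).2
  have hcA : ∀ m n : Fin 3, c j ^ m.val * c k ^ n.val ∈ Q ⊓ Subgroup.centralizer (Y : Set G) := by
    intro m n
    obtain ⟨a, ha⟩ := hsurj ((m, n), 1)
    have := hp a
    rw [ha] at this
    simp only [OneMemClass.coe_one, mul_one] at this
    rw [← this]; exact a.2
  refine ⟨i, fun l hl => ?_⟩
  have hcl : c l ∈ Subgroup.centralizer (Y : Set G) := by
    rcases cov3 i j k hij hik hjk l with rfl | rfl | rfl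
    · exact absurd rfl hl
    · have := (Subgroup.mem_inf.1 (hcA 1 0)).2
      simpa using this
    · have := (Subgroup.mem_inf.1 (hcA 0 1)).2
      simpa using this
  exact Subgroup.mem_centralizer_iff.1 hcl y hy

theorem false (P : Pair Z Q U e Y Q' U' e') [Finite G] : False := by
  have hex : ∀ {Z Q : Subgroup G} {U : Fin 3 → Subgroup G} {e : Fin 3 → G},
      Frame Z Q U e → ∃ z ∈ Z, z ≠ 1 := by
    intro Z Q U e F
    by_contra hcon
    push Not at hcon
    have : Z = ⊥ := by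
      rw [eq_bot_iff]; intro y hy; rw [Subgroup.mem_bot]; exact hcon y hy
    have h3 := F.cardZ
    rw [this] at h3
    simp at h3
  obtain ⟨z, hz, hz1⟩ := hex P.F
  obtain ⟨y, hy, hy1⟩ := hex P.F'
  have hsz := P.no_cyc hz hz1
  have hsy := P.symm.no_cyc hy hy1
  obtain ⟨r, c, H⟩ := P.F.exists_full (P.symm.ZC hy) (P.F'.exp y (P.F'.ZleQ hy)) hsy
    (P.not_triv hy hy1 hsy)
  obtain ⟨r', c', H'⟩ := P.F'.exists_full (P.ZC hz) (P.F.exp z (P.F.ZleQ hz)) hsz
    (P.symm.not_triv hz hz1 hsz)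
  have hD := P.bot hz hz1 hy hy1 H H'
  obtain ⟨i, hi⟩ := P.exists_i hz hz1 hy hy1 hD H
  obtain ⟨i', hi'⟩ := P.symm.exists_i hy hy1 hz hz1 (by rw [inf_comm]; exact hD) H'
  obtain ⟨q, hqQ, hq⟩ := H.exists_conj P.F (fun l => l ≠ i) hi
  have P1 := P.conjE hqQ
  set f : Fin 3 → G := fun l => q * e l * q⁻¹ with hf
  obtain ⟨j, k, hij, hik, hjk⟩ := exists_jk i
  obtain ⟨j', k', hij', hik', hjk'⟩ := exists_jk i'
  -- the action of `f l` on the blocks of `Q'`
  have key : ∀ l, l ≠ i → f l ∈ P.F'.N0 ∧ (∀ l', l' ≠ i' → Triv Y (U' l') (f l)) ∧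
      ∀ x ∈ U' i', f l * x * (f l)⁻¹ * x ∈ Y := by
    intro l hl
    have hfY : f l ∈ Subgroup.centralizer (Y : Set G) := by
      rw [← cent_eq P.F' hy hy1, Subgroup.mem_centralizer_iff]
      intro y' hy'
      rw [Set.mem_singleton_iff.1 hy']
      exact hq l hl
    have ht2 : f l * f l = 1 := P1.F.e2 l
    have hzt : z * f l = f l * z := Subgroup.mem_centralizer_iff.1 (P1.F.eC l) z hz
    have hcom : ∀ a ∈ Q' ⊓ Subgroup.centralizer (Z : Set G), f l * a = a * f l := by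
      intro a ha
      have h1 := (P1.symm.X (i := l) hfY ha).2
      rw [inf_comm, hD, Subgroup.mem_bot] at h1
      calc f l * a = (f l * a * (f l)⁻¹ * a⁻¹) * (a * f l) := by group
        _ = a * f l := by
            have h2 : f l * a * (f l)⁻¹ * a⁻¹ = 1 := h1
            rw [h2, one_mul]
    have hT : ∀ l', l' ≠ i' → P.F'.sg (f l) l' = l' ∧ Triv Y (U' l') (f l) := by
      intro l' hl'
      have hcA : c' l' ∈ Q' ⊓ Subgroup.centralizer (Z : Set G) :=
        P.symm.memA hz hz1 (P.F'.UleQ l' (H'.H l').cU) (hi' l' hl')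
      exact triv_of_fix P.F' H' hfY ht2 hzt (hcom _ hcA)
    have hsgi : P.F'.sg (f l) i' = i' := by
      have h1 := (hT j' hij'.symm).1
      have h2 := (hT k' hik'.symm).1
      rcases cov3 i' j' k' hij' hik' hjk' (P.F'.sg (f l) i') with h | h | h
      · exact h
      · exfalso
        have : P.F'.sg (f l) i' = P.F'.sg (f l) j' := by rw [h, h1]
        exact hij' ((P.F'.sg (f l)).injective this)
      · exfalso
        have : P.F'.sg (f l) i' = P.F'.sg (f l) k' := by rw [h, h2]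
        exact hik' ((P.F'.sg (f l)).injective this)
    have hsg : P.F'.sg (f l) = 1 := by
      ext1 l'
      by_cases h : l' = i'
      · subst h; exact hsgi
      · exact (hT l' h).1
    have hnt : ¬ Triv Y (U' i') z := P.symm.not_triv hz hz1 hsz i'
    refine ⟨⟨hfY, hsg⟩, fun l' hl' => (hT l' hl').2, ?_⟩
    rcases (P.F'.blk i').comm2 (H'.act i') H'.y3 hnt (P.F'.act_of_sg hfY hsgi) ht2 hzt with h | h
    · exfalso
      have hQ' : f l ∈ Q' := P.F'.mem_Q hfY (by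
        intro l'
        by_cases h' : l' = i'
        · subst h'; exact h
        · exact (hT l' h').2)
      exact P1.F.e_ne_one l (sq_one_of (P.F'.exp _ hQ') ht2)
    · exact h
  obtain ⟨hNj, hTj, hIj⟩ := key j hij.symm
  obtain ⟨hNk, hTk, hIk⟩ := key k hik.symm
  have hgQ : f j * f k ∈ Q' := by
    apply P.F'.mem_Q (mul_mem hNj.1 hNk.1)
    intro l'
    by_cases h' : l' = i'
    · subst h'
      intro x hx
      have h1 := hIk x hx
      have hact := (P.F'.N0_act hNk l').nor x hx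
      have h2 := hIj _ hact
      set x' := f k * x * (f k)⁻¹ with hx'
      have h3 : f j * f k * x * (f j * f k)⁻¹ * x⁻¹ = (f j * x' * (f j)⁻¹ * x') * (x * x')⁻¹ := by
        rw [hx']; group
      have h4 : x * x' ∈ Y := by
        have h5 : x * x' = x * (x' * x) * x⁻¹ := by group
        rw [h5, ← P.F'.zc h1 (P.F'.UleQ _ hx), mul_inv_cancel_right]
        exact h1
      rw [h3]; exact mul_mem h2 (inv_mem h4)
    · exact (hTj l' h').mul (hTk l' h') (P.F'.N0_act hNk l')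
  have hfe : f j * f k = f k * f j := P1.F.ee j k
  have h1 : (f j * f k) * (f j * f k) = 1 := by
    calc (f j * f k) * (f j * f k) = f j * (f k * f j) * f k := by group
      _ = (f j * f j) * (f k * f k) := by rw [← hfe]; group
      _ = 1 := by
          have a1 : f j * f j = 1 := P1.F.e2 j
          have a2 : f k * f k = 1 := P1.F.e2 k
          rw [a1, a2, one_mul]
  have h2 : f j * f k = 1 := sq_one_of (P.F'.exp _ hgQ) h1
  have h3 : f j = f k := by
    have a2 : (f k)⁻¹ = f k := P1.F.e_inv k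
    rw [← a2]; exact eq_inv_of_mul_eq_one_left h2
  obtain ⟨x, hx, hxZ⟩ := P.F.exists_notZ j
  apply hxZ
  have h4 : f j * x * (f j)⁻¹ * x ∈ Z := P1.F.einv j x hx
  have h5 : f k * x * (f k)⁻¹ = x := P1.F.eU k j hjk x hx
  rw [h3, h5] at h4
  exact P.F.sq_mem (P.F.UleQ j hx) h4

end Pair

/-- **Theorem A.** If some conjugate of `Z` other than `Z` centralizes `Z`, then some conjugate
of `Z` other than `Z` lies in `Q`. -/
theorem main [Finite G] {Z Q : Subgroup G} {U : Fin 3 → Subgroup G} {e : Fin 3 → G}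
    (F : Frame Z Q U e) (g : G)
    (h1 : ∀ x ∈ Z, g * x * g⁻¹ ∈ Subgroup.centralizer (Z : Set G))
    (h2 : ¬ ∀ x ∈ Z, g * x * g⁻¹ ∈ Z) :
    ∃ g : G, (∀ x ∈ Z, g * x * g⁻¹ ∈ Q) ∧ ¬ ∀ x ∈ Z, g * x * g⁻¹ ∈ Z := by
  by_contra hcon
  push Not at hcon
  have hwc : ∀ g : G, (∀ z ∈ Z, g * z * g⁻¹ ∈ Q) → ∀ z ∈ Z, g * z * g⁻¹ ∈ Z := by
    intro g hg z hz
    exact hcon g hg z hz
  have hmem : ∀ (K : Subgroup G) (x : G), x ∈ K.map (MulAut.conj g).toMonoidHom ↔
      g⁻¹ * x * g ∈ K := by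
    intro K x
    rw [Subgroup.mem_map_equiv, MulAut.conj_symm_apply]
  -- prime order: a subgroup of order 3 is contained in another or meets it trivially
  have hprime : ∀ {K L : Subgroup G}, Nat.card K = 3 → ¬ K ≤ L → K ⊓ L = ⊥ := by
    intro K L hK hKL
    by_contra hne
    obtain ⟨⟨x, hx⟩, hx1⟩ := Subgroup.ne_bot_iff_exists_ne_one.1 hne
    obtain ⟨hxK, hxL⟩ := Subgroup.mem_inf.1 hx
    apply hKL
    intro k hk
    haveI : Fact (Nat.Prime 3) := ⟨by norm_num⟩
    have g1 : (⟨x, hxK⟩ : K) ≠ 1 := fun h =>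
      hx1 (Subtype.ext (show x = 1 from congrArg Subtype.val h))
    obtain ⟨n, hn⟩ := Subgroup.mem_zpowers_iff.1
      (mem_zpowers_of_prime_card (G := K) (p := 3) hK (g := ⟨x, hxK⟩) (g' := ⟨k, hk⟩) g1)
    have hn' : x ^ n = k := congrArg Subtype.val hn
    rw [← hn']; exact zpow_mem hxL n
  have F' := F.map (MulAut.conj g)
  have hYZ : ∀ z ∈ Z, ∀ y ∈ Z.map (MulAut.conj g).toMonoidHom, z * y = y * z := by
    intro z hz y hy
    have h3 := h1 _ ((hmem Z y).1 hy)
    have h4 : g * (g⁻¹ * y * g) * g⁻¹ = y := by group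
    rw [h4] at h3
    exact Subgroup.mem_centralizer_iff.1 h3 z hz
  have hYQ : ¬ Z.map (MulAut.conj g).toMonoidHom ≤ Q := by
    intro h
    apply h2
    apply hwc g
    intro z hz
    apply h
    rw [hmem]
    have h4 : g⁻¹ * (g * z * g⁻¹) * g = z := by group
    rw [h4]; exact hz
  have hZQ : ¬ Z ≤ Q.map (MulAut.conj g).toMonoidHom := by
    intro h
    -- `g⁻¹ Z g ≤ Q`, hence `g⁻¹ Z g ≤ Z`
    have h3 : ∀ z ∈ Z, g⁻¹ * z * g⁻¹⁻¹ ∈ Z := by
      apply hwc g⁻¹
      intro z hz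
      have := (hmem Q z).1 (h hz)
      simpa using this
    -- then `g Z g⁻¹ ≤ Z`
    apply h2
    intro z hz
    have hfin : Finite Z := Nat.finite_of_card_ne_zero (by rw [F.cardZ]; norm_num)
    have hinj : Function.Injective (fun z : Z => (⟨g⁻¹ * z * g⁻¹⁻¹, h3 z z.2⟩ : Z)) := by
      intro a b hab
      have := congrArg Subtype.val hab
      simp only at this
      apply Subtype.ext
      simpa only [_root_.SetLike.coe_eq_coe, _root_.inv_inv, _root_.mul_left_inj, _root_.mul_right_inj] using this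
    obtain ⟨w, hw⟩ := (Finite.injective_iff_surjective.1 hinj) ⟨z, hz⟩
    have h5 : g⁻¹ * w * g⁻¹⁻¹ = z := congrArg Subtype.val hw
    have h6 : g * z * g⁻¹ = w := by rw [← h5]; group
    rw [h6]; exact w.2
  refine Pair.false (Z := Z) (Q := Q) (U := U) (e := e)
    (Y := Z.map (MulAut.conj g).toMonoidHom) (Q' := Q.map (MulAut.conj g).toMonoidHom)
    (U' := fun i => (U i).map (MulAut.conj g).toMonoidHom)
    (e' := fun i => (MulAut.conj g) (e i))
    { F := F
      F' := F'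
      comm := hYZ
      YQ := hprime F'.cardZ hYQ
      ZQ' := hprime F.cardZ hZQ
      wc := hwc
      wc' := ?_ }
  intro k hk y hy
  rw [hmem]
  have h3 := hwc (g⁻¹ * k * g) (by
    intro z hz
    have h4 := (hmem Q _).1 (hk (g * z * g⁻¹) ((hmem Z _).2 (by
      have h5 : g⁻¹ * (g * z * g⁻¹) * g = z := by group
      rw [h5]; exact hz)))
    have h6 : g⁻¹ * (k * (g * z * g⁻¹) * k⁻¹) * g = (g⁻¹ * k * g) * z * (g⁻¹ * k * g)⁻¹ := by group
    rw [h6] at h4; exact h4) _ ((hmem Z y).1 hy)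
  have h7 : g⁻¹ * (k * y * k⁻¹) * g = (g⁻¹ * k * g) * (g⁻¹ * y * g) * (g⁻¹ * k * g)⁻¹ := by group
  rw [h7]; exact h3

end Cfsg.Agent.H341.Weak
end

-- part: H349/T3/Wc
section
/-!
# Weak closure and the setup (helper349)
-/

set_option autoImplicit false

namespace Cfsg.Agent.H349.T3

open Cfsg Cfsg.Agent.H341.Weak Cfsg.Agent.H261 Subgroup

universe u

theorem mem_map_conj {G : Type*} [Group G] {Z P : Subgroup G} {g : G} :
    Z.map (MulAut.conj g).toMonoidHom ≤ P ↔ ∀ x ∈ Z, g * x * g⁻¹ ∈ P := by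
  constructor
  · intro h x hx
    exact h ⟨x, hx, rfl⟩
  · rintro h _ ⟨x, hx, rfl⟩
    exact h x hx

theorem map_conj_eq {G : Type*} [Group G] [Finite G] {Z : Subgroup G} {g : G} :
    Z.map (MulAut.conj g).toMonoidHom = Z ↔ ∀ x ∈ Z, g * x * g⁻¹ ∈ Z := by
  rw [← mem_map_conj]
  constructor
  · intro h
    exact h.le
  · intro h
    refine Subgroup.eq_of_le_of_card_ge h ?_
    rw [Subgroup.card_map_of_injective (MulAut.conj g).injective]

/-- if `Z` is not weakly closed in a Sylow subgroup containing it, then a conjugate different from `Z` centralizes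
`Z` -/
theorem exists_conj {G : Type u} [Group G] [Finite G] {Z Q : Subgroup G} {U : Fin 3 → Subgroup G}
    {e : Fin 3 → G} (F : Frame Z Q U e) (L : ∀ T : Subgroup G, IsPGroup 3 ↥T → Q ≤ T → T ≤ centralizer (Z : Set G))
    (S : Sylow 3 G) (hZS : Z ≤ S) (hnwc : ¬ Cfsg.IsWeaklyClosed Z S) :
    ∃ g : G, (∀ x ∈ Z, g * x * g⁻¹ ∈ centralizer (Z : Set G)) ∧ ¬ ∀ x ∈ Z, g * x * g⁻¹ ∈ Z := by
  have hp3 : Fact (Nat.Prime 3) := ⟨Nat.prime_three⟩
  by_contra hcon
  push Not at hcon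
  apply hnwc
  refine ⟨hZS, fun g hg => ?_⟩
  rw [map_conj_eq]
  have hQp : IsPGroup 3 ↥Q := IsPGroup.of_card F.cardQ
  obtain ⟨T, hT⟩ := hQp.exists_le_sylow
  have hTC := L T T.isPGroup' hT
  obtain ⟨x, hx⟩ := MulAction.exists_smul_eq G T S
  -- `S ≤ C(Z)`
  have hS : ∀ s ∈ (S : Subgroup G), ∀ z ∈ Z, s * (x * z * x⁻¹) = (x * z * x⁻¹) * s := by
    intro s hs z hz
    rw [← hx] at hs
    obtain ⟨t, ht, hts⟩ := (Subgroup.mem_smul_pointwise_iff_exists s (MulAut.conj x) (T : Subgroup G)).1 hs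
    have h3 : s = x * t * x⁻¹ := hts.symm
    have h4 := mem_centralizer_iff.1 (hTC ht) z hz
    rw [h3]
    calc x * t * x⁻¹ * (x * z * x⁻¹) = x * (t * z) * x⁻¹ := by group
      _ = x * (z * t) * x⁻¹ := by rw [h4]
      _ = _ := by group
  have h1 : ∀ z ∈ Z, x * z * x⁻¹ ∈ Z := by
    refine hcon x fun z hz => mem_centralizer_iff.2 fun w hw => hS w (hZS hw) z hz
  have h2 := map_conj_eq.2 h1
  have hSC : (S : Subgroup G) ≤ centralizer (Z : Set G) := by
    intro s hs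
    refine mem_centralizer_iff.2 fun w hw => ?_
    have h3 : w ∈ Z.map (MulAut.conj x).toMonoidHom := by rw [h2]; exact hw
    obtain ⟨z, hz, hzw⟩ := h3
    have h4 : w = x * z * x⁻¹ := hzw.symm
    rw [h4]
    exact (hS s hs z hz).symm
  exact hcon g fun z hz => hSC (mem_map_conj.1 hg z hz)

/-- the conclusion on weak closure -/
theorem not_weaklyClosed {G : Type u} [Group G] [Finite G] {Z Q P : Subgroup G} (hQP : Q ≤ P)
    (h : ∃ g : G, (∀ x ∈ Z, g * x * g⁻¹ ∈ Q) ∧ ¬ ∀ x ∈ Z, g * x * g⁻¹ ∈ Z) : ¬ Cfsg.IsWeaklyClosed Z P := by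
  rintro ⟨-, h2⟩
  obtain ⟨g, hg, hgZ⟩ := h
  exact hgZ (map_conj_eq.1 (h2 g (mem_map_conj.2 fun x hx => hQP (hg x hx))))

/-- a 3-subgroup containing `Q` centralizes `Z` -/
theorem le_cent_of_frame {G : Type u} [Group G] [Finite G] {Z Q : Subgroup G} {U : Fin 3 → Subgroup G}
    {e : Fin 3 → G} (F : Frame Z Q U e) (T : Subgroup G) (hT : IsPGroup 3 ↥T) (hQT : Q ≤ T) :
    T ≤ centralizer (Z : Set G) := by
  have hp3 : Fact (Nat.Prime 3) := ⟨Nat.prime_three⟩
  have hne : T ≠ ⊥ := by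
    rintro rfl
    obtain ⟨z, hz, hz1, -⟩ := FrameL.exists_gen F
    exact hz1 (Subgroup.mem_bot.1 (hQT (FrameL.ZleQ F hz)))
  obtain ⟨w, hw, hw1, hc⟩ := Cfsg.Agent.Characters.CNBasic.exists_mem_center_of_normal T hT T hT hne
    (fun t ht d hd => T.mul_mem (T.mul_mem ht hd) (T.inv_mem ht))
  have hwQ : w ∈ Q := F.CQ (mem_centralizer_iff.2 fun q hq => hc q (hQT hq))
  have hwZ : w ∈ Z := F.cenZ w hwQ fun y hy => (hc y (hQT hy)).symm
  intro t ht
  have h1 : Z ≤ zpowers w := eq_of_mem_of_card_prime Nat.prime_three F.cardZ hwZ hw1 (mem_zpowers w)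
  refine mem_centralizer_iff.2 fun y hy => ?_
  obtain ⟨n, rfl⟩ := Subgroup.mem_zpowers_iff.1 (h1 hy)
  have h2 : Commute w t := (hc t ht).symm
  exact (h2.zpow_left n).eq

end Cfsg.Agent.H349.T3
end

private theorem dce_0819774ace70 : _root_.True := by
  try have : _root_.True := by simp only [_root_.Cfsg.Agent.H341.Weak.Frame.KK.congr_simp]
  try have : _root_.True := by simp only [_root_.Cfsg.Agent.H341.Weak.Nm.eq_1]
  try have : _root_.True := by simp only [_root_.Cfsg.Agent.H341.Weak.Frame.Ab.congr_simp]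
  try have : _root_.True := by simp only [_root_.Cfsg.Agent.H341.Weak.Frame.N0.congr_simp]
  exact _root_.True.intro
end

-- part: H349/T3/CandOf2
section
prune_inst 0x31000920404200000000058011002040400001900023000151000200020c83200000270030003204020822000008000000000040001000000000000040000120100a00020000000000000000b084000000000000000000000000000000000004000000000
set_option linter.all false
open scoped Cfsg.Agent.FastGrp

-- part: H349/T3/QleE
section
/-!
# Local analysis in a frame, part 2: `Q ≤ E` (helper349)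
-/

set_option autoImplicit false

namespace Cfsg.Agent.H349.T3

open Cfsg Cfsg.Agent.H341.Weak Cfsg.Agent.H261 Subgroup

universe u

namespace Setup

variable {G : Type u} [Group G] {Z Q : Subgroup G} {U : Fin 3 → Subgroup G} {e : Fin 3 → G} (S : Setup Z Q U e)
include S

theorem sup_conj {A : Subgroup G} (hn : centralizer (Z : Set G) ≤ normalizer (A : Set G)) {c : G}
    (hc : c ∈ centralizer (Z : Set G)) {y : G} (hy : y ∈ A ⊔ Z) : c * y * c⁻¹ ∈ A ⊔ Z := by
  have h1 : (A ⊔ Z).map (MulAut.conj c).toMonoidHom ≤ A ⊔ Z := by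
    rw [Subgroup.map_sup]
    refine sup_le_sup ?_ ?_
    · rintro _ ⟨x, hx, rfl⟩
      exact (mem_normalizer_iff.1 (hn hc) x).1 hx
    · rintro _ ⟨x, hx, rfl⟩
      change c * x * c⁻¹ ∈ Z
      rw [← FrameL.zc S.toFrame hx hc, mul_inv_cancel_right]
      exact hx
  exact h1 ⟨y, hy, rfl⟩

theorem loc : Loc 3 Z Q := by
  have F := S.toFrame
  refine ⟨F.cardZ, FrameL.ZleQ F, F.QleC, IsPGroup.of_card F.cardQ, ?_, F.CQ, ?_⟩
  · exact le_normalizer_of_conj fun c hc y hy => F.conjQ c hc y hy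
  · intro A hAC hAn hab
    have hAQ := S.fs A hAC hAn hab
    have hcomm : ∀ x ∈ A ⊔ Z, ∀ y ∈ A ⊔ Z, x * y = y * x := by
      have h0 : A ≤ centralizer (A : Set G) := fun a ha => mem_centralizer_iff.2 fun b hb => hab b hb a ha
      have hZA : Z ≤ centralizer (A : Set G) := by
        intro z hz
        exact mem_centralizer_iff.2 fun a ha => (FrameL.zc F hz (hAC ha)).symm
      have hZZ : Z ≤ centralizer (Z : Set G) := (FrameL.ZleQ F).trans F.QleC
      have h1 : A ⊔ Z ≤ centralizer ((A ⊔ Z : Subgroup G) : Set G) := by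
        refine sup_le ?_ ?_
        · rw [Subgroup.le_centralizer_iff]
          exact sup_le h0 hZA
        · rw [Subgroup.le_centralizer_iff]
          exact sup_le hAC hZZ
      intro x hx y hy
      exact mem_centralizer_iff.1 (h1 hy) x hx
    intro x hx
    by_contra hxZ
    have hinv := fun (c : G) (hc : c ∈ centralizer (Z : Set G)) (y : G) (hy : y ∈ A ⊔ Z) => S.sup_conj hAn hc hy
    obtain ⟨a, ha, b, hb, c, hc, rfl⟩ := FrameL.dec F (hAQ hx)
    obtain ⟨h0, h1, h2⟩ := FrameL.split_mem F (A := A ⊔ Z) le_sup_right (fun i x hx => hinv _ (F.eC i) x hx) ha hb hc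
      (le_sup_left (a := A) hx)
    have key : ∀ i, ∀ v ∈ U i, v ∈ A ⊔ Z → v ∈ Z := by
      intro i v hv hvA
      by_contra hvZ
      have h3 := S.irr i (A ⊔ Z) le_sup_right hinv ⟨v, hvA, hv, hvZ⟩
      obtain ⟨p, hp, q, hq, hpq⟩ := FrameL.exists_noncomm F i
      exact hpq (hcomm p (h3 hp) q (h3 hq))
    exact hxZ (Z.mul_mem (Z.mul_mem (key 0 a ha h0) (key 1 b hb h1)) (key 2 c hc h2))

section

variable {E : Subgroup G} [hEn : E.Normal] (hZE : Z ≤ E)
include hZE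

/-- each block is contained in `E` or meets it in `Z` -/
theorem alt (i : Fin 3) : U i ≤ E ∨ ∀ x ∈ U i, x ∈ E → x ∈ Z := by
  by_cases h : ∃ x ∈ E ⊓ Q, x ∈ U i ∧ x ∉ Z
  · left
    refine (S.irr i (E ⊓ Q) (le_inf hZE (FrameL.ZleQ S.toFrame)) ?_ h).trans inf_le_left
    intro c hc y hy
    exact ⟨hEn.conj_mem y hy.1 c, S.conjQ c hc y hy.2⟩
  · right
    intro x hx hxE
    by_contra hxZ
    exact h ⟨x, ⟨hxE, S.UleQ i hx⟩, hx, hxZ⟩

omit hZE hEn in
/-- component in a centralized block -/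
theorem comp_central {i : Fin 3} {a y : G} (ha : a ∈ U i) (hy : ∀ u ∈ U i, y * u = u * y)
    (h : ∀ u ∈ U i, (a * y) * u = u * (a * y)) : a ∈ Z := by
  refine FrameL.cenU S.toFrame ha fun u hu => ?_
  have h1 := h u hu
  have h2 : (a * u) * y = (u * a) * y := by
    calc (a * u) * y = a * (u * y) := by group
      _ = a * (y * u) := by rw [hy u hu]
      _ = (a * y) * u := by group
      _ = u * (a * y) := h1
      _ = (u * a) * y := by group
  exact mul_right_cancel h2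

omit hZE hEn in
/-- elements of `Q` centralizing `U j` and `U k` lie in `U i` -/
theorem mem_block {i j k : Fin 3} (hij : j ≠ i) (hik : k ≠ i) (hjk : j ≠ k) {x : G} (hx : x ∈ Q)
    (hj : ∀ u ∈ U j, x * u = u * x) (hk : ∀ u ∈ U k, x * u = u * x) : x ∈ U i := by
  have F := S.toFrame
  have h0 : ∀ i j k : Fin 3, j ≠ i → k ≠ i → j ≠ k → ∀ a ∈ U i, ∀ b ∈ U j, ∀ c ∈ U k,
      (∀ u ∈ U j, a * b * c * u = u * (a * b * c)) → (∀ u ∈ U k, a * b * c * u = u * (a * b * c)) →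
      a * b * c ∈ U i := by
    intro i j k hij hik hjk a ha b hb c hc h1 h2
    have hab := F.comm i j hij.symm a ha b hb
    have hac := F.comm i k hik.symm a ha c hc
    have hbc := F.comm j k hjk b hb c hc
    have hbZ : b ∈ Z := by
      refine S.comp_central (i := j) hb (y := a * c) ?_ ?_
      · intro u hu
        have e1 : Commute a u := F.comm i j hij.symm a ha u hu
        have e2 : Commute c u := F.comm k j hjk.symm c hc u hu
        exact (e1.mul_left e2).eq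
      · intro u hu
        have e3 : b * (a * c) = a * b * c := by rw [← mul_assoc, ← hab]
        rw [e3]
        exact h1 u hu
    have hcZ : c ∈ Z := by
      refine S.comp_central (i := k) hc (y := a * b) ?_ ?_
      · intro u hu
        have e1 : Commute a u := F.comm i k hik.symm a ha u hu
        have e2 : Commute b u := F.comm j k hjk b hb u hu
        exact (e1.mul_left e2).eq
      · intro u hu
        have e3 : c * (a * b) = a * b * c := by
          calc c * (a * b) = (c * a) * b := by group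
            _ = (a * c) * b := by rw [hac]
            _ = a * (c * b) := by group
            _ = a * (b * c) := by rw [hbc]
            _ = _ := by group
        rw [e3]
        exact h2 u hu
    exact (U i).mul_mem ((U i).mul_mem ha (F.ZleU i hbZ)) (F.ZleU i hcZ)
  obtain ⟨a, ha, b, hb, c, hc, rfl⟩ := FrameL.dec F hx
  have hab := F.comm 0 1 (by decide) a ha b hb
  have hac := F.comm 0 2 (by decide) a ha c hc
  have hbc := F.comm 1 2 (by decide) b hb c hc
  have e1 : a * b * c = a * c * b := by rw [mul_assoc, hbc, ← mul_assoc]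
  have e2 : a * b * c = b * a * c := by rw [hab]
  have e3 : a * b * c = b * c * a := by rw [hab, mul_assoc, hac, ← mul_assoc]
  have e4 : a * b * c = c * a * b := by rw [e1, hac]
  have e5 : a * b * c = c * b * a := by rw [e3, hbc]
  have hcase : ∀ i j k : Fin 3, j ≠ i → k ≠ i → j ≠ k →
      (i = 0 ∧ j = 1 ∧ k = 2) ∨ (i = 0 ∧ j = 2 ∧ k = 1) ∨ (i = 1 ∧ j = 0 ∧ k = 2) ∨ (i = 1 ∧ j = 2 ∧ k = 0) ∨
      (i = 2 ∧ j = 0 ∧ k = 1) ∨ (i = 2 ∧ j = 1 ∧ k = 0) := by
    intro i j k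
    (revert i j k; simp only [_root_.Fin.forall_fin_succ, _root_.ne_eq, Fin.isValue, Fin.reduceEq, _root_.and_false, _root_.zero_ne_one, _root_.and_true, _root_.false_or, _root_.Fin.succ_ne_zero, _root_.or_false, _root_.Fin.succ_zero_eq_one, _root_.Fin.succ_one_eq_two, _root_.IsEmpty.forall_iff, _root_.not_true_eq_false, _root_.or_self, _root_.imp_self, _root_.implies_true, _root_.not_false_eq_true, _root_.forall_const, _root_.true_and, _root_.one_ne_zero, _root_.imp_false, _root_.and_self, _root_.Decidable.not_not])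
  rcases hcase i j k hij hik hjk with ⟨rfl, rfl, rfl⟩ | ⟨rfl, rfl, rfl⟩ | ⟨rfl, rfl, rfl⟩ | ⟨rfl, rfl, rfl⟩ |
    ⟨rfl, rfl, rfl⟩ | ⟨rfl, rfl, rfl⟩
  · exact h0 0 1 2 (by decide) (by decide) (by decide) a ha b hb c hc hj hk
  · rw [e1] at hj hk ⊢
    exact h0 0 2 1 (by decide) (by decide) (by decide) a ha c hc b hb hj hk
  · rw [e2] at hj hk ⊢
    exact h0 1 0 2 (by decide) (by decide) (by decide) b hb a ha c hc hj hk
  · rw [e3] at hj hk ⊢
    exact h0 1 2 0 (by decide) (by decide) (by decide) b hb c hc a ha hj hk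
  · rw [e4] at hj hk ⊢
    exact h0 2 0 1 (by decide) (by decide) (by decide) c hc a ha b hb hj hk
  · rw [e5] at hj hk ⊢
    exact h0 2 1 0 (by decide) (by decide) (by decide) c hc b hb a ha hj hk

/-- an element of `C_E(Z)` centralizes the blocks not contained in `E`, and the involution. -/
theorem central [Finite G] {i : Fin 3} (hi : ¬ U i ≤ E) {d : G} (hdE : d ∈ E) (hdC : d ∈ centralizer (Z : Set G)) :
    e i * d = d * e i ∧ ∀ u ∈ U i, d * u = u * d := by
  have F := S.toFrame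
  have hiZ : ∀ x ∈ U i, x ∈ E → x ∈ Z := (S.alt hZE i).resolve_left hi
  have hinvE : ∀ x ∈ E ⊓ Q, e i * x * (e i)⁻¹ ∈ E ⊓ Q := fun x hx =>
    ⟨hEn.conj_mem x hx.1 _, F.conjQ _ (F.eC i) x hx.2⟩
  obtain ⟨s, hs⟩ := FrameL.perm_iff F hdC
  have hcom : ∀ u ∈ Q, d * u * d⁻¹ * u⁻¹ ∈ E ⊓ Q := by
    intro u hu
    refine ⟨?_, Q.mul_mem (F.conjQ d hdC u hu) (Q.inv_mem hu)⟩
    have h1 : d * u * d⁻¹ * u⁻¹ = d * (u * d⁻¹ * u⁻¹) := by group
    rw [h1]
    exact E.mul_mem hdE (hEn.conj_mem _ (E.inv_mem hdE) u)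
  -- `s i = i`
  have hsi : s i = i := by
    by_contra hne
    obtain ⟨u, hu, huZ⟩ := FrameL.exists_not_mem F i
    have h1 : d * u * d⁻¹ ∈ U (s i) := (hs i u).1 hu
    have h2 := hcom u (F.UleQ i hu)
    have h3 : d * u * d⁻¹ * u⁻¹ = u⁻¹ * (d * u * d⁻¹) := F.comm (s i) i hne _ h1 _ ((U i).inv_mem hu)
    rw [h3] at h2
    have h4 := FrameL.comp_mem F (le_inf hZE (FrameL.ZleQ F)) hinvE ((U i).inv_mem hu) (F.eU i (s i) hne _ h1) h2
    exact huZ (inv_mem_iff.1 (hiZ _ ((U i).inv_mem hu) h4.1))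
  have hZ : ∀ u ∈ U i, d * u * d⁻¹ * u⁻¹ ∈ Z := by
    intro u hu
    have h1 : d * u * d⁻¹ ∈ U i := by
      have := (hs i u).1 hu
      rwa [hsi] at this
    exact hiZ _ ((U i).mul_mem h1 ((U i).inv_mem hu)) (hcom u (F.UleQ i hu)).1
  -- the commutator with `e i`
  obtain ⟨x, hx⟩ : ∃ x, x = e i * d * (e i)⁻¹ * d⁻¹ := ⟨_, rfl⟩
  have hee : (e i)⁻¹ = e i := inv_eq_of_mul_eq_one_left (F.e2 i)
  have hxE : x ∈ E := by
    rw [hx]
    exact E.mul_mem (hEn.conj_mem d hdE _) (E.inv_mem hdE)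
  have hxC : x ∈ centralizer (Z : Set G) := by
    rw [hx]
    exact mul_mem (mul_mem (mul_mem (F.eC i) hdC) (inv_mem (F.eC i))) (inv_mem hdC)
  have hxconj : ∀ u, x * u * x⁻¹ = e i * (d * ((e i)⁻¹ * (d⁻¹ * u * d) * e i) * d⁻¹) * (e i)⁻¹ := by
    intro u
    rw [hx]
    group
  have hxj : ∀ j, j ≠ i → ∀ u ∈ U j, x * u * x⁻¹ = u := by
    intro j hji u hu
    have h1 : d⁻¹ * u * d ∈ U (s.symm j) := by
      rw [hs, Equiv.apply_symm_apply]
      have h2 : d * (d⁻¹ * u * d) * d⁻¹ = u := by group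
      rw [h2]
      exact hu
    have h2 : s.symm j ≠ i := by
      intro h3
      apply hji
      rw [← hsi, ← h3, Equiv.apply_symm_apply]
    have h3 : (e i)⁻¹ * (d⁻¹ * u * d) * e i = d⁻¹ * u * d := by
      have := F.eU i _ h2 _ h1
      rw [hee] at this ⊢
      exact this
    rw [hxconj, h3]
    have h4 : d * (d⁻¹ * u * d) * d⁻¹ = u := by group
    rw [h4]
    exact F.eU i j hji u hu
  have hxi : ∀ u ∈ U i, x * u * x⁻¹ * u⁻¹ ∈ Z := by
    intro u hu
    -- work modulo `Z`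
    have hdinv : d⁻¹ * u * d * u⁻¹ ∈ Z := by
      have h1 : d⁻¹ * u * d ∈ U i := by
        rw [hs i, hsi]
        have h2 : d * (d⁻¹ * u * d) * d⁻¹ = u := by group
        rw [h2]
        exact hu
      have h2 := hZ _ h1
      have h3 : d * (d⁻¹ * u * d) * d⁻¹ * (d⁻¹ * u * d)⁻¹ = (d⁻¹ * u * d * u⁻¹)⁻¹ := by group
      rw [h3] at h2
      exact inv_mem_iff.1 h2
    obtain ⟨w, hw⟩ : ∃ w, w = d⁻¹ * u * d * u⁻¹ := ⟨_, rfl⟩
    rw [← hw] at hdinv
    have h1 : d⁻¹ * u * d = w * u := by rw [hw]; group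
    obtain ⟨v, hv⟩ : ∃ v, v = e i * u * (e i)⁻¹ * u := ⟨_, rfl⟩
    have hvZ : v ∈ Z := hv ▸ F.einv i u hu
    have h2 : (e i)⁻¹ * u * e i = v * u⁻¹ := by rw [hv, hee]; group
    have hwe : (e i)⁻¹ * w * e i = w := by
      rw [mul_assoc, FrameL.zc F hdinv (F.eC i), ← mul_assoc, inv_mul_cancel, one_mul]
    have h3 : (e i)⁻¹ * (d⁻¹ * u * d) * e i = w * (v * u⁻¹) := by
      rw [h1]
      calc (e i)⁻¹ * (w * u) * e i = ((e i)⁻¹ * w * e i) * ((e i)⁻¹ * u * e i) := by group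
        _ = w * (v * u⁻¹) := by rw [hwe, h2]
    obtain ⟨w', hw'⟩ : ∃ w', w' = d * u⁻¹ * d⁻¹ * u⁻¹⁻¹ := ⟨_, rfl⟩
    have hw'Z : w' ∈ Z := hw' ▸ hZ u⁻¹ ((U i).inv_mem hu)
    have h4 : d * u⁻¹ * d⁻¹ = w' * u⁻¹ := by rw [hw']; group
    have hd : ∀ y ∈ Z, d * y * d⁻¹ = y := by
      intro y hy
      rw [← FrameL.zc F hy hdC, mul_inv_cancel_right]
    have h5 : d * (w * (v * u⁻¹)) * d⁻¹ = w * v * w' * u⁻¹ := by
      calc d * (w * (v * u⁻¹)) * d⁻¹ = (d * w * d⁻¹) * (d * v * d⁻¹) * (d * u⁻¹ * d⁻¹) := by group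
        _ = w * v * w' * u⁻¹ := by rw [hd w hdinv, hd v hvZ, h4]; group
    have he : ∀ y ∈ Z, e i * y * (e i)⁻¹ = y := by
      intro y hy
      rw [← FrameL.zc F hy (F.eC i), mul_inv_cancel_right]
    have h6 : e i * u⁻¹ * (e i)⁻¹ = u * v⁻¹ := by
      have : e i * u * (e i)⁻¹ = v * u⁻¹ := by rw [hv]; group
      calc e i * u⁻¹ * (e i)⁻¹ = (e i * u * (e i)⁻¹)⁻¹ := by group
        _ = u * v⁻¹ := by rw [this]; group
    rw [hxconj, h3, h5]
    have h7 : e i * (w * v * w' * u⁻¹) * (e i)⁻¹ = w * v * w' * (u * v⁻¹) := by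
      calc e i * (w * v * w' * u⁻¹) * (e i)⁻¹ = (e i * (w * v * w') * (e i)⁻¹) * (e i * u⁻¹ * (e i)⁻¹) := by group
        _ = w * v * w' * (u * v⁻¹) := by rw [he _ (Z.mul_mem (Z.mul_mem hdinv hvZ) hw'Z), h6]
    rw [h7]
    have h8 : w * v * w' * (u * v⁻¹) * u⁻¹ = w * v * w' * v⁻¹ := by
      have h9 : u * v⁻¹ = v⁻¹ * u := (FrameL.zc F (Z.inv_mem hvZ) (FrameL.UleC F i hu)).symm
      rw [h9]
      group
    rw [h8]
    exact Z.mul_mem (Z.mul_mem (Z.mul_mem hdinv hvZ) hw'Z) (Z.inv_mem hvZ)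
  have hxQ : x ∈ Q := by
    refine FrameL.kernel F fun j u hu => ?_
    by_cases hji : j = i
    · subst hji; exact hxi u hu
    · rw [hxj j hji u hu, mul_inv_cancel]; exact Z.one_mem
  obtain ⟨j, k, hji, hki, hjk⟩ : ∃ j k : Fin 3, j ≠ i ∧ k ≠ i ∧ j ≠ k := by
    have h0 : ∀ i : Fin 3, ∃ j k : Fin 3, j ≠ i ∧ k ≠ i ∧ j ≠ k := by decide
    exact h0 i
  have hxUi : x ∈ U i := by
    refine S.mem_block hji hki hjk hxQ ?_ ?_
    · intro u hu
      exact mul_inv_eq_iff_eq_mul.1 (hxj j hji u hu)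
    · intro u hu
      exact mul_inv_eq_iff_eq_mul.1 (hxj k hki u hu)
  have hxZ : x ∈ Z := hiZ x hxUi hxE
  have h1 : e i * d = x * d * e i := by rw [hx]; group
  have hx1 : x = 1 := by
    refine FrameL.eq_one_of_sq F hxQ ?_
    have h2 : d = x * x * d := by
      calc d = (e i * e i) * d := by rw [F.e2 i, one_mul]
        _ = e i * (e i * d) := by group
        _ = e i * (x * d * e i) := by rw [h1]
        _ = (e i * x) * d * e i := by group
        _ = (x * e i) * d * e i := by rw [FrameL.zc F hxZ (F.eC i)]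
        _ = x * (e i * d) * e i := by group
        _ = x * (x * d * e i) * e i := by rw [h1]
        _ = x * x * d * (e i * e i) := by group
        _ = x * x * d := by rw [F.e2 i, mul_one]
    have h3 : 1 * d = x * x * d := by rw [one_mul]; exact h2
    exact (mul_right_cancel h3).symm
  have hed : e i * d = d * e i := by rw [h1, hx1, one_mul]
  refine ⟨hed, fun u hu => ?_⟩
  obtain ⟨w, hw⟩ : ∃ w, w = d * u * d⁻¹ * u⁻¹ := ⟨_, rfl⟩
  have hwZ : w ∈ Z := hw ▸ hZ u hu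
  have h2 : d * u * d⁻¹ = w * u := by rw [hw]; group
  obtain ⟨v, hv⟩ : ∃ v, v = e i * u * (e i)⁻¹ * u := ⟨_, rfl⟩
  have hvZ : v ∈ Z := hv ▸ F.einv i u hu
  have h3 : e i * u * (e i)⁻¹ = v * u⁻¹ := by rw [hv]; group
  have hd : ∀ y ∈ Z, d * y * d⁻¹ = y := by
    intro y hy
    rw [← FrameL.zc F hy hdC, mul_inv_cancel_right]
  -- conjugate by `e i`
  have h4 : d * (v * u⁻¹) * d⁻¹ = w * (v * u⁻¹) := by
    calc d * (v * u⁻¹) * d⁻¹ = d * (e i * u * (e i)⁻¹) * d⁻¹ := by rw [h3]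
      _ = (d * e i) * u * (d * e i)⁻¹ := by group
      _ = (e i * d) * u * (e i * d)⁻¹ := by rw [hed]
      _ = e i * (d * u * d⁻¹) * (e i)⁻¹ := by group
      _ = e i * (w * u) * (e i)⁻¹ := by rw [h2]
      _ = (e i * w) * u * (e i)⁻¹ := by group
      _ = (w * e i) * u * (e i)⁻¹ := by rw [FrameL.zc F hwZ (F.eC i)]
      _ = w * (e i * u * (e i)⁻¹) := by group
      _ = w * (v * u⁻¹) := by rw [h3]
  have h5 : d * (v * u⁻¹) * d⁻¹ = v * (u⁻¹ * w⁻¹) := by
    calc d * (v * u⁻¹) * d⁻¹ = (d * v * d⁻¹) * (d * u * d⁻¹)⁻¹ := by group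
      _ = v * (w * u)⁻¹ := by rw [hd v hvZ, h2]
      _ = _ := by group
  have h6 : w * w = 1 := by
    have h7 : w * (v * u⁻¹) = w⁻¹ * (v * u⁻¹) := by
      rw [← h4, h5]
      have h8 : w⁻¹ * (v * u⁻¹) = (v * u⁻¹) * w⁻¹ :=
        FrameL.zc F (Z.inv_mem hwZ) (mul_mem (FrameL.UleC F i (F.ZleU i hvZ)) (inv_mem (FrameL.UleC F i hu)))
      rw [h8]
      group
    have h8 := mul_right_cancel h7
    nth_rw 1 [h8]
    exact inv_mul_cancel w
  have hw1 : w = 1 := FrameL.eq_one_of_sq F (FrameL.ZleQ F hwZ) h6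
  rw [hw1, one_mul] at h2
  exact mul_inv_eq_iff_eq_mul.1 h2

end

end Setup

end Cfsg.Agent.H349.T3
end

-- part: H349/T3/QleE2
section
/-!
# Local analysis in a frame, part 3: `Q ≤ E` (helper349)
-/

set_option autoImplicit false

namespace Cfsg.Agent.H349.T3

open Cfsg Cfsg.Agent.H341.Weak Cfsg.Agent.H261 Subgroup

universe u

theorem perm_fix : ∀ (p : Equiv.Perm (Fin 3)) (i : Fin 3), p i = i → p ^ 3 = 1 → p = 1 := by decide +kernel

theorem perm_swap0 : ∀ (p : Equiv.Perm (Fin 3)) (i j k : Fin 3), (p i = i ∧ p ≠ 1 ∧ j ≠ i ∧ k ≠ i ∧ j ≠ k) →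
    p k = j := by decide +kernel

theorem perm_swap (p : Equiv.Perm (Fin 3)) (i j k : Fin 3) (h1 : p i = i) (h2 : p ≠ 1) (h3 : j ≠ i) (h4 : k ≠ i)
    (h5 : j ≠ k) : p j = k ∧ p k = j :=
  ⟨perm_swap0 p i k j ⟨h1, h2, h4, h3, h5.symm⟩, perm_swap0 p i j k ⟨h1, h2, h3, h4, h5⟩⟩

set_option maxRecDepth 100000 in
theorem sl23_sq : ∀ a : Matrix.SpecialLinearGroup (Fin 2) (ZMod 3), a * a = 1 → a = 1 ∨ a = -1 := by
  decide +kernel

theorem neg_one_comm {a : Matrix.SpecialLinearGroup (Fin 2) (ZMod 3)} (h : a = 1 ∨ a = -1)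
    (b : Matrix.SpecialLinearGroup (Fin 2) (ZMod 3)) : a * b * a⁻¹ = b := by
  have h1 : a * b = b * a := by
    rcases h with rfl | rfl
    · rw [one_mul, mul_one]
    · apply Subtype.ext
      change (-1 : Matrix (Fin 2) (Fin 2) (ZMod 3)) * b.1 = b.1 * (-1)
      rw [neg_mul, one_mul, mul_neg, mul_one]
  rw [h1, mul_inv_cancel_right]

namespace Setup

variable {G : Type u} [Group G] {Z Q : Subgroup G} {U : Fin 3 → Subgroup G} {e : Fin 3 → G} (S : Setup Z Q U e)
include S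

variable {E : Subgroup G} [hEn : E.Normal] (hZE : Z ≤ E)
include hZE

omit hEn in
/-- an element of `Q` commuting with the blocks outside `E` lies in `E` -/
theorem mem_E {x : G} (hx : x ∈ Q) (h : ∀ l, ¬ U l ≤ E → ∀ u ∈ U l, x * u = u * x) : x ∈ E := by
  have F := S.toFrame
  obtain ⟨a, ha, b, hb, c, hc, rfl⟩ := FrameL.dec F hx
  have hab := F.comm 0 1 (by decide) a ha b hb
  have hac := F.comm 0 2 (by decide) a ha c hc
  have hbc := F.comm 1 2 (by decide) b hb c hc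
  have h0 : a ∈ E := by
    by_cases h0 : U 0 ≤ E
    · exact h0 ha
    · refine hZE (S.comp_central (i := 0) ha (y := b * c) ?_ ?_)
      · intro u hu
        have e1 : Commute b u := F.comm 1 0 (by decide) b hb u hu
        have e2 : Commute c u := F.comm 2 0 (by decide) c hc u hu
        exact (e1.mul_left e2).eq
      · intro u hu
        rw [← mul_assoc a b c]
        exact h 0 h0 u hu
  have h1 : b ∈ E := by
    by_cases h0 : U 1 ≤ E
    · exact h0 hb
    · refine hZE (S.comp_central (i := 1) hb (y := a * c) ?_ ?_)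
      · intro u hu
        have e1 : Commute a u := F.comm 0 1 (by decide) a ha u hu
        have e2 : Commute c u := F.comm 2 1 (by decide) c hc u hu
        exact (e1.mul_left e2).eq
      · intro u hu
        have e3 : b * (a * c) = a * b * c := by rw [← mul_assoc, ← hab]
        rw [e3]
        exact h 1 h0 u hu
  have h2 : c ∈ E := by
    by_cases h0 : U 2 ≤ E
    · exact h0 hc
    · refine hZE (S.comp_central (i := 2) hc (y := a * b) ?_ ?_)
      · intro u hu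
        have e1 : Commute a u := F.comm 0 2 (by decide) a ha u hu
        have e2 : Commute b u := F.comm 1 2 (by decide) b hb u hu
        exact (e1.mul_left e2).eq
      · intro u hu
        have e3 : c * (a * b) = a * b * c := by
          calc c * (a * b) = (c * a) * b := by group
            _ = (a * c) * b := by rw [hac]
            _ = a * (c * b) := by group
            _ = a * (b * c) := by rw [hbc]
            _ = _ := by group
        rw [e3]
        exact h 2 h0 u hu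
  exact E.mul_mem (E.mul_mem h0 h1) h2

/-- **`Q` lies in every normal subgroup containing `Z`.** -/
theorem Q_le [Finite G] : Q ≤ E := by
  classical
  have F := S.toFrame
  by_contra hQ
  obtain ⟨i, hi⟩ : ∃ i, ¬ U i ≤ E := by
    by_contra hcon
    push Not at hcon
    apply hQ
    rw [F.sup]
    exact sup_le (sup_le (hcon 0) (hcon 1)) (hcon 2)
  obtain ⟨D, hD⟩ : ∃ D, D = E ⊓ centralizer (Z : Set G) := ⟨_, rfl⟩
  have hZD : Z ≤ D := hD ▸ le_inf hZE ((FrameL.ZleQ F).trans F.QleC)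
  have hDn : ∀ c ∈ centralizer (Z : Set G), c ∈ normalizer (D : Set G) := by
    refine le_normalizer_of_conj fun c hc y hy => ?_
    rw [hD] at hy ⊢
    exact ⟨hEn.conj_mem y hy.1 c, (centralizer (Z : Set G)).mul_mem ((centralizer (Z : Set G)).mul_mem hc hy.2)
      ((centralizer (Z : Set G)).inv_mem hc)⟩
  obtain ⟨M, hM⟩ : ∃ M, M = centralizer (D : Set G) := ⟨_, rfl⟩
  have hMD : ∀ m ∈ M, ∀ d ∈ D, d * m = m * d := by
    intro m hm d hd
    rw [hM] at hm
    exact mem_centralizer_iff.1 hm d hd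
  have hMC : M ≤ centralizer (Z : Set G) := by
    rw [hM]
    exact Subgroup.centralizer_le hZD
  have hMn : ∀ c ∈ centralizer (Z : Set G), ∀ x ∈ M, c * x * c⁻¹ ∈ M := by
    intro c hc x hx
    rw [hM] at hx ⊢
    exact conj_mem_centralizer (hDn c hc) hx
  have hME : ∀ x ∈ M, x ∈ E → x ∈ Z := by
    intro x hx hxE
    refine S.loc.ab (M ⊓ E) (inf_le_left.trans hMC) ?_ ?_ ⟨hx, hxE⟩
    · exact le_normalizer_of_conj fun c hc y hy => ⟨hMn c hc y hy.1, hEn.conj_mem y hy.2 c⟩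
    · intro a ha b hb
      refine (hMD b hb.1 a ?_)
      rw [hD]
      exact ⟨ha.2, hMC ha.1⟩
  have hUM : ∀ l, ¬ U l ≤ E → U l ≤ M ∧ e l ∈ M := by
    intro l hl
    have h1 : ∀ d ∈ D, e l * d = d * e l ∧ ∀ u ∈ U l, d * u = u * d := by
      intro d hd
      rw [hD] at hd
      exact S.central hZE hl hd.1 hd.2
    rw [hM]
    refine ⟨fun u hu => mem_centralizer_iff.2 fun d hd => (h1 d hd).2 u hu,
      mem_centralizer_iff.2 fun d hd => (h1 d hd).1.symm⟩
  have hJ : ∀ l, U l ≤ E → U l ≤ D := fun l hl => hD ▸ le_inf hl (FrameL.UleC F l)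
  obtain ⟨g, hgQ, hgZ⟩ := S.fus
  obtain ⟨M', hM'⟩ : ∃ M' : Subgroup G, ∀ x, x ∈ M' ↔ g⁻¹ * x * g ∈ M := by
    refine ⟨M.comap (MulAut.conj g⁻¹).toMonoidHom, fun x => ?_⟩
    rw [Subgroup.mem_comap]
    change g⁻¹ * x * g⁻¹⁻¹ ∈ M ↔ _
    rw [inv_inv]
  have hM'g : ∀ m ∈ M, g * m * g⁻¹ ∈ M' := by
    intro m hm
    rw [hM']
    have : g⁻¹ * (g * m * g⁻¹) * g = m := by group
    rwa [this]
  have hgD : ∀ z ∈ Z, g * z * g⁻¹ ∈ D := by
    intro z hz
    rw [hD]
    exact ⟨hEn.conj_mem z (hZE hz) g, F.QleC (hgQ z hz)⟩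
  -- (1)
  have h1 : ∀ m ∈ M, g⁻¹ * m * g ∈ centralizer (Z : Set G) := by
    intro m hm
    refine mem_centralizer_iff.2 fun z hz => ?_
    have h2 := hMD m hm _ (hgD z hz)
    calc z * (g⁻¹ * m * g) = g⁻¹ * ((g * z * g⁻¹) * m) * g := by group
      _ = g⁻¹ * (m * (g * z * g⁻¹)) * g := by rw [h2]
      _ = g⁻¹ * m * g * z := by group
  -- (2)
  have h2 : M' ≤ centralizer (Z : Set G) := by
    intro x hx
    rw [hM'] at hx
    refine mem_centralizer_iff.2 fun z hz => ?_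
    have h3 : g⁻¹ * z * g ∈ D := by
      rw [hD]
      refine ⟨?_, ?_⟩
      · have := hEn.conj_mem z (hZE hz) g⁻¹
        rwa [inv_inv] at this
      · refine mem_centralizer_iff.2 fun w hw => ?_
        have h4 := FrameL.zc F hz (F.QleC (hgQ w hw))
        calc w * (g⁻¹ * z * g) = g⁻¹ * ((g * w * g⁻¹) * z) * g := by group
          _ = g⁻¹ * (z * (g * w * g⁻¹)) * g := by rw [h4]
          _ = g⁻¹ * z * g * w := by group
    have h4 := hMD _ hx _ h3
    calc z * x = g * ((g⁻¹ * z * g) * (g⁻¹ * x * g)) * g⁻¹ := by group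
      _ = g * ((g⁻¹ * x * g) * (g⁻¹ * z * g)) * g⁻¹ := by rw [h4]
      _ = x * z := by group
  -- (3)
  have h3 : ∀ m ∈ M, ∀ x ∈ M', m * x * m⁻¹ ∈ M' := by
    intro m hm x hx
    rw [hM'] at hx ⊢
    have h4 := hMn _ (h1 m hm) _ hx
    have h5 : g⁻¹ * (m * x * m⁻¹) * g = g⁻¹ * m * g * (g⁻¹ * x * g) * (g⁻¹ * m * g)⁻¹ := by group
    rwa [h5]
  -- (4)
  have h4 : ∀ x ∈ M', ∀ m ∈ M, x * m * x⁻¹ ∈ M := fun x hx m hm => hMn x (h2 hx) m hm
  -- `M' ∩ E = Z'`
  have hM'E : ∀ x ∈ M', x ∈ E → g⁻¹ * x * g ∈ Z := by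
    intro x hx hxE
    refine hME _ ((hM' x).1 hx) ?_
    have := hEn.conj_mem x hxE g⁻¹
    rwa [inv_inv] at this
  have hZM' : ∀ z ∈ Z, z ∈ M' → z = 1 := by
    intro z hz hzM
    by_contra hz1
    have h5 := hM'E z hzM (hZE hz)
    apply hgZ
    have h6 : g⁻¹ * z * g ≠ 1 := by
      intro h7
      apply hz1
      calc z = g * (g⁻¹ * z * g) * g⁻¹ := by group
        _ = 1 := by rw [h7]; group
    have h7 : Z ≤ zpowers (g⁻¹ * z * g) := eq_of_mem_of_card_prime Nat.prime_three F.cardZ h5 h6 (mem_zpowers _)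
    intro x hx
    obtain ⟨n, rfl⟩ := mem_zpowers_iff.1 (h7 hx)
    rw [← conj_zpow]
    have h8 : g * (g⁻¹ * z * g) * g⁻¹ = z := by group
    rw [h8]
    exact Z.zpow_mem hz n
  -- (5)
  have hX : M ⊓ M' = ⊥ := by
    have hXQ : Q ≤ normalizer ((M ⊓ M' : Subgroup G) : Set G) := by
      have h5 : ∀ l, U l ≤ normalizer ((M ⊓ M' : Subgroup G) : Set G) := by
        intro l
        refine le_normalizer_of_conj fun u hu y hy => ?_
        by_cases hl : U l ≤ E
        · have h6 := hMD y hy.1 u (hJ l hl hu)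
          rw [h6, mul_inv_cancel_right]
          exact hy
        · have h6 := (hUM l hl).1 hu
          exact ⟨M.mul_mem (M.mul_mem h6 hy.1) (M.inv_mem h6), h3 u h6 y hy.2⟩
      rw [F.sup]
      exact sup_le (sup_le (h5 0) (h5 1)) (h5 2)
    refine FrameL.eq_bot_of_inf F (fun c hc y hy => (mem_normalizer_iff.1 (hXQ hc) y).1 hy) (inf_le_left.trans hMC) ?_
    intro x hx hxQ
    by_cases hxZ : x ∈ Z
    · exact hZM' x hxZ hx.2
    · exfalso
      obtain ⟨l, u, hu, hxu⟩ : ∃ l, ∃ u ∈ U l, x * u ≠ u * x := by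
        by_contra hcon
        push Not at hcon
        exact hxZ (FrameL.mem_Z_of_comm F hcon)
      by_cases hl : U l ≤ E
      · exact hxu (hMD x hx.1 u (hJ l hl hu)).symm
      · have h6 := (hUM l hl).1 hu
        have h7 : u * x * u⁻¹ * x⁻¹ ∈ M' := M'.mul_mem (h3 u h6 x hx.2) (M'.inv_mem hx.2)
        have h8 := hZM' _ (F.comZ u (F.UleQ l hu) x hxQ) h7
        exact hxu (mul_inv_eq_iff_eq_mul.1 (mul_inv_eq_one.1 h8)).symm
  -- (6)
  have h6 : ∀ m ∈ M, ∀ x ∈ M', x * m = m * x := by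
    intro m hm x hx
    have h7 : x * m * x⁻¹ * m⁻¹ ∈ M ⊓ M' := by
      refine ⟨M.mul_mem (h4 x hx m hm) (M.inv_mem hm), ?_⟩
      have h8 : x * m * x⁻¹ * m⁻¹ = x * (m * x⁻¹ * m⁻¹) := by group
      change x * m * x⁻¹ * m⁻¹ ∈ M'
      rw [h8]
      exact M'.mul_mem hx (h3 m hm _ (M'.inv_mem hx))
    rw [hX, Subgroup.mem_bot] at h7
    exact mul_inv_eq_iff_eq_mul.1 (mul_inv_eq_one.1 h7)
  -- (7)
  have h7 : ∀ x ∈ M', x ∈ Q → g⁻¹ * x * g ∈ Z := by
    intro x hx hxQ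
    exact hM'E x hx (S.mem_E hZE hxQ fun l hl u hu => h6 u ((hUM l hl).1 hu) x hx)
  -- the other two blocks
  obtain ⟨j, k, hji, hki, hjk⟩ : ∃ j k : Fin 3, j ≠ i ∧ k ≠ i ∧ j ≠ k := by
    have h0 : ∀ i : Fin 3, ∃ j k : Fin 3, j ≠ i ∧ k ≠ i ∧ j ≠ k := by decide
    exact h0 i
  obtain ⟨π, hπ, hπk⟩ := FrameL.exists_perm F
  have hfixi : ∀ x (hx : x ∈ M'), π ⟨x, h2 hx⟩ i = i := by
    intro x hx
    by_contra hne
    obtain ⟨u, hu, huZ⟩ := FrameL.exists_not_mem F i
    have h8 := (hπ ⟨x, h2 hx⟩ i u).1 hu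
    have h9 : x * u * x⁻¹ = u := by rw [h6 u ((hUM i hi).1 hu) x hx, mul_inv_cancel_right]
    rw [h9] at h8
    exact huZ (FrameL.inf F (Ne.symm hne) hu h8)
  have hKmem : ∀ x (hx : x ∈ M'), π ⟨x, h2 hx⟩ = 1 → x ∈ FrameL.K F := by
    intro x hx h8
    have h9 : (⟨x, h2 hx⟩ : ↥(centralizer (Z : Set G))) ∈ π.ker := h8
    rw [hπk] at h9
    exact h9
  have hT : ∀ u ∈ U i, g * u * g⁻¹ ∈ FrameL.K F := by
    intro u hu
    have hm : g * u * g⁻¹ ∈ M' := hM'g u ((hUM i hi).1 hu)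
    refine hKmem _ hm (perm_fix _ i (hfixi _ hm) ?_)
    rw [← map_pow]
    have h8 : (⟨g * u * g⁻¹, h2 hm⟩ : ↥(centralizer (Z : Set G))) ^ 3 = 1 := by
      apply Subtype.ext
      change (g * u * g⁻¹) ^ 3 = 1
      rw [conj_pow, F.exp u (F.UleQ i hu)]
      group
    rw [h8, map_one]
  obtain ⟨σ, hσ, -⟩ := FrameL.exists_sl3 F
  -- the homomorphism of `U i`
  let φ : ↥(U i) →* ↥(FrameL.K F) :=
    { toFun := fun u => ⟨g * u * g⁻¹, hT u u.2⟩
      map_one' := Subtype.ext (by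
        change g * (1 : G) * g⁻¹ = 1
        group)
      map_mul' := fun u v => Subtype.ext (by
        change g * ((u : G) * v) * g⁻¹ = (g * u * g⁻¹) * (g * v * g⁻¹)
        group) }
  have hφ : ∀ u : ↥(U i), ((φ u : ↥(FrameL.K F)) : G) = g * u * g⁻¹ := fun _ => rfl
  obtain ⟨x, hxi, hxZ, hxk⟩ : ∃ x, ∃ hx : x ∈ U i, x ∉ Z ∧ σ k (φ ⟨x, hx⟩) = 1 := by
    by_contra hcon
    push Not at hcon
    have h8 := Subgroup.card_mul_index ((σ k).comp φ).ker
    rw [Subgroup.index_ker, F.cardU i] at h8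
    have h9 : Nat.card ↥((σ k).comp φ).ker ≤ Nat.card ↥Z := by
      have hfinZ : Finite ↥Z := inferInstance
      refine Nat.card_le_card_of_injective (fun q : ↥((σ k).comp φ).ker => (⟨((q : ↥(U i)) : G), ?_⟩ : ↥Z)) ?_
      · by_contra hq
        exact hcon _ (q : ↥(U i)).2 hq q.2
      · intro a b hab
        have := congrArg Subtype.val hab
        exact Subtype.ext (Subtype.ext this)
    rw [F.cardZ] at h9
    have h10 : Nat.card ↥((σ k).comp φ).range ∣ 24 := by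
      rw [← card_sl23]
      exact Subgroup.card_subgroup_dvd_card _
    have h11 : 0 < Nat.card ↥((σ k).comp φ).ker := Nat.card_pos
    obtain ⟨a, ha⟩ : ∃ a, a = Nat.card ↥((σ k).comp φ).ker := ⟨_, rfl⟩
    obtain ⟨b, hb⟩ : ∃ b, b = Nat.card ↥((σ k).comp φ).range := ⟨_, rfl⟩
    rw [← ha, ← hb] at h8
    rw [← ha] at h9 h11
    rw [← hb] at h10
    interval_cases a
    · have : b = 27 := by omega
      rw [this] at h10
      omega
    · omega
    · have : b = 9 := by omega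
      rw [this] at h10
      omega
  obtain ⟨X, hX'⟩ : ∃ X, X = φ ⟨x, hxi⟩ := ⟨_, rfl⟩
  have hXv : (X : G) = g * x * g⁻¹ := by rw [hX', hφ]
  have hXM : (X : G) ∈ M' := by rw [hXv]; exact hM'g x ((hUM i hi).1 hxi)
  rw [← hX'] at hxk
  have hXi : σ i X = 1 := by
    rw [hσ]
    intro u hu
    rw [h6 u ((hUM i hi).1 hu) X hXM, mul_inv_cancel_right, mul_inv_cancel]
    exact Z.one_mem
  have hXj : σ j X ≠ 1 := by
    intro h8
    apply hxZ
    have h9 : (X : G) ∈ Q := by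
      refine FrameL.kernel F fun l => ?_
      have hl : l = i ∨ l = j ∨ l = k := by
        have h0 : ∀ i j k l : Fin 3, j ≠ i → k ≠ i → j ≠ k → l = i ∨ l = j ∨ l = k := by decide
        exact h0 i j k l hji hki hjk
      rcases hl with rfl | rfl | rfl
      · exact (hσ _ X).1 hXi
      · exact (hσ _ X).1 h8
      · exact (hσ _ X).1 hxk
    have h10 := h7 _ hXM h9
    rw [hXv] at h10
    have h11 : g⁻¹ * (g * x * g⁻¹) * g = x := by group
    rwa [h11] at h10
  -- the involution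
  obtain ⟨f, hf⟩ : ∃ f, f = g * e i * g⁻¹ := ⟨_, rfl⟩
  have hfM : f ∈ M' := hf ▸ hM'g _ (hUM i hi).2
  have hff : f * f = 1 := by
    rw [hf]
    have h8 : g * e i * g⁻¹ * (g * e i * g⁻¹) = g * (e i * e i) * g⁻¹ := by group
    rw [h8, F.e2 i]
    group
  obtain ⟨v, hvZ, hfX⟩ : ∃ v ∈ Z, f * X * f⁻¹ = (X : G)⁻¹ * (g * v * g⁻¹) := by
    refine ⟨x * (e i * x * (e i)⁻¹), ?_, ?_⟩
    · have h8 := F.einv i x hxi
      have h9 : x * (e i * x * (e i)⁻¹) = x * (e i * x * (e i)⁻¹ * x) * x⁻¹ := by group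
      rw [h9, ← FrameL.zc F h8 (FrameL.UleC F i hxi), mul_inv_cancel_right]
      exact h8
    · rw [hf, hXv]
      group
  have hvQ : g * v * g⁻¹ ∈ Q := hgQ v hvZ
  by_cases hp : π ⟨f, h2 hfM⟩ = 1
  · -- `f` fixes all blocks
    have hfK : f ∈ FrameL.K F := hKmem f hfM hp
    have h8 : σ j ⟨f, hfK⟩ * σ j ⟨f, hfK⟩ = 1 := by
      rw [← map_mul]
      have : (⟨f, hfK⟩ : ↥(FrameL.K F)) * ⟨f, hfK⟩ = 1 := Subtype.ext hff
      rw [this, map_one]
    have h9 := neg_one_comm (sl23_sq _ h8) (σ j X)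
    rw [← map_inv, ← map_mul, ← map_mul] at h9
    have h10 : (⟨f, hfK⟩ : ↥(FrameL.K F)) * X * (⟨f, hfK⟩)⁻¹ = X⁻¹ * ⟨g * v * g⁻¹, FrameL.QleK F hvQ⟩ :=
      Subtype.ext hfX
    have h11 : σ j ⟨g * v * g⁻¹, FrameL.QleK F hvQ⟩ = 1 :=
      (hσ j _).2 fun u hu => F.comZ _ hvQ u (F.UleQ j hu)
    rw [h10, map_mul, map_inv, h11, mul_one] at h9
    have h12 : σ j X * σ j X = 1 := by
      nth_rw 1 [← h9]
      exact inv_mul_cancel _
    have h13 : σ j X ^ 3 = 1 := by
      rw [← map_pow]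
      have : X ^ 3 = 1 := by
        apply Subtype.ext
        change (X : G) ^ 3 = 1
        rw [hXv, conj_pow, F.exp x (F.UleQ i hxi)]
        group
      rw [this, map_one]
    apply hXj
    rw [pow_succ, pow_two, h12, one_mul] at h13
    exact h13
  · -- `f` interchanges the other blocks
    obtain ⟨-, h8⟩ := perm_swap _ i j k (hfixi f hfM) hp hji hki hjk
    apply hXj
    rw [hσ]
    have hxk' := (hσ k X).1 hxk
    -- `f X f⁻¹` is trivial on `U j`
    have h9 : ∀ u ∈ U j, (X : G)⁻¹ * u * X * u⁻¹ ∈ Z := by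
      intro u hu
      have h10 : f⁻¹ * u * f ∈ U k := by
        rw [hπ ⟨f, h2 hfM⟩ k, h8]
        have h11 : f * (f⁻¹ * u * f) * f⁻¹ = u := by group
        change f * (f⁻¹ * u * f) * f⁻¹ ∈ U j
        rw [h11]
        exact hu
      have h11 := hxk' _ h10
      have h12 : (f * X * f⁻¹) * u * (f * X * f⁻¹)⁻¹ * u⁻¹ =
          f * ((X : G) * (f⁻¹ * u * f) * (X : G)⁻¹ * (f⁻¹ * u * f)⁻¹) * f⁻¹ := by group
      have h13 : (f * X * f⁻¹) * u * (f * X * f⁻¹)⁻¹ * u⁻¹ ∈ Z := by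
        rw [h12, ← FrameL.zc F h11 (h2 hfM), mul_inv_cancel_right]
        exact h11
      rw [hfX] at h13
      obtain ⟨w, hw⟩ : ∃ w, w = (g * v * g⁻¹) * u * (g * v * g⁻¹)⁻¹ * u⁻¹ := ⟨_, rfl⟩
      have hwZ : w ∈ Z := hw ▸ F.comZ _ hvQ u (F.UleQ j hu)
      have h14 : (X : G)⁻¹ * (g * v * g⁻¹) * u * ((X : G)⁻¹ * (g * v * g⁻¹))⁻¹ * u⁻¹ =
          w * ((X : G)⁻¹ * u * X * u⁻¹) := by
        calc (X : G)⁻¹ * (g * v * g⁻¹) * u * ((X : G)⁻¹ * (g * v * g⁻¹))⁻¹ * u⁻¹
            = (X : G)⁻¹ * ((g * v * g⁻¹) * u * (g * v * g⁻¹)⁻¹ * u⁻¹) * (u * X * u⁻¹) := by group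
          _ = ((X : G)⁻¹ * w) * (u * X * u⁻¹) := by rw [← hw]
          _ = (w * (X : G)⁻¹) * (u * X * u⁻¹) := by rw [FrameL.zc F hwZ (inv_mem (h2 hXM))]
          _ = _ := by group
      rw [h14] at h13
      exact (Z.mul_mem_cancel_left hwZ).1 h13
    intro u hu
    have h10 : (X : G) * u * (X : G)⁻¹ ∈ U j := (X.2.2 j u).1 hu
    have h11 := h9 _ h10
    have h12 : (X : G)⁻¹ * ((X : G) * u * (X : G)⁻¹) * X * ((X : G) * u * (X : G)⁻¹)⁻¹ =
        ((X : G) * u * (X : G)⁻¹ * u⁻¹)⁻¹ := by group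
    rw [h12] at h11
    exact inv_mem_iff.1 h11

end Setup

end Cfsg.Agent.H349.T3
end

-- part: H349/T3/AbSq
section
/-!
# Abelian subgroups of extraspecial groups (helper349)
-/

set_option autoImplicit false

namespace Cfsg.Agent.H349.T3

/-- an abelian subgroup `B ≥ Z` of a group with commutators in the central subgroup `Z` of prime order and centre
`Z` : `|B|² ≤ |Q| |Z|` -/
theorem abelian_sq {Q : Type*} [Group Q] [Finite Q] {p : ℕ} [Fact p.Prime] (Z B : Subgroup Q)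
    (hZc : ∀ z ∈ Z, ∀ q : Q, z * q = q * z) (hcom : ∀ x y : Q, x * y * x⁻¹ * y⁻¹ ∈ Z)
    (hcen : ∀ x : Q, (∀ y, x * y = y * x) → x ∈ Z) (hp : Nat.card Z = p) (hZB : Z ≤ B)
    (hB : ∀ a ∈ B, ∀ b ∈ B, a * b = b * a) : Nat.card B * Nat.card B ≤ Nat.card Q * p := by
  classical
  -- an injective character of `Z`
  let _ : CommGroup ↥Z :=
    { (inferInstance : Group ↥Z) with mul_comm := fun a b => Subtype.ext (hZc a a.2 b) }
  obtain ⟨χ, hχ⟩ : ∃ χ : ↥Z →* ℂˣ, Function.Injective χ := by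
    have h1 : Nontrivial ↥Z := by
      rw [← Finite.one_lt_card_iff_nontrivial, hp]
      exact (Fact.out : p.Prime).one_lt
    obtain ⟨a, ha⟩ := exists_ne (1 : ↥Z)
    obtain ⟨χ, hχa⟩ := CommGroup.exists_apply_ne_one_of_hasEnoughRootsOfUnity ↥Z ℂ ha
    refine ⟨χ, ?_⟩
    rw [← MonoidHom.ker_eq_bot_iff]
    have h2 : Nat.card ↥χ.ker ∣ p := by
      rw [← hp]
      exact Subgroup.card_subgroup_dvd_card _
    rcases (Nat.dvd_prime Fact.out).1 h2 with h3 | h3
    · exact Subgroup.eq_bot_of_card_eq _ h3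
    · exfalso
      apply hχa
      have h4 : χ.ker = ⊤ := by
        refine Subgroup.eq_top_of_card_eq _ ?_
        rw [h3, hp]
      have h5 : a ∈ χ.ker := by rw [h4]; exact Subgroup.mem_top a
      exact h5
  have hBn : B.Normal := by
    refine ⟨fun b hb g => ?_⟩
    have h1 : g * b * g⁻¹ = (g * b * g⁻¹ * b⁻¹) * b := by group
    rw [h1]
    exact B.mul_mem (hZB (hcom g b)) hb
  let _ : CommGroup (Q ⧸ B) :=
    { (inferInstance : Group (Q ⧸ B)) with
      mul_comm := by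
        intro a b
        obtain ⟨x, rfl⟩ := QuotientGroup.mk'_surjective B a
        obtain ⟨y, rfl⟩ := QuotientGroup.mk'_surjective B b
        rw [← map_mul, ← map_mul]
        have h4 : QuotientGroup.mk' B ((x * y) * (y * x)⁻¹) = 1 := by
          refine (QuotientGroup.eq_one_iff _).2 (hZB ?_)
          have h5 : (x * y) * (y * x)⁻¹ = x * y * x⁻¹ * y⁻¹ := by group
          rw [h5]
          exact hcom x y
        rw [map_mul, map_inv] at h4
        exact mul_inv_eq_one.1 h4 }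
  -- commutators are bimultiplicative
  have hm1 : ∀ x y v : Q, x * y * v * (x * y)⁻¹ * v⁻¹ = (x * v * x⁻¹ * v⁻¹) * (y * v * y⁻¹ * v⁻¹) := by
    intro p q v
    obtain ⟨w, hw⟩ : ∃ w, w = q * v * q⁻¹ * v⁻¹ := ⟨_, rfl⟩
    have hwZ : w ∈ Z := hw ▸ hcom q v
    have h1 : q * v * q⁻¹ = w * v := by rw [hw]; group
    calc p * q * v * (p * q)⁻¹ * v⁻¹ = p * (q * v * q⁻¹) * p⁻¹ * v⁻¹ := by group
      _ = (p * w) * v * p⁻¹ * v⁻¹ := by rw [h1]; group
      _ = (w * p) * v * p⁻¹ * v⁻¹ := by rw [hZc w hwZ]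
      _ = w * (p * v * p⁻¹ * v⁻¹) := by group
      _ = (p * v * p⁻¹ * v⁻¹) * w := hZc w hwZ _
      _ = (p * v * p⁻¹ * v⁻¹) * (q * v * q⁻¹ * v⁻¹) := by rw [hw]
  have hm2 : ∀ v x y : Q, v * (x * y) * v⁻¹ * (x * y)⁻¹ = (v * x * v⁻¹ * x⁻¹) * (v * y * v⁻¹ * y⁻¹) := by
    intro v x y
    obtain ⟨w, hw⟩ : ∃ w, w = v * y * v⁻¹ * y⁻¹ := ⟨_, rfl⟩
    have hwZ : w ∈ Z := hw ▸ hcom v y
    have h1 : v * y * v⁻¹ = w * y := by rw [hw]; group
    calc v * (x * y) * v⁻¹ * (x * y)⁻¹ = v * x * v⁻¹ * (v * y * v⁻¹) * y⁻¹ * x⁻¹ := by group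
      _ = v * x * v⁻¹ * w * x⁻¹ := by rw [h1]; group
      _ = v * x * v⁻¹ * (x⁻¹ * w) := by rw [← hZc w hwZ x⁻¹]; group
      _ = (v * x * v⁻¹ * x⁻¹) * (v * y * v⁻¹ * y⁻¹) := by rw [hw]; group
  let ψ : ↥B → (Q ⧸ B →* ℂˣ) := fun b => QuotientGroup.lift B
    { toFun := fun q => χ ⟨q * b * q⁻¹ * (b : Q)⁻¹, hcom q b⟩
      map_one' := by
        have : (⟨1 * (b : Q) * 1⁻¹ * (b : Q)⁻¹, hcom 1 b⟩ : ↥Z) = 1 := Subtype.ext (by
          change 1 * (b : Q) * 1⁻¹ * (b : Q)⁻¹ = 1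
          group)
        rw [this, map_one]
      map_mul' := fun x y => by
        rw [← map_mul]
        congr 1
        exact Subtype.ext (hm1 x y b) } (by
      intro q hq
      change χ ⟨q * b * q⁻¹ * (b : Q)⁻¹, hcom q b⟩ = 1
      have : (⟨q * b * q⁻¹ * (b : Q)⁻¹, hcom q b⟩ : ↥Z) = 1 := Subtype.ext (by
        change q * b * q⁻¹ * (b : Q)⁻¹ = 1
        rw [hB q hq b b.2, mul_inv_cancel_right, mul_inv_cancel])
      rw [this, map_one])
  have hψ : ∀ (b : ↥B) (q : Q), ψ b (QuotientGroup.mk' B q) = χ ⟨q * b * q⁻¹ * (b : Q)⁻¹, hcom q b⟩ := fun _ _ => rfl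
  let Ψ : ↥B →* (Q ⧸ B →* ℂˣ) :=
    { toFun := ψ
      map_one' := by
        apply MonoidHom.ext
        intro a
        obtain ⟨q, rfl⟩ := QuotientGroup.mk'_surjective B a
        rw [hψ]
        have : (⟨q * ((1 : ↥B) : Q) * q⁻¹ * ((1 : ↥B) : Q)⁻¹, hcom q (1 : ↥B)⟩ : ↥Z) = 1 := Subtype.ext (by
          change q * (1 : Q) * q⁻¹ * (1 : Q)⁻¹ = 1
          group)
        rw [this, map_one]
        rfl
      map_mul' := by
        intro b c
        apply MonoidHom.ext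
        intro a
        obtain ⟨q, rfl⟩ := QuotientGroup.mk'_surjective B a
        rw [MonoidHom.mul_apply, hψ, hψ, hψ, ← map_mul]
        congr 1
        exact Subtype.ext (hm2 q b c) }
  have hker : ∀ b : ↥B, b ∈ Ψ.ker → (b : Q) ∈ Z := by
    intro b hb
    refine hcen b fun y => ?_
    have h1 : Ψ b = 1 := hb
    have h2 : ψ b (QuotientGroup.mk' B y) = 1 := by
      change Ψ b (QuotientGroup.mk' B y) = 1
      rw [h1]
      rfl
    rw [hψ] at h2
    have h3 := hχ (h2.trans (map_one χ).symm)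
    have h4 : y * b * y⁻¹ * (b : Q)⁻¹ = 1 := congrArg Subtype.val h3
    exact (mul_inv_eq_iff_eq_mul.1 (mul_inv_eq_one.1 h4)).symm
  have h1 := Subgroup.card_mul_index Ψ.ker
  rw [Subgroup.index_ker] at h1
  have h2 : Nat.card ↥Ψ.ker ≤ Nat.card ↥Z := by
    refine Nat.card_le_card_of_injective (fun q : ↥Ψ.ker => (⟨((q : ↥B) : Q), hker q q.2⟩ : ↥Z)) ?_
    intro a b hab
    have := congrArg Subtype.val hab
    exact Subtype.ext (Subtype.ext this)
  rw [hp] at h2
  have hcard : Nat.card (Q ⧸ B →* ℂˣ) = Nat.card (Q ⧸ B) := CommGroup.card_monoidHom_of_hasEnoughRootsOfUnity (Q ⧸ B) ℂ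
  have hfin : Finite (Q ⧸ B →* ℂˣ) := by
    refine Nat.finite_of_card_ne_zero ?_
    rw [hcard]
    exact Nat.card_pos.ne'
  have h3 : Nat.card ↥Ψ.range ≤ Nat.card (Q ⧸ B) := by
    rw [← hcard]
    exact Nat.card_le_card_of_injective _ Subtype.val_injective
  have h4 := Subgroup.card_eq_card_quotient_mul_card_subgroup B
  rw [h4]
  calc Nat.card B * Nat.card B = (Nat.card ↥Ψ.ker * Nat.card ↥Ψ.range) * Nat.card B := by rw [h1]
    _ ≤ (p * Nat.card (Q ⧸ B)) * Nat.card B := Nat.mul_le_mul_right _ (Nat.mul_le_mul h2 h3)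
    _ = Nat.card (Q ⧸ B) * Nat.card B * p := by ring

end Cfsg.Agent.H349.T3
end

-- part: H349/T3/CandOf
section
/-!
# Local analysis in a frame, part 4: the properties of the simple group (helper349)
-/

set_option autoImplicit false

namespace Cfsg.Agent.H349.T3

open Cfsg Cfsg.Agent.H341.Weak Cfsg.Agent.H261 Subgroup

universe u

/-- `|A| = |A ∩ N| |A N / N|` -/
theorem card_inf_mul {G : Type*} [Group G] [Finite G] (N A : Subgroup G) [N.Normal] :
    Nat.card (A ⊓ N : Subgroup G) * Nat.card (A.map (QuotientGroup.mk' N)) = Nat.card A := by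
  let f : ↥A →* G ⧸ N := (QuotientGroup.mk' N).comp A.subtype
  have h1 := Subgroup.card_mul_index f.ker
  rw [Subgroup.index_ker] at h1
  have h2 : f.range = A.map (QuotientGroup.mk' N) := by
    rw [MonoidHom.range_comp, Subgroup.range_subtype]
  have h3 : Nat.card ↥f.ker = Nat.card ↥(A ⊓ N : Subgroup G) := by
    refine Nat.card_congr ⟨fun x => ⟨((x : ↥A) : G), (x : ↥A).2, ?_⟩, fun x => ⟨⟨x, x.2.1⟩, ?_⟩, fun _ => rfl,
      fun _ => rfl⟩
    · exact (QuotientGroup.eq_one_iff _).1 x.2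
    · exact (QuotientGroup.eq_one_iff _).2 x.2.2
  rw [← h3, ← h2, h1]

namespace FrameL

variable {G : Type u} [Group G] [Finite G] {Z Q : Subgroup G} {U : Fin 3 → Subgroup G} {e : Fin 3 → G}
  (F : Frame Z Q U e)
include F

omit [Finite G] in
theorem conjZ {z c : G} (hz : z ∈ Z) (hc : c ∈ centralizer (Z : Set G)) : c * z * c⁻¹ = z := by
  rw [← zc F hz hc, mul_inv_cancel_right]

/-- a subgroup `W` between `Z` and `Q` with centre `Z`: its abelian subgroups are small -/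
theorem abel {W B : Subgroup G} (hWQ : W ≤ Q) (hZW : Z ≤ W) (hcen : ∀ x ∈ W, (∀ y ∈ W, x * y = y * x) → x ∈ Z)
    (hBW : B ≤ W) (hB : ∀ a ∈ B, ∀ b ∈ B, a * b = b * a) : Nat.card B * Nat.card B ≤ Nat.card W * 3 := by
  have hp3 : Fact (Nat.Prime 3) := ⟨Nat.prime_three⟩
  have hcomm : ∀ x ∈ B ⊔ Z, ∀ y ∈ B ⊔ Z, x * y = y * x := by
    have h0 : B ≤ centralizer (B : Set G) := fun a ha => mem_centralizer_iff.2 fun b hb => hB b hb a ha
    have hBC : B ≤ centralizer (Z : Set G) := (hBW.trans hWQ).trans F.QleC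
    have hZA : Z ≤ centralizer (B : Set G) := by
      intro z hz
      exact mem_centralizer_iff.2 fun a ha => (FrameL.zc F hz (hBC ha)).symm
    have hZZ : Z ≤ centralizer (Z : Set G) := (FrameL.ZleQ F).trans F.QleC
    have h1 : B ⊔ Z ≤ centralizer ((B ⊔ Z : Subgroup G) : Set G) := by
      refine sup_le ?_ ?_
      · rw [Subgroup.le_centralizer_iff]
        exact sup_le h0 hZA
      · rw [Subgroup.le_centralizer_iff]
        exact sup_le hBC hZZ
    intro x hx y hy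
    exact mem_centralizer_iff.1 (h1 hy) x hx
  have hBZW : B ⊔ Z ≤ W := sup_le hBW hZW
  have h1 := abelian_sq (Q := ↥W) (p := 3) (Z.subgroupOf W) ((B ⊔ Z).subgroupOf W)
    (fun z hz q => Subtype.ext (zc F hz (F.QleC (hWQ q.2))))
    (fun x y => F.comZ x (hWQ x.2) y (hWQ y.2))
    (fun x hx => hcen x x.2 fun y hy => congrArg Subtype.val (hx ⟨y, hy⟩))
    (by rw [← F.cardZ]; exact Nat.card_congr (Subgroup.subgroupOfEquivOfLe hZW).toEquiv)
    (fun x hx => (le_sup_right (a := B)) hx)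
    (fun a ha b hb => Subtype.ext (hcomm a ha b hb))
  rw [Nat.card_congr (Subgroup.subgroupOfEquivOfLe hBZW).toEquiv] at h1
  have h2 : Nat.card B ≤ Nat.card (B ⊔ Z : Subgroup G) :=
    Nat.le_of_dvd Nat.card_pos (Subgroup.card_dvd_of_le le_sup_left)
  exact (Nat.mul_le_mul h2 h2).trans h1

theorem abel_Q {B : Subgroup G} (hBQ : B ≤ Q) (hB : ∀ a ∈ B, ∀ b ∈ B, a * b = b * a) : Nat.card B ≤ 81 := by
  have h1 := abel F le_rfl (ZleQ F) F.cenZ hBQ hB
  rw [F.cardQ] at h1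
  by_contra hcon
  push Not at hcon
  have h2 : 82 * 82 ≤ Nat.card B * Nat.card B := Nat.mul_le_mul hcon hcon
  norm_num only [] at h1 h2
  omega

/-- centralizers in `Q` of elements outside `Z` have index three -/
theorem card_CQ {t : G} (ht : t ∈ Q) (htZ : t ∉ Z) : Nat.card (Q ⊓ centralizer {t} : Subgroup G) = 3 ^ 6 := by
  have hmul : ∀ p ∈ Q, ∀ q ∈ Q, p * q * t * (p * q)⁻¹ * t⁻¹ = (p * t * p⁻¹ * t⁻¹) * (q * t * q⁻¹ * t⁻¹) := by
    intro p hp q hq
    obtain ⟨w, hw⟩ : ∃ w, w = q * t * q⁻¹ * t⁻¹ := ⟨_, rfl⟩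
    have hwZ : w ∈ Z := hw ▸ F.comZ q hq t ht
    have h1 : q * t * q⁻¹ = w * t := by rw [hw]; group
    have hC : ∀ x ∈ Q, w * x = x * w := fun x hx => zc F hwZ (F.QleC hx)
    calc p * q * t * (p * q)⁻¹ * t⁻¹ = p * (q * t * q⁻¹) * p⁻¹ * t⁻¹ := by group
      _ = (p * w) * t * p⁻¹ * t⁻¹ := by rw [h1]; group
      _ = (w * p) * t * p⁻¹ * t⁻¹ := by rw [hC p hp]
      _ = w * (p * t * p⁻¹ * t⁻¹) := by group
      _ = (p * t * p⁻¹ * t⁻¹) * w := hC _ (ZleQ F (F.comZ p hp t ht))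
      _ = (p * t * p⁻¹ * t⁻¹) * (q * t * q⁻¹ * t⁻¹) := by rw [hw]
  let f : ↥Q →* ↥Z :=
    { toFun := fun q => ⟨q * t * (q : G)⁻¹ * t⁻¹, F.comZ q q.2 t ht⟩
      map_one' := Subtype.ext (by
        change (1 : G) * t * (1 : G)⁻¹ * t⁻¹ = 1
        group)
      map_mul' := fun p q => Subtype.ext (hmul p p.2 q q.2) }
  have hf : Function.Surjective f := by
    rintro ⟨w, hw⟩
    obtain ⟨q, hq, hqt⟩ := conj_line F ht htZ hw
    refine ⟨⟨q, hq⟩, Subtype.ext ?_⟩
    change q * t * q⁻¹ * t⁻¹ = w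
    rw [hqt, mul_inv_cancel_right]
  have h1 := Subgroup.card_mul_index f.ker
  rw [Subgroup.index_ker, MonoidHom.range_eq_top.2 hf, Subgroup.card_top, F.cardZ, F.cardQ] at h1
  have h2 : Nat.card ↥f.ker = Nat.card (Q ⊓ centralizer {t} : Subgroup G) := by
    refine Nat.card_congr ⟨fun x => ⟨((x : ↥Q) : G), (x : ↥Q).2, ?_⟩, fun x => ⟨⟨x, x.2.1⟩, ?_⟩, fun _ => rfl,
      fun _ => rfl⟩
    · have h3 : ((x : ↥Q) : G) * t * ((x : ↥Q) : G)⁻¹ * t⁻¹ = 1 := congrArg Subtype.val x.2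
      exact mem_centralizer_singleton_iff.2 (mul_inv_eq_iff_eq_mul.1 (mul_inv_eq_one.1 h3))
    · refine Subtype.ext ?_
      change (x : G) * t * (x : G)⁻¹ * t⁻¹ = 1
      rw [mem_centralizer_singleton_iff.1 x.2.2, mul_inv_cancel_right, mul_inv_cancel]
  rw [← h2]
  omega

/-- the product of two blocks -/
theorem card_sup {i j : Fin 3} (hij : i ≠ j) : Nat.card (U i ⊔ U j : Subgroup G) = 3 ^ 5 := by
  let f : ↥(U i) × ↥(U j) →* G :=
    { toFun := fun x => (x.1 : G) * x.2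
      map_one' := by simp only [_root_.Prod.fst_one, _root_.OneMemClass.coe_one, _root_.Prod.snd_one, _root_.mul_one]
      map_mul' := fun x y => by
        change ((x.1 : G) * y.1) * (x.2 * y.2) = (x.1 * x.2) * (y.1 * y.2)
        have h1 := F.comm i j hij y.1 y.1.2 x.2 x.2.2
        calc ((x.1 : G) * y.1) * (x.2 * y.2) = x.1 * ((y.1 : G) * x.2) * y.2 := by group
          _ = x.1 * ((x.2 : G) * y.1) * y.2 := by rw [h1]
          _ = _ := by group }
  have hr : f.range = U i ⊔ U j := by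
    apply le_antisymm
    · rintro _ ⟨x, rfl⟩
      exact mul_mem (le_sup_left (a := U i) x.1.2) (le_sup_right (a := U i) x.2.2)
    · refine sup_le ?_ ?_
      · intro x hx
        exact ⟨(⟨x, hx⟩, 1), by change x * (1 : G) = x; group⟩
      · intro x hx
        exact ⟨(1, ⟨x, hx⟩), by change (1 : G) * x = x; group⟩
  have h1 := Subgroup.card_mul_index f.ker
  rw [Subgroup.index_ker, Nat.card_prod, F.cardU, F.cardU, hr] at h1
  have h2 : Nat.card ↥f.ker = Nat.card ↥Z := by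
    refine Nat.card_congr ⟨fun x => ⟨((x : ↥(U i) × ↥(U j)).1 : G), ?_⟩,
      fun x => ⟨(⟨x, F.ZleU i x.2⟩, ⟨(x : G)⁻¹, (U j).inv_mem (F.ZleU j x.2)⟩), ?_⟩, fun x => ?_, fun x => rfl⟩
    · have h3 : ((x : ↥(U i) × ↥(U j)).1 : G) * ((x : ↥(U i) × ↥(U j)).2 : G) = 1 := x.2
      refine inf F hij (x : ↥(U i) × ↥(U j)).1.2 ?_
      rw [eq_inv_of_mul_eq_one_left h3]
      exact (U j).inv_mem (x : ↥(U i) × ↥(U j)).2.2
    · change (x : G) * (x : G)⁻¹ = 1
      rw [mul_inv_cancel]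
    · have h3 : ((x : ↥(U i) × ↥(U j)).1 : G) * ((x : ↥(U i) × ↥(U j)).2 : G) = 1 := x.2
      refine Subtype.ext (Prod.ext (Subtype.ext rfl) (Subtype.ext ?_))
      exact inv_eq_of_mul_eq_one_right h3
  rw [h2, F.cardZ] at h1
  omega

end FrameL

end Cfsg.Agent.H349.T3
end

-- part: H349/T3/CandOf2
section
/-!
# Local analysis in a frame, part 5: the properties of the simple group (helper349)
-/

set_option autoImplicit false

namespace Cfsg.Agent.H349.T3

open Cfsg Cfsg.Agent.H341.Weak Cfsg.Agent.H261 Subgroup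

universe u

namespace FrameL

variable {G : Type u} [Group G] [Finite G] {Z Q : Subgroup G} {U : Fin 3 → Subgroup G} {e : Fin 3 → G}
  (F : Frame Z Q U e)
include F

omit [Finite G] in
theorem normal_subgroupOf {P : Subgroup G} (hP : P ≤ centralizer (Z : Set G)) : (Q.subgroupOf P).Normal := by
  refine ⟨fun n hn g => ?_⟩
  rw [Subgroup.mem_subgroupOf] at hn ⊢
  exact F.conjQ g (hP g.2) n hn

/-- a subgroup of `P` meeting `Q` in an abelian group -/
theorem card_parts {P A : Subgroup G} (hP : P ≤ centralizer (Z : Set G)) (hQP : Q ≤ P) (hAP : A ≤ P)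
    (hA : ∀ a ∈ A, ∀ b ∈ A, a ∈ Q → b ∈ Q → a * b = b * a) :
    ∃ a b c : ℕ, a ≤ 81 ∧ a * b = Nat.card A ∧ b ∣ c ∧ Nat.card P = c * 3 ^ 7 := by
  have hn := normal_subgroupOf F hP
  refine ⟨Nat.card (A.subgroupOf P ⊓ Q.subgroupOf P : Subgroup ↥P),
    Nat.card ((A.subgroupOf P).map (QuotientGroup.mk' (Q.subgroupOf P))), Nat.card (↥P ⧸ Q.subgroupOf P), ?_, ?_,
    Subgroup.card_subgroup_dvd_card _, ?_⟩
  · have h1 : Nat.card (A.subgroupOf P ⊓ Q.subgroupOf P : Subgroup ↥P) =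
        Nat.card ((A.subgroupOf P ⊓ Q.subgroupOf P : Subgroup ↥P).map P.subtype) :=
      (Subgroup.card_map_of_injective P.subtype_injective).symm
    rw [h1]
    refine abel_Q F ?_ ?_
    · rintro _ ⟨x, hx, rfl⟩
      exact hx.2
    · rintro _ ⟨x, hx, rfl⟩ _ ⟨y, hy, rfl⟩
      exact hA x hx.1 y hy.1 hx.2 hy.2
  · rw [card_inf_mul]
    exact Nat.card_congr (Subgroup.subgroupOfEquivOfLe hAP).toEquiv
  · rw [Subgroup.card_eq_card_quotient_mul_card_subgroup (Q.subgroupOf P),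
      Nat.card_congr (Subgroup.subgroupOfEquivOfLe hQP).toEquiv, F.cardQ]

theorem ab_le {P A : Subgroup G} (hP : P ≤ centralizer (Z : Set G)) (hQP : Q ≤ P) (hAP : A ≤ P)
    (hA : ∀ a ∈ A, ∀ b ∈ A, a * b = b * a) : 27 * Nat.card A ≤ Nat.card P := by
  obtain ⟨a, b, c, h1, h2, h3, h4⟩ := card_parts F hP hQP hAP (fun a ha b hb _ _ => hA a ha b hb)
  have hc : 0 < c := by
    rcases Nat.eq_zero_or_pos c with rfl | h
    · have : 0 < Nat.card P := Nat.card_pos
      omega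
    · exact h
  have hb := Nat.le_of_dvd hc h3
  rw [h4, ← h2]
  calc 27 * (a * b) ≤ 27 * (81 * c) := Nat.mul_le_mul_left _ (Nat.mul_le_mul h1 hb)
    _ = c * 3 ^ 7 := by ring

theorem nine {P A : Subgroup G} (hP : P ≤ centralizer (Z : Set G)) (hQP : Q ≤ P) (hAP : A ≤ P)
    (hA : ∀ a ∈ A, ∀ b ∈ A, a ∈ Q → b ∈ Q → a * b = b * a) (hcard : Nat.card A = 3 ^ 6) :
    3 ^ 9 ∣ Nat.card P := by
  obtain ⟨a, b, c, h1, h2, h3, h4⟩ := card_parts F hP hQP hAP hA
  rw [hcard] at h2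
  have hb : b ∣ 3 ^ 6 := Dvd.intro_left a h2
  obtain ⟨j, hj, rfl⟩ := (Nat.dvd_prime_pow Nat.prime_three).1 hb
  have hj2 : 2 ≤ j := by
    by_contra hcon
    have h5 : (3 : ℕ) ^ j ≤ 3 := by
      calc (3 : ℕ) ^ j ≤ 3 ^ 1 := Nat.pow_le_pow_right (by norm_num) (by omega)
        _ = 3 := by norm_num
    have h6 : a * 3 ^ j ≤ 81 * 3 := Nat.mul_le_mul h1 h5
    omega
  rw [h4]
  have h5 : 3 ^ 2 ∣ c := (pow_dvd_pow 3 hj2).trans h3
  have h6 : (3 : ℕ) ^ 9 = 3 ^ 2 * 3 ^ 7 := by norm_num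
  rw [h6]
  exact Nat.mul_dvd_mul_right h5 _

end FrameL

namespace Setup

variable {G : Type u} [Group G] [Finite G] {Z Q : Subgroup G} {U : Fin 3 → Subgroup G} {e : Fin 3 → G}
  (S : Setup Z Q U e)
include S

/-- `3^9` divides `|C_E(Z)|` -/
theorem nine_dvd {E : Subgroup G} [hEn : E.Normal] (hQE : Q ≤ E) :
    3 ^ 9 ∣ Nat.card (E ⊓ centralizer (Z : Set G) : Subgroup G) := by
  have F := S.toFrame
  obtain ⟨g, hgQ, hgZ⟩ := S.fus
  obtain ⟨z, hz, hz1, hZz⟩ := FrameL.exists_gen F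
  have hnot : ∀ w ∈ Z, g * w * g⁻¹ ∈ Z → w = 1 := by
    intro w hw hwg
    by_contra hw1
    apply hgZ
    have h1 : Z ≤ zpowers w := eq_of_mem_of_card_prime Nat.prime_three F.cardZ hw hw1 (mem_zpowers w)
    intro x hx
    obtain ⟨n, rfl⟩ := mem_zpowers_iff.1 (h1 hx)
    rw [← conj_zpow]
    exact Z.zpow_mem hwg n
  have htQ := hgQ z hz
  have htZ : g * z * g⁻¹ ∉ Z := fun h => hz1 (hnot z hz h)
  obtain ⟨B, hB⟩ : ∃ B, B = (Q ⊓ centralizer {g * z * g⁻¹} : Subgroup G).map (MulAut.conj g⁻¹).toMonoidHom := ⟨_, rfl⟩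
  have hBmem : ∀ x ∈ B, g * x * g⁻¹ ∈ Q ∧ g * x * g⁻¹ ∈ centralizer {g * z * g⁻¹} := by
    intro x hx
    rw [hB] at hx
    obtain ⟨y, hy, rfl⟩ := hx
    have h1 : g * ((MulAut.conj g⁻¹).toMonoidHom y) * g⁻¹ = y := by
      change g * (g⁻¹ * y * g⁻¹⁻¹) * g⁻¹ = y
      group
    rw [h1]
    exact hy
  have hBE : B ≤ E ⊓ centralizer (Z : Set G) := by
    intro x hx
    obtain ⟨h1, h2⟩ := hBmem x hx
    refine ⟨?_, ?_⟩
    · have h3 := hEn.conj_mem _ (hQE h1) g⁻¹
      have h4 : g⁻¹ * (g * x * g⁻¹) * g⁻¹⁻¹ = x := by group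
      rwa [h4] at h3
    · refine S.loc.mem_of_comm Nat.prime_three hz hz1 ?_
      have h3 := mem_centralizer_singleton_iff.1 h2
      calc z * x = g⁻¹ * ((g * z * g⁻¹) * (g * x * g⁻¹)) * g := by group
        _ = g⁻¹ * ((g * x * g⁻¹) * (g * z * g⁻¹)) * g := by rw [h3]
        _ = x * z := by group
  refine FrameL.nine F inf_le_right (le_inf hQE F.QleC) hBE ?_ ?_
  · intro a ha b hb haQ hbQ
    have h1 := F.comZ a haQ b hbQ
    have h2 : g * (a * b * a⁻¹ * b⁻¹) * g⁻¹ ∈ Z := by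
      have h3 := F.comZ _ (hBmem a ha).1 _ (hBmem b hb).1
      have h4 : g * a * g⁻¹ * (g * b * g⁻¹) * (g * a * g⁻¹)⁻¹ * (g * b * g⁻¹)⁻¹ =
          g * (a * b * a⁻¹ * b⁻¹) * g⁻¹ := by group
      rwa [h4] at h3
    have h3 := hnot _ h1 h2
    exact mul_inv_eq_iff_eq_mul.1 (mul_inv_eq_one.1 h3)
  · rw [hB, Subgroup.card_map_of_injective (MulAut.conj g⁻¹).injective]
    exact FrameL.card_CQ F htQ htZ

/-- **The properties of the simple group.** -/
theorem cand {E : Subgroup G} [hEn : E.Normal] (hZE : Z ≤ E) (hCE : centralizer (E : Set G) = ⊥) {m : ℕ}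
    (hm7 : 7 ≤ m) (hm : 2 ^ m ∣ Nat.card (centralizer (Z : Set G))) :
    ∃ (z : ↥E) (k : ℕ), Cand z k E.index m ∧
      Nat.card (centralizer ({z} : Set ↥E)) = Nat.card (E ⊓ centralizer (Z : Set G) : Subgroup G) ∧
      Nat.card (centralizer ({z} : Set ↥E)) ∣ Nat.card (centralizer (Z : Set G)) := by
  classical
  have hp3 : Fact (Nat.Prime 3) := ⟨Nat.prime_three⟩
  have F := S.toFrame
  have L := S.loc
  have hQE := S.Q_le hZE
  obtain ⟨z0, hz0, hz01, hZz⟩ := FrameL.exists_gen F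
  obtain ⟨z, hz⟩ : ∃ z : ↥E, (z : G) = z0 := ⟨⟨z0, hZE hz0⟩, rfl⟩
  have hmemC : ∀ x : ↥E, x ∈ centralizer ({z} : Set ↥E) ↔ (x : G) ∈ centralizer (Z : Set G) := by
    intro x
    rw [mem_centralizer_singleton_iff]
    constructor
    · intro h
      refine L.mem_of_comm Nat.prime_three hz0 hz01 ?_
      rw [← hz]
      exact (congrArg Subtype.val h).symm
    · intro h
      apply Subtype.ext
      have h1 := mem_centralizer_iff.1 h z0 hz0
      change (x : G) * z = z * x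
      rw [hz]
      exact h1.symm
  have hmapC : (centralizer ({z} : Set ↥E)).map E.subtype = E ⊓ centralizer (Z : Set G) := by
    ext x
    constructor
    · rintro ⟨y, hy, rfl⟩
      exact ⟨y.2, (hmemC y).1 hy⟩
    · rintro ⟨hxE, hxC⟩
      exact ⟨⟨x, hxE⟩, (hmemC ⟨x, hxE⟩).2 hxC, rfl⟩
  have hcardC : Nat.card (centralizer ({z} : Set ↥E)) = Nat.card (E ⊓ centralizer (Z : Set G) : Subgroup G) := by
    rw [← hmapC, Subgroup.card_map_of_injective E.subtype_injective]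
  have hcdvd : Nat.card (centralizer ({z} : Set ↥E)) ∣ Nat.card (centralizer (Z : Set G)) := by
    rw [hcardC]
    exact Subgroup.card_dvd_of_le inf_le_right
  have hc23 := hcdvd.trans (FrameL.card_C F)
  -- a Sylow subgroup
  have hQp : IsPGroup 3 ↥(Q.subgroupOf E) :=
    (IsPGroup.of_card F.cardQ).of_equiv (Subgroup.subgroupOfEquivOfLe hQE).symm
  obtain ⟨T, hT⟩ := hQp.exists_le_sylow
  obtain ⟨k, hk⟩ := IsPGroup.iff_card.1 T.isPGroup'
  have hTG : IsPGroup 3 ↥((T : Subgroup ↥E).map E.subtype) := T.isPGroup'.map E.subtype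
  have hQT : Q ≤ (T : Subgroup ↥E).map E.subtype := by
    intro q hq
    exact ⟨⟨q, hQE hq⟩, hT hq, rfl⟩
  have hTC : (T : Subgroup ↥E).map E.subtype ≤ centralizer (Z : Set G) := L.le_cent Nat.prime_three hTG hQT
  have hTcard : Nat.card ((T : Subgroup ↥E).map E.subtype) = 3 ^ k := by
    rw [Subgroup.card_map_of_injective E.subtype_injective, hk]
  have hTz : (T : Subgroup ↥E) ≤ centralizer ({z} : Set ↥E) := by
    intro x hx
    exact (hmemC x).2 (hTC ⟨x, hx, rfl⟩)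
  have hkE : 3 ^ k ∣ Nat.card ↥E := by
    rw [← hk]
    exact Subgroup.card_subgroup_dvd_card _
  have hidx : ¬ 3 ∣ (T : Subgroup ↥E).index := T.not_dvd_index
  have hEcard : Nat.card ↥E = 3 ^ k * (T : Subgroup ↥E).index := by
    rw [← hk, Subgroup.card_mul_index]
  have hk9 : 9 ≤ k := by
    have h1 : 3 ^ 9 ∣ Nat.card ↥E := (S.nine_dvd hQE).trans (Subgroup.card_dvd_of_le inf_le_left)
    rw [hEcard] at h1
    have h2 : Nat.Coprime (3 ^ 9) (T : Subgroup ↥E).index :=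
      Nat.Coprime.pow_left _ ((Nat.Prime.coprime_iff_not_dvd Nat.prime_three).2 hidx)
    exact (Nat.pow_dvd_pow_iff_le_right (by norm_num)).1 (h2.dvd_of_dvd_mul_right h1)
  have hkc : 3 ^ k ∣ Nat.card (centralizer ({z} : Set ↥E)) := by
    rw [← hk]
    exact Subgroup.card_dvd_of_le hTz
  have hk11 : k ≤ 11 := by
    have h1 := hkc.trans hc23
    have h2 : Nat.Coprime (3 ^ k) (2 ^ 10) := Nat.Coprime.pow _ _ (by norm_num)
    exact (Nat.pow_dvd_pow_iff_le_right (by norm_num)).1 (h2.dvd_of_dvd_mul_left h1)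
  have hz01o : orderOf z0 = 3 := orderOf_eq_prime (FrameL.cubeZ F hz0) hz01
  have hzo : orderOf z = 3 := by
    rw [← Subgroup.orderOf_coe, hz, hz01o]
  refine ⟨z, k, ⟨hk9, hk11, hkE, ?_, hzo, hkc, hc23, ?_, ?_, ?_, hm7, ?_, ?_⟩, hcardC, hcdvd⟩
  · -- the exact power
    intro h1
    rw [hEcard, pow_succ] at h1
    exact hidx (Nat.dvd_of_mul_dvd_mul_left (by positivity) h1)
  · -- abelian subgroups
    intro A hA hab
    obtain ⟨P, hP⟩ := hA.exists_le_sylow
    obtain ⟨x, hx⟩ := MulAction.exists_smul_eq ↥E P T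
    have h1 : ∀ a ∈ A, x * a * x⁻¹ ∈ (T : Subgroup ↥E) := by
      intro a ha
      rw [← hx]
      exact Subgroup.smul_mem_pointwise_smul a (MulAut.conj x) (P : Subgroup ↥E) (hP ha)
    have h2 := FrameL.ab_le F hTC hQT (A := (A.map (MulAut.conj x).toMonoidHom).map E.subtype) (by
      rintro _ ⟨_, ⟨a, ha, rfl⟩, rfl⟩
      exact ⟨_, h1 a ha, rfl⟩) (by
      rintro _ ⟨_, ⟨a, ha, rfl⟩, rfl⟩ _ ⟨_, ⟨b, hb, rfl⟩, rfl⟩
      rw [← map_mul, ← map_mul, hab a ha b hb, map_mul, map_mul])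
    rw [hTcard, Subgroup.card_map_of_injective E.subtype_injective,
      Subgroup.card_map_of_injective (MulAut.conj x).injective] at h2
    exact h2
  · -- uniqueness
    intro y hy hky
    obtain ⟨R, hR⟩ := Sylow.exists_subgroup_card_pow_prime 3 hky
    have hRcard : Nat.card (R.map (centralizer ({y} : Set ↥E)).subtype) = 3 ^ k := by
      rw [Subgroup.card_map_of_injective (Subgroup.subtype_injective _), hR]
    have hRp : IsPGroup 3 ↥(R.map (centralizer ({y} : Set ↥E)).subtype) := IsPGroup.of_card hRcard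
    obtain ⟨P, hP⟩ := hRp.exists_le_sylow
    have hPR : R.map (centralizer ({y} : Set ↥E)).subtype = (P : Subgroup ↥E) := by
      refine Subgroup.eq_of_le_of_card_ge hP ?_
      rw [hRcard]
      have h1 : Nat.card ↥(P : Subgroup ↥E) = Nat.card ↥(T : Subgroup ↥E) := Nat.card_congr (P.equiv T).toEquiv
      rw [h1, hk]
    obtain ⟨x, hx⟩ := MulAction.exists_smul_eq ↥E P T
    -- `x y x⁻¹` centralizes `T`
    have h1 : ∀ t ∈ (T : Subgroup ↥E), t * (x * y * x⁻¹) = (x * y * x⁻¹) * t := by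
      intro t ht
      rw [← hx] at ht
      obtain ⟨p, hp, hpt⟩ := (Subgroup.mem_smul_pointwise_iff_exists t (MulAut.conj x) (P : Subgroup ↥E)).1 ht
      rw [← hPR] at hp
      obtain ⟨r, -, hr⟩ := hp
      have h2 : p * y = y * p := by
        rw [← hr]
        exact mem_centralizer_singleton_iff.1 r.2
      have h3 : t = x * p * x⁻¹ := hpt.symm
      rw [h3]
      calc x * p * x⁻¹ * (x * y * x⁻¹) = x * (p * y) * x⁻¹ := by group
        _ = x * (y * p) * x⁻¹ := by rw [h2]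
        _ = x * y * x⁻¹ * (x * p * x⁻¹) := by group
    have h2 : ((x * y * x⁻¹ : ↥E) : G) ∈ Z := by
      refine L.center_of_le hQT ?_
      rintro _ ⟨t, ht, rfl⟩
      exact congrArg Subtype.val (h1 t ht)
    have h3 : x * y * x⁻¹ ≠ 1 := by
      intro h4
      have h5 : y = 1 := by
        calc y = x⁻¹ * (x * y * x⁻¹) * x := by group
          _ = 1 := by rw [h4]; group
      rw [h5, orderOf_one] at hy
      omega
    have h4 : x * y * x⁻¹ = z ∨ x * y * x⁻¹ = z⁻¹ := by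
      have h5 : ((x * y * x⁻¹ : ↥E) : G) ∈ zpowers z0 := by rw [← hZz]; exact h2
      have hfin0 : IsOfFinOrder z0 := isOfFinOrder_of_finite z0
      obtain ⟨n, hn, hn'⟩ := (hfin0.mem_zpowers_iff_mem_range_orderOf.1 h5 : _) |> Finset.mem_image.1
      rw [Finset.mem_range, hz01o] at hn
      have hn2 : n = 0 ∨ n = 1 ∨ n = 2 := by omega
      rcases hn2 with rfl | rfl | rfl
      · exfalso
        apply h3
        apply Subtype.ext
        rw [← hn', pow_zero]
        rfl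
      · left
        apply Subtype.ext
        rw [← hn', pow_one, hz]
      · right
        apply Subtype.ext
        rw [← hn']
        change z0 ^ 2 = (z : G)⁻¹
        rw [hz]
        refine eq_inv_of_mul_eq_one_left ?_
        rw [← pow_succ]
        exact FrameL.cubeZ F hz0
    rcases h4 with h5 | h5
    · left; exact isConj_iff.2 ⟨x, h5⟩
    · right; exact isConj_iff.2 ⟨x, h5⟩
  · -- the automorphism group
    rw [mul_comm, Subgroup.card_mul_index]
    have hinj : Function.Injective (MulAut.conjNormal (H := E) : G →* MulAut ↥E) := by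
      rw [← MonoidHom.ker_eq_bot_iff, eq_bot_iff]
      intro x hx
      rw [← hCE]
      refine mem_centralizer_iff.2 fun y hy => ?_
      have h1 : (MulAut.conjNormal x : MulAut ↥E) ⟨y, hy⟩ = ⟨y, hy⟩ := by
        have : (MulAut.conjNormal x : MulAut ↥E) = 1 := hx
        rw [this]
        rfl
      have h2 : x * y * x⁻¹ = y := congrArg Subtype.val h1
      exact (mul_inv_eq_iff_eq_mul.1 h2).symm
    have hfin : Finite (MulAut ↥E) := inferInstance
    exact Subgroup.card_dvd_of_injective _ hinj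
  · -- the 2-part
    refine hm.trans ?_
    have h1 := Subgroup.card_mul_index (E.subgroupOf (centralizer (Z : Set G)))
    have h2 : Nat.card (E.subgroupOf (centralizer (Z : Set G))) = Nat.card (centralizer ({z} : Set ↥E)) := by
      rw [hcardC, ← Subgroup.card_map_of_injective (Subgroup.subtype_injective (centralizer (Z : Set G))),
        Subgroup.subgroupOf_map_subtype]
    rw [← h1, h2, mul_comm]
    refine Nat.mul_dvd_mul_right ?_ _
    exact Subgroup.relIndex_dvd_index_of_normal E (centralizer (Z : Set G))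
  · -- the involution
    intro hidx1
    have hEtop : ∀ x : G, x ∈ E := by
      have h1 : E = ⊤ := Subgroup.index_eq_one.1 hidx1
      intro x
      rw [h1]
      trivial
    have he1 : e 0 ≠ 1 := by
      intro h1
      obtain ⟨x, hx, hxZ⟩ := FrameL.exists_not_mem F 0
      have h2 := F.einv 0 x hx
      rw [h1] at h2
      have h3 : 1 * x * 1⁻¹ * x = x * x := by group
      rw [h3] at h2
      exact hxZ (FrameL.mem_of_sq F (F.UleQ 0 hx) h2)
    have hWQ : U 1 ⊔ U 2 ≤ Q := sup_le (F.UleQ 1) (F.UleQ 2)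
    have hWcard := FrameL.card_sup F (i := 1) (j := 2) (by decide)
    refine ⟨⟨e 0, hEtop _⟩, ?_, (U 1 ⊔ U 2).subgroupOf E, ?_, ?_, ?_, ?_⟩
    · rw [Subgroup.orderOf_mk]
      exact orderOf_eq_prime (by rw [pow_two]; exact F.e2 0) he1
    · intro w hw
      rw [mem_centralizer_singleton_iff]
      apply Subtype.ext
      change (w : G) * e 0 = e 0 * w
      have h1 : U 1 ⊔ U 2 ≤ centralizer {e 0} := by
        refine sup_le ?_ ?_
        · intro x hx
          rw [mem_centralizer_singleton_iff]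
          exact (mul_inv_eq_iff_eq_mul.1 (F.eU 0 1 (by decide) x hx)).symm
        · intro x hx
          rw [mem_centralizer_singleton_iff]
          exact (mul_inv_eq_iff_eq_mul.1 (F.eU 0 2 (by decide) x hx)).symm
      exact mem_centralizer_singleton_iff.1 (h1 hw)
    · rw [Nat.card_congr (Subgroup.subgroupOfEquivOfLe (fun x _ => hEtop x)).toEquiv]
      exact hWcard
    · intro x hx
      exact Subtype.ext (F.exp x (hWQ hx))
    · intro A hAW hab
      have h1 := FrameL.abel F (W := U 1 ⊔ U 2) (B := A.map E.subtype) hWQ ((F.ZleU 1).trans le_sup_left) ?_ ?_ ?_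
      · rw [hWcard, Subgroup.card_map_of_injective E.subtype_injective] at h1
        by_contra hcon
        push Not at hcon
        have h2 : 28 * 28 ≤ Nat.card A * Nat.card A := Nat.mul_le_mul hcon hcon
        norm_num only [] at h1 h2
        omega
      · intro x hx hxc
        refine FrameL.mem_Z_of_comm F fun l u hu => ?_
        have hl : l = 0 ∨ l = 1 ∨ l = 2 := by
          have h0 : ∀ i : Fin 3, i = 0 ∨ i = 1 ∨ i = 2 := by decide
          exact h0 l
        rcases hl with rfl | rfl | rfl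
        · have h2 : U 1 ⊔ U 2 ≤ centralizer {u} := by
            refine sup_le ?_ ?_
            · intro y hy
              exact mem_centralizer_singleton_iff.2 (F.comm 1 0 (by decide) y hy u hu)
            · intro y hy
              exact mem_centralizer_singleton_iff.2 (F.comm 2 0 (by decide) y hy u hu)
          exact mem_centralizer_singleton_iff.1 (h2 hx)
        · exact hxc u ((le_sup_left (a := U 1)) hu)
        · exact hxc u ((le_sup_right (a := U 1)) hu)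
      · rintro _ ⟨a, ha, rfl⟩
        exact hAW ha
      · rintro _ ⟨a, ha, rfl⟩ _ ⟨b, hb, rfl⟩
        exact congrArg Subtype.val (hab a ha b hb)

end Setup

end Cfsg.Agent.H349.T3
end
end
end
end
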